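import Cfsg.Agent.H78.Perp
import Cfsg.Agent.H78.Card
import Cfsg.Agent.H3.FrattiniP
import Cfsg.Agent.H12.Linearize
/-! Elementary abelian subgroups all of whose involutions are centres of extraspecial groups
containing the subgroup; quotients that are direct products; special groups. -/
set_option autoImplicit false
namespace H95
open Subgroup H78 Cfsg

variable {G : Type*} [Group G]

section transv
variable [Finite G] {V : Subgroup G} {Qf : G → Subgroup G}

omit [Finite G] in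
theorem conj_mem_of_xs (hQ : ∀ v ∈ V, v ≠ 1 → XS (Qf v) v ∧ V ≤ Qf v) {v q y : G} (hv : v ∈ V)
    (h1 : v ≠ 1) (hq : q ∈ Qf v) (hy : y ∈ V) : q * y * q⁻¹ ∈ V := by
  rcases (hQ v hv h1).1.conj_eq_or ((hQ v hv h1).2 hy) hq with e | e <;> rw [e]
  exacts [hy, V.mul_mem hy hv]

theorem le_normalizer_of_xs (hQ : ∀ v ∈ V, v ≠ 1 → XS (Qf v) v ∧ V ≤ Qf v) {v : G} (hv : v ∈ V)
    (h1 : v ≠ 1) : Qf v ≤ normalizer (V : Set G) := fun _ hq =>
  mem_normalizer_of_conj_mem fun _ hy => conj_mem_of_xs hQ hv h1 hq hy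

/-- transvections -/
theorem exists_transv (hsq : ∀ v ∈ V, v * v = 1) (hQ : ∀ v ∈ V, v ≠ 1 → XS (Qf v) v ∧ V ≤ Qf v)
    {K : Subgroup G} (hK : K ≤ V) {a b : G} (ha : a ∈ V) (hb : b ∈ V) (haK : a ∉ K) (hbK : b ∉ K)
    (hab : a ≠ b) : ∃ v ∈ V, v ≠ 1 ∧ ∃ q ∈ Qf v, (∀ k ∈ K, q * k * q⁻¹ = k) ∧ q * a * q⁻¹ = b := by
  have hc : ∀ x ∈ V, ∀ y ∈ V, x * y = y * x := fun x hx y hy => congrArg Subtype.val
    (comm_of_sq (A := V) (fun a => Subtype.ext (hsq a a.2)) ⟨x, hx⟩ ⟨y, hy⟩)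
  have hv : a * b ∈ V := V.mul_mem ha hb
  have h1 : a * b ≠ 1 := fun e => hab (mul_left_cancel ((hsq a ha).trans e.symm))
  obtain ⟨hx, hle⟩ := hQ _ hv h1
  let K' : Subgroup G :=
    { carrier := {x | x ∈ K ∨ x * (a * b) ∈ K}
      one_mem' := Or.inl K.one_mem
      mul_mem' := by
        have e0 : ∀ {y : G}, y * (a * b) ∈ K → y ∈ V := fun h => (V.mul_mem_cancel_right hv).1 (hK h)
        rintro x y (hx | hx) (hy | hy)
        · exact Or.inl (K.mul_mem hx hy)
        · exact Or.inr (by rw [mul_assoc]; exact K.mul_mem hx hy)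
        · exact Or.inr (by
            rw [mul_assoc, hc y (hK hy) _ hv, ← mul_assoc]; exact K.mul_mem hx hy)
        · refine Or.inl ?_
          have := K.mul_mem hx hy
          rwa [mul_assoc, hc y (e0 hy) _ hv, ← mul_assoc (a * b), hsq _ hv, one_mul] at this
      inv_mem' := by
        rintro x (hx | hx)
        · exact Or.inl (K.inv_mem hx)
        · have hxV : x ∈ V := (V.mul_mem_cancel_right hv).1 (hK hx)
          rw [inv_eq_of_mul_eq_one_right (hsq x hxV)]
          exact Or.inr hx }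
  have hK' : K' ≤ V := by
    rintro x (hx | hx)
    exacts [hK hx, (V.mul_mem_cancel_right hv).1 (hK hx)]
  obtain ⟨q, hq, h2, h3⟩ := hx.exists_perp (K := K') (hK'.trans hle)
    (Or.inr (by rw [hsq _ hv]; exact K.one_mem)) (hle ha) (by
      rintro (h | h)
      · exact haK h
      · rw [← mul_assoc, hsq a ha, one_mul] at h; exact hbK h)
  refine ⟨_, hv, h1, q, hq, fun k hk => hx.conj_of_cf_zero (h2 k (Or.inl hk)), ?_⟩
  rw [hx.conj_of_cf_one hq (hle ha) h3, ← mul_assoc, hsq a ha, one_mul]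

/-- The extraspecial groups induce all automorphisms. -/
theorem exists_induce (hsq : ∀ v ∈ V, v * v = 1) (hQ : ∀ v ∈ V, v ≠ 1 → XS (Qf v) v ∧ V ≤ Qf v)
    {N : Subgroup G} (hN : ∀ v ∈ V, v ≠ 1 → Qf v ≤ N) (φ : MulAut V) :
    ∃ n ∈ N, ∀ y : V, n * y * n⁻¹ = φ y := by
  suffices h : ∀ (K : Subgroup V) (φ : MulAut V),
      (φ : V →* V).eqLocus (MonoidHom.id V) = K → ∃ n ∈ N, ∀ y : V, n * y * n⁻¹ = φ y from
    h _ φ rfl
  intro K
  induction K using WellFoundedGT.induction with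
  | ind K ih =>
    rintro φ rfl
    by_cases h : ∀ y, φ y = y
    · exact ⟨1, N.one_mem, fun y => by simp [h]⟩
    obtain ⟨a, ha⟩ := not_forall.1 h
    obtain ⟨v, hv, h1, q, hq, h2, h3⟩ := exists_transv hsq hQ
      (K := ((φ : V →* V).eqLocus (MonoidHom.id V)).map V.subtype) (map_subtype_le _) a.2 (φ a).2
      (fun h => ha ((mem_map_iff_mem V.subtype_injective).1 h))
      (fun h => ha (φ.injective ((mem_map_iff_mem V.subtype_injective).1 h)))
      (fun e => ha (Subtype.ext e.symm))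
    let ψ : MulAut V := V.normalizerMonoidHom ⟨q, le_normalizer_of_xs hQ hv h1 hq⟩
    have hψ : ∀ y : V, (ψ y : G) = q * y * q⁻¹ := fun y => rfl
    obtain ⟨n, hn, e⟩ := ih (((ψ⁻¹ * φ : MulAut V) : V →* V).eqLocus (MonoidHom.id V))
      (lt_of_le_of_ne (fun y hy => by
        have hy' : φ y = y := hy
        show ψ⁻¹ (φ y) = y
        rw [hy', MulAut.inv_apply, MulEquiv.symm_apply_eq]
        exact Subtype.ext ((hψ y).trans (h2 _ ⟨y, hy, rfl⟩)).symm) fun e => ha (by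
          have : a ∈ ((ψ⁻¹ * φ : MulAut V) : V →* V).eqLocus (MonoidHom.id V) := by
            show ψ⁻¹ (φ a) = a
            rw [MulAut.inv_apply, MulEquiv.symm_apply_eq]
            exact Subtype.ext ((hψ a).trans h3).symm
          rw [← e] at this
          exact this)) _ rfl
    refine ⟨q * n, N.mul_mem (hN v hv h1 hq) hn, fun y => ?_⟩
    calc _ = q * (n * y * n⁻¹) * q⁻¹ := by group
      _ = ψ ((ψ⁻¹ * φ) y) := by rw [e, hψ]
      _ = _ := by simp

end transv

/-- A group acting on `ker α` compatibly with `π` maps onto a direct product. -/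
theorem exists_prod_hom {L A B : Type*} [Group L] [Group A] [Group B] (α : L →* A)
    (π : α.ker →* B) (hπ : Function.Surjective π) (hB : center B = ⊥)
    {S : Set L} (hS : ∀ n ∈ S, ∀ c c' : α.ker, (c' : L) = n * c * n⁻¹ → π c' = π c)
    (hN : ∀ a, ∃ n ∈ closure S, α n = a) :
    ∃ Φ : L →* A × B, Function.Surjective Φ ∧ (∀ l, (Φ l).1 = α l) ∧
      ∀ c : α.ker, (Φ c).2 = π c := by
  choose ν h2' h1 using hN
  have hk : ∀ l : L, (ν (α l))⁻¹ * l ∈ α.ker := fun l => by simp [MonoidHom.mem_ker, h1]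
  let N : Subgroup L :=
    { carrier := {n | ∀ c c' : α.ker, (c' : L) = n * c * n⁻¹ → π c' = π c}
      one_mem' := fun c c' e => by rw [show c' = c from Subtype.ext (by simpa using e)]
      mul_mem' := fun {a b} ha hb c c' e => by
        rw [ha ⟨b * c * b⁻¹, (MonoidHom.normal_ker α).conj_mem _ c.2 b⟩ c' (by rw [e]; group)]
        exact hb c _ rfl
      inv_mem' := fun {a} ha c c' e => (ha c' c (by rw [e]; group)).symm }
  have h2 : ∀ a, ν a ∈ N := fun a => (closure_le N).2 hS (h2' a)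
  have hNk : ∀ c : α.ker, (c : L) ∈ N → π c = 1 := fun c hc => by
    rw [← mem_bot, ← hB, mem_center_iff]
    intro b
    obtain ⟨d, rfl⟩ := hπ b
    have := hc d (c * d * c⁻¹) rfl
    rw [map_mul, map_mul, map_inv, mul_inv_eq_iff_eq_mul] at this
    exact this.symm
  have key : ∀ (n : L), n ∈ N → ∀ (c : α.ker) (l : L), l = n * c →
      π ⟨_, hk l⟩ = π c := fun n hn c l e => by
    have h3 : (ν (α l))⁻¹ * n ∈ α.ker := by
      rw [MonoidHom.mem_ker, map_mul, map_inv, h1, e, map_mul, MonoidHom.mem_ker.1 c.2]; simp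
    have : (⟨_, hk l⟩ : α.ker) = ⟨_, h3⟩ * c := Subtype.ext (by
      simp only [Subgroup.coe_mul]; rw [mul_assoc, ← e])
    rw [this, map_mul, hNk _ (N.mul_mem (N.inv_mem (h2 _)) hn), one_mul]
  let β : L →* B := MonoidHom.mk' (fun l => π ⟨_, hk l⟩) fun l m => by
    have hm : (ν (α m))⁻¹ * ((ν (α l))⁻¹ * l) * ν (α m) ∈ α.ker := by
      simpa using (MonoidHom.normal_ker α).conj_mem _ (hk l) (ν (α m))⁻¹
    rw [key (ν (α l) * ν (α m)) (N.mul_mem (h2 _) (h2 _)) (⟨_, hm⟩ * ⟨_, hk m⟩) (l * m) (by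
      simp only [Subgroup.coe_mul]; group), map_mul,
      h2 (α m) ⟨_, hm⟩ ⟨_, hk l⟩ (by simp only; group)]
  have hβ : ∀ c : α.ker, β c = π c := fun c => key 1 N.one_mem c c (by simp)
  refine ⟨α.prod β, fun x => ?_, fun _ => rfl, hβ⟩
  obtain ⟨c, hc⟩ := hπ x.2
  refine ⟨ν x.1 * c, Prod.ext ?_ ?_⟩
  · show α (ν x.1 * c) = x.1
    rw [map_mul, h1, MonoidHom.mem_ker.1 c.2, mul_one]
  · exact (key _ (h2 _) c _ rfl).trans hc

theorem isSpecial_of [Finite G] (hG : IsPGroup 2 G) (h1 : ∀ x : G, x * x ∈ center G)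
    (h2 : center G ≤ commutator G) : IsSpecial 2 G := by
  have := Fact.mk Nat.prime_two
  have h3 : frattini G ≤ center G := by
    have := frattini_le_comap_frattini_of_surjective (QuotientGroup.mk'_surjective (center G))
    rw [frattini_eq_bot_of_sq (G := G ⧸ center G) fun x => by
      obtain ⟨y, rfl⟩ := QuotientGroup.mk_surjective x
      exact (QuotientGroup.eq_one_iff _).2 (h1 y), MonoidHom.comap_bot, QuotientGroup.ker_mk'] at this
    exact this
  have h4 := H3.commutator_le_frattini_pgroup hG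
  exact ⟨hG, le_antisymm h3 (h2.trans h4), le_antisymm (h4.trans h3) h2⟩

theorem normal_aut_eq_bot [Finite G] {p : ℕ} [Fact p.Prime] (hp : p ∣ Nat.card G)
    (htr : ∀ a b : G, a ≠ 1 → b ≠ 1 → ∃ φ : MulAut G, φ a = b) {K : Subgroup (MulAut G)}
    (hn : K.Normal) (hK : IsPGroup p K) : K = ⊥ := by
  obtain ⟨a, ha, h1⟩ := hK.exists_fixed_point_of_prime_dvd_card_of_fixed_point G hp (a := 1)
    fun k => map_one (k : MulAut G)
  refine (eq_bot_iff_forall _).2 fun k hk => MulEquiv.ext fun b => ?_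
  by_cases hb : b = 1
  · simp [hb]
  obtain ⟨φ, rfl⟩ := htr a b h1.symm hb
  have : φ⁻¹ (k (φ a)) = a := ha ⟨φ⁻¹ * k * φ⁻¹⁻¹, hn.conj_mem k hk _⟩
  rwa [MulAut.inv_apply, MulEquiv.symm_apply_eq] at this

theorem pCore_eq_ker [Finite G] {p : ℕ} [Fact p.Prime] {A B : Type*} [Group A] [Group B]
    (Φ : G →* A × B) (hΦ : Function.Surjective Φ) (hk : IsPGroup p Φ.ker)
    (hA : ∀ K : Subgroup A, K.Normal → IsPGroup p K → K = ⊥)
    (hB : ∀ K : Subgroup B, K.Normal → IsPGroup p K → K = ⊥) : pCore p G = Φ.ker := by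
  refine le_antisymm (fun x hx => Prod.ext ?_ ?_) (le_pCore inferInstance hk)
  · have := hA ((pCore p G).map ((MonoidHom.fst A B).comp Φ))
      (Normal.map inferInstance _ (Prod.fst_surjective.comp hΦ)) (isPGroup_pCore.map _)
    exact (eq_bot_iff_forall _).1 this _ ⟨x, hx, rfl⟩
  · have := hB ((pCore p G).map ((MonoidHom.snd A B).comp Φ))
      (Normal.map inferInstance _ (Prod.snd_surjective.comp hΦ)) (isPGroup_pCore.map _)
    exact (eq_bot_iff_forall _).1 this _ ⟨x, hx, rfl⟩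

theorem nonempty_mulAut_equiv_SL2 [Finite G] (hsq : ∀ a : G, a * a = 1) {n : ℕ}
    (hn : Nat.card G = 2 ^ n) :
    Nonempty (MulAut G ≃* Matrix.SpecialLinearGroup (Fin n) (ZMod 2)) := by
  have h0 : ∀ r : ZMod 2, r ≠ 0 → r = 1 := by decide
  obtain ⟨e1⟩ := H12.nonempty_mulAut_equiv_GL (p := 2) (comm_of_sq hsq)
    (fun a => by rw [pow_two, hsq]) hn
  exact ⟨e1.trans (MulEquiv.ofBijective Matrix.SpecialLinearGroup.toGL
    ⟨Matrix.SpecialLinearGroup.toGL_injective, fun g =>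
      ⟨⟨g, h0 _ (Matrix.isUnits_det_units g).ne_zero⟩, Units.ext rfl⟩⟩).symm⟩

end H95
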