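import Cfsg.Agent.H14.CBSpec
import Cfsg.Agent.H14.FEKit

/-! Tower CB (S1308): slot Par4. -/

set_option autoImplicit false

namespace H95.CbPar4

open Cfsg Subgroup MulAction H14 H98 H1.Gold H31.S2 H14.GC H14.FE H14.NF H14.CB
open scoped commutatorElement

universe u

theorem comm_cj {G : Type u} [Group G] (h a y : G) :
    ⁅h * a * h⁻¹, y⁆ = h * ⁅a, h⁻¹ * y * h⁆ * h⁻¹ := by
  simp only [commutatorElement_def]; group

theorem conj_ne {G : Type u} [Group G] {h a : G} (ha : a ≠ 1) : h * a * h⁻¹ ≠ 1 := fun e =>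
  ha (by simpa using e)

/-- Transport of a line. -/
theorem ln_cj {G : Type u} [Group G] {Q E Q₂ T P : Subgroup G} {h a : G} (l : Ln Q E Q₂ T P)
    (hQ : h ∈ nor Q) (hE : h ∈ nor E) (hP : h ∈ nor P) (ha : a ∈ T) (a1 : a ≠ 1) :
    Ln Q E (cj h Q₂) (cj h T) P := by
  have cm : Cm3 (cj h T) P E := by
    rintro _ ⟨t, ht, rfl⟩ y hy
    show ⁅h * t * h⁻¹, y⁆ ∈ E
    rw [comm_cj]
    exact conj_mem_of_mem_normalizer hE (l.pg.cm t ht _ (conj_mem_of_mem_normalizer' hP hy))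
  have nd : ∀ y ∈ P, y ∉ E → ∀ t ∈ cj h T, t ≠ 1 → ⁅t, y⁆ ≠ 1 := by
    rintro y hy hyE _ ⟨t, ht, rfl⟩ t1
    show ⁅h * t * h⁻¹, y⁆ ≠ 1
    rw [comm_cj]
    refine conj_ne (l.pg.nd _ (conj_mem_of_mem_normalizer' hP hy) (fun k => hyE ?_) t ht
      fun e => t1 (by rw [e, map_one]))
    have k' := conj_mem_of_mem_normalizer hE k
    rwa [show h * (h⁻¹ * y * h) * h⁻¹ = y by group] at k'
  refine ⟨⟨l.col.p1, ?_, fun e => l.col.ne ?_, ?_, ?_⟩, ⟨l.pg.two, l.pg.le, l.pg.lt, cm, nd, l.pg.sq⟩,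
    ?_⟩
  · obtain ⟨g, g1, g2⟩ := l.col.p2
    exact ⟨h * g, by rw [g1]; exact H98.cj_cj h g Q, by rw [g2]; exact H98.cj_cj h g E⟩
  · rw [← cj_eq_self hQ] at e
    exact cj_inj.1 e
  · exact cj_le_of_le l.col.comm (normalizer_le_normalizer_centralizer E hE)
  · obtain ⟨y, hy, hyE⟩ := SetLike.exists_of_lt l.pg.lt
    refine ⟨y, l.pg.le hy, isPGroup_iff_forall.1 l.pg.two y hy, fun t ht => cm t ht y hy, fun k => ?_⟩
    exact nd y hy hyE _ (conj_mem_cj ha) (conj_ne a1)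
      (commutatorElement_eq_one_iff_mul_comm.2 (k _ (conj_mem_cj ha)))
  · rintro _ ⟨t, ht, rfl⟩ t1 r hr
    obtain ⟨y, hy, e⟩ := l.fu t ht (fun e => t1 (by rw [e, map_one])) _
      (conj_mem_of_mem_normalizer' hE hr)
    refine ⟨h * y * h⁻¹, conj_mem_of_mem_normalizer hP hy, ?_⟩
    show ⁅h * t * h⁻¹, h * y * h⁻¹⁆ = r
    rw [comm_cj, show h⁻¹ * (h * y * h⁻¹) * h = y by group, e]
    group

theorem jobX : JPar4.{u} := by
  intro jc G _ _ Q E tg Q₁ T P S C Q₂ T' pr ln' as hT'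
  obtain ⟨-, -, -, hnor⟩ := jc G Q E tg Q₁ T P S pr.ln pr.sec
  have pg := pr.ln.pg
  have hEP : E ≤ P := pg.lt.le
  have cEP : ∀ r ∈ E, ∀ y ∈ P, r * y = y * r := fun r hr y hy => (pg.le hy).2 r hr
  have cSC : ∀ c ∈ S, ∀ p ∈ C, c * p = p * c := fun c hc p hp => pr.cC hp c (pr.sec.le hc)
  have hSC : S ≤ nor C := le_normalizer_of_le_centralizer fun c hc p hp => (cSC c hc p hp).symm
  have elW : El (S ⊔ C) := fun a ha => by
    obtain ⟨c, hc, p, hp, rfl⟩ := (mem_sup_left_norm hSC).1 ha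
    calc c * p * (c * p) = c * (p * c) * p := by group
      _ = c * (c * p) * p := by rw [cSC c hc p hp]
      _ = (c * c) * (p * p) := by group
      _ = 1 := by rw [pr.sec.el c hc, pr.el p hp, one_mul]
  have invW : ∀ a ∈ S ⊔ C, a⁻¹ = a := fun a ha => inv_eq_of_mul_eq_one_right (elW a ha)
  have abW : ∀ a ∈ S ⊔ C, ∀ b ∈ S ⊔ C, a * b = b * a := fun a ha b hb => by
    rw [← invW _ (mul_mem ha hb), mul_inv_rev, invW a ha, invW b hb]
  have elT : El T := by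
    obtain ⟨g, -, g2⟩ := pr.ln.col.p2
    rw [g2]
    rintro _ ⟨r, hr, rfl⟩
    rw [← map_mul, tg.el r hr, map_one]
  have hTP : T ≤ nor P := fun t ht => by
    apply mem_normalizer_of_cj_le
    rintro _ ⟨y, hy, rfl⟩
    show t * y * t⁻¹ ∈ P
    rw [show t * y * t⁻¹ = ⁅t, y⁆ * y by rw [commutatorElement_def]; group]
    exact mul_mem (hEP (pg.cm t ht y hy)) hy
  obtain ⟨y₀, hy₀, hy₀E⟩ := SetLike.exists_of_lt pg.lt
  have hPT : ∀ v ∈ P, v ∈ T → v = 1 := fun v h1 h2 => by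
    by_contra h
    by_cases k : v ∈ E
    · exact pg.nd y₀ hy₀ hy₀E v h2 h (commutatorElement_eq_one_iff_mul_comm.2 (cEP v k y₀ hy₀))
    · exact pg.sq v h1 k (elT v h2)
  obtain ⟨s₁, hs₁, s₂, hs₂, i₁, i₂, s12, -⟩ := tg.four
  obtain ⟨a, ha, a1⟩ : ∃ a ∈ T', a ≠ 1 := by
    obtain ⟨g, -, g2⟩ := ln'.col.p2
    exact ⟨g * s₁ * g⁻¹, g2 ▸ conj_mem_cj hs₁, conj_ne i₁.1⟩
  obtain ⟨c, hc, p, hp, ea⟩ := (mem_sup_left_norm hSC).1 (hT' ha)
  have hcE : c ∉ E := fun k => ln'.pg.nd y₀ hy₀ hy₀E a ha a1 (by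
    rw [commutatorElement_eq_one_iff_mul_comm, ea, mul_assoc, ← pr.cC hp y₀ (mem_sup_left hy₀),
      ← mul_assoc, cEP c k y₀ hy₀, mul_assoc])
  obtain ⟨t, ht, y, hy, ec⟩ := (mem_sup_left_norm hTP).1 (sup_comm P T ▸ pr.sec.le hc)
  have hyE : y ∉ E := fun k => hcE (pr.sec.inf ⟨hc, ec ▸ mul_mem (mem_sup_right ht) (mem_sup_left k)⟩)
  have hyy : y * y ∈ E := by
    have h1 : t * y * (t * y) = 1 := ec ▸ pr.sec.el c hc
    have h2 : t⁻¹ = t := inv_eq_of_mul_eq_one_right (elT t ht)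
    have h3 : ⁅t, y⁆ * (y * y) = 1 := by
      rw [← h1, commutatorElement_def, h2]; group
    rw [← inv_eq_of_mul_eq_one_right h3]
    exact inv_mem (pg.cm t ht y hy)
  obtain ⟨s, hs, s1, sy⟩ : ∃ s ∈ E, s ≠ 1 ∧ s ≠ y * y := by
    by_cases k : s₁ = y * y
    · exact ⟨s₂, hs₂, i₂.1, fun e => s12 (k.trans e.symm)⟩
    · exact ⟨s₁, hs₁, i₁.1, k⟩
  obtain ⟨h, hh, ehs⟩ := pr.tr _ hyy s hs (pg.sq y hy hyE) s1
  obtain ⟨hS, hE, hQ, hN⟩ := hnor h hh.1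
  have hW : h ∈ nor (S ⊔ C) :=
    le_normalizer_sup ((zpowers_le (G := G)).2 hS)
      (le_normalizer_of_le_centralizer ((zpowers_le (G := G)).2 hh.2)) (mem_zpowers h)
  have hT'' : cj h T' ≤ S ⊔ C := cj_le_of_le hT' hW
  refine ⟨h, hh, ln_cj ln' hQ hE hh.1.1 ha a1, hT'', fun b hb d hd => abW d (hT' hd) b (hT'' hb),
    fun t₁ ht₁ => ?_, a * (h * a * h⁻¹), ?_⟩
  · obtain ⟨c₁, hc₁, k₁⟩ := as.fw t₁ ht₁
    obtain ⟨a', ha', k₂⟩ := as.bw _ (conj_mem_of_mem_normalizer' hS hc₁)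
    have k₃ := conj_mem_of_mem_normalizer (normalizer_le_normalizer_centralizer _ hN) k₂
    refine ⟨h * a' * h⁻¹, conj_mem_cj ha', centralizer_anti le_sup_left (?_ : _ ∈ cen (P ⊔ T))⟩
    rw [← invW _ (hT'' (conj_mem_cj ha'))]
    have k₄ := mul_mem k₁ (inv_mem k₃)
    rwa [show t₁ * c₁ * (h * (a' * (h⁻¹ * c₁ * h)) * h⁻¹)⁻¹ = t₁ * (h * a' * h⁻¹)⁻¹ by group] at k₄
  have hc' : h * c * h⁻¹ ∈ S := conj_mem_of_mem_normalizer hS hc
  have ex : a * (h * a * h⁻¹) = c * (h * c * h⁻¹) := by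
    have h1 : p * h = h * p := hh.2 p hp
    calc a * (h * a * h⁻¹) = c * (p * (h * c * h⁻¹)) * (h * p) * h⁻¹ := by rw [ea]; group
      _ = c * ((h * c * h⁻¹) * p) * (p * h) * h⁻¹ := by rw [cSC _ hc' p hp, h1]
      _ = c * (h * c * h⁻¹) * (p * p) := by group
      _ = _ := by rw [pr.el p hp, mul_one]
  refine ⟨⟨mul_mem (mem_sup_left ha) (mem_sup_right (conj_mem_cj ha)), ex ▸ mul_mem hc hc'⟩,
    fun hx => ?_⟩
  rw [ex] at hx
  obtain ⟨r, hr, t', ht', et⟩ := (mem_sup_right_norm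
    (le_normalizer_of_le_centralizer pr.ln.col.comm)).1
    (conj_mem_of_mem_normalizer hh.1.2 (mem_sup_right ht))
  have hy' : h * y * h⁻¹ ∈ P := conj_mem_of_mem_normalizer hh.1.1 hy
  have ey : h * y * h⁻¹ * (h * y * h⁻¹) = s := by rw [← ehs]; group
  have e1 : c * (h * c * h⁻¹) = t * (y * r) * t⁻¹ * (t * t') * (h * y * h⁻¹) := by
    calc c * (h * c * h⁻¹) = t * y * (h * t * h⁻¹) * (h * y * h⁻¹) := by rw [ec]; group
      _ = _ := by rw [et]; group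
  generalize h * y * h⁻¹ = y' at hy' ey e1
  rw [e1] at hx
  have hyr : y * r ∈ P := mul_mem hy (hEP hr)
  have e2 : t * t' = 1 := by
    refine hPT _ ?_ (mul_mem ht ht')
    have k := mul_mem (mul_mem (inv_mem (conj_mem_of_mem_normalizer (hTP ht) hyr)) (hEP hx))
      (inv_mem hy')
    rwa [show (t * (y * r) * t⁻¹)⁻¹ * (t * (y * r) * t⁻¹ * (t * t') * y') * y'⁻¹ = t * t' by group]
      at k
  have e3 : y * y' ∈ E := by
    have k := mul_mem (inv_mem hr) (mul_mem (inv_mem (pg.cm t ht _ hyr)) hx)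
    rw [e2, commutatorElement_def, ← cEP r hr y hy] at k
    rwa [show r⁻¹ * ((t * (r * y) * t⁻¹ * (r * y)⁻¹)⁻¹ * (t * (r * y) * t⁻¹ * 1 * y')) = y * y'
      by group] at k
  apply sy
  have e4 := cEP _ e3 _ (inv_mem hy)
  calc s = y⁻¹ * (y * y' * y⁻¹) * (y * y') := by rw [← ey]; group
    _ = y⁻¹ * (y⁻¹ * (y * y')) * (y * y') := by rw [e4]
    _ = (y * y)⁻¹ * (y * y' * (y * y')) := by group
    _ = y * y := by rw [tg.el _ e3, mul_one, inv_eq_of_mul_eq_one_right (tg.el _ hyy)]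

end H95.CbPar4
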