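/- L33 (row S3140), slot FA: the basic fusion. -/
import Cfsg.Agent.H95.L3Kit
import Cfsg.Agent.H42.ReeGen

set_option autoImplicit false
set_option linter.unusedSectionVars false

namespace H95.L3

open Subgroup Cfsg H98 H1.Gold H85.FZ H85.En H85.L33 H85.DZ H85.S3
open H49.D8 (Tri AS mc1 DH)

universe u

theorem ta1 : withC LS 10 (fun C => force (ncj LS 10 [] C 512 0 0 [[.eq [0, 0] []]]) fun K =>
    (allB 9 fun c => !invo LS c || tb K c) &&
      C.all fun r => Nat.ble (czl LS 10 r.1).length 128 || mem r.1 [1, 2, 84]) = true := by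
  decide +kernel

theorem ta2 : (allB 10 fun c => Nat.blt c 512 || !Nat.beq (mul LS c c) 0 ||
    tb (cls LS 10 [512, 768]) c) = true := by decide +kernel

theorem ta3 : ∀ d : Cd, d * k 512 = k 512 * d → (∀ δ, In [k 1, k 256, k 338] δ → d * δ * (d * δ) ≠ 1) →
    ∃ δ ∈ [1, k 1, k 256, k 257, k 338, k 339, k 82, k 83], In [k 1, k 256, k 338] δ ∧
      (d * δ = k 178 ∨ d * δ = k 512 * k 178) := by decide +kernel

theorem ta4 : ∀ d : Cd, d * k 256 = k 256 * d → d * d ≠ k 256 := by decide +kernel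

theorem ta5 : ∀ d : Cd, d * k 1 = k 1 * d ∧ d * k 1 * d⁻¹ = k 1 ∧
    (d * k 2 * d⁻¹ = k 2 ∨ k 256 * (d * k 2 * d⁻¹) * (k 256)⁻¹ = k 2) := by decide +kernel

theorem ta6 : ct (fun d => d * k 256 = k 256 * d) = 128 := by decide +kernel

variable {G : Type u} [Group G] [Finite G] {X A : Subgroup G} {x : ℕ → G}

theorem conj_inv' (a b : G) : a * b⁻¹ * a⁻¹ = (a * b * a⁻¹)⁻¹ := by group

theorem S_z (M : Md TS LS x) : H x 10 ≤ cen1 (e x (k 1)) := fun g hg => by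
  obtain ⟨c, rfl⟩ := surj M hg
  rw [mc1, ← e_mul M, ← e_mul M, (ta5 c).1]

theorem nD (h : B0 x) : ∀ w ∈ H x 9, ¬ IsConj (x 9) w := fun w hw cj => by
  have M := md0 h
  obtain ⟨C, r, k1⟩ := M.withC ta1
  rw [force_eq, Bool.and_eq_true, allB_iff] at k1
  obtain ⟨c, rfl⟩ := surj M (H_mono (by decide) hw)
  have e9 : E x 10 512 = x 9 := E_pow x (k := 9) (by decide)
  have := k1.1 c.n ((memH M (by decide)).1 hw)
  obtain ⟨g, hg⟩ := isConj_iff.1 cj
  have tt : x 9 * x 9 = 1 := by rw [eL x 9 512, ← e_mul M, e_eq_one M]; decide +kernel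
  rw [(M.invo_iff c.lt).2 ⟨by rw [show E x TS.n c.n = _ from hg.symm]; exact conj_sq tt, by
    rw [show E x TS.n c.n = _ from hg.symm, Ne, conj_eq_one_iff, eL x 9 512, e_eq_one M]
    decide +kernel⟩] at this
  exact M.ncj_spec (y := 512) .nil r (by decide) (e9 ▸ h.sylt) Sat.zero 0 c.n c.lt this (e9 ▸ cj)

theorem big (h : B0 x) {w : G} (hw : w ∈ H x 10) (h2 : w * w = 1) (h1 : w ≠ 1)
    (hc : 128 < Nat.card ↥(H x 10 ⊓ cen1 w)) :
    ∃ r ∈ [1, 2, 84], ∃ d, w = e x d * e x (k r) * (e x d)⁻¹ := by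
  have M := md0 h
  obtain ⟨C, r, k1⟩ := M.withC ta1
  rw [force_eq, Bool.and_eq_true, List.all_eq_true] at k1
  obtain ⟨c, rfl⟩ := surj M hw
  obtain ⟨p, p1, p2⟩ := r.cov c.n c.lt h2 h1
  obtain ⟨g, g1, g2⟩ := r.cls p p1 _ p2
  obtain ⟨d, rfl⟩ := surj M g1
  have l := r.lt p p1
  rcases Bool.or_eq_true_iff.1 (k1.2 p p1) with k2 | k2
  · rw [Nat.ble_eq, ← show _ = (czl LS 10 p.1).length from M.card_cz l, ← H98.card_cj (e x d), cj_inf,
      cj_cen1, cj_eq_self_of_mem g1, ← g2] at k2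
    exact absurd hc (not_lt.2 k2)
  · exact ⟨p.1, mem_iff.1 k2, d, g2.trans (congrArg (fun n => e x d * E x 10 n * (e x d)⁻¹)
      (Nat.mod_eq_of_lt (b := 1024) l).symm)⟩

theorem outD (h : B0 x) {w : G} (hw : w ∈ H x 10) (h9 : w ∉ H x 9) (h2 : w * w = 1) :
    ∃ g ∈ H x 10, w = g * e x (k 512) * g⁻¹ ∨ w = g * e x (k 768) * g⁻¹ := by
  have M := md0 h
  obtain ⟨c, rfl⟩ := surj M hw
  have := allB_iff.1 ta2 c.n c.lt
  rw [(M.sq_iff c.lt).2 h2, show Nat.blt c.n 512 = false from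
    Bool.eq_false_iff.2 fun k => h9 ((memH M (by decide)).2 (Nat.blt_eq ▸ k))]
    at this
  obtain ⟨r, hr, g, g1, g2⟩ := M.cls (n := 10) le_rfl (by decide) this
  simp only [List.mem_cons, List.not_mem_nil, or_false] at hr
  rcases hr with rfl | rfl
  exacts [⟨g, g1, Or.inl g2⟩, ⟨g, g1, Or.inr g2⟩]

theorem sdS (M : Md TS LS x) : SD (e x (k 256)) (e x (k 338)) (e x (k 1)) (e x (k 178)) := by
  refine ⟨⟨?_, ?_, ?_, ?_, ?_, ?_, ?_⟩, ?_, ?_, ?_⟩ <;>
    simp only [← e_mul M, ← e_inv M, e_inj M, e_eq_one M, Ne] <;> decide +kernel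

theorem tX (h : C6 X A x) : x 9 ∉ X := by
  have M := md0 h.toB0
  have i2 : (H x 9).relIndex (H x 10) = 2 := M.P.relIndex M.wf (k := 9) (by decide) (M.I 9 (by decide))
  refine tr_out (U := (· ∈ H x 9)) h.st.as h.syl (fun a ha b hb => ?_) (by
    rw [← pow_two, ← h.st.o, pow_orderOf_eq_one]) (H31.S2.isPGroup_zpowers_of_order h.st.o)
    (mem_zpowers _) (zpowers_le.2 (mc1.2 rfl)) fun g _ k => nD h.toB0 _ k (isConj_of _ _)
  exact mul_mem_iff_of_index_two i2 (a := ⟨a, ha⟩) (b := ⟨b, hb⟩)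

theorem com_mem {t : G} (hX : AS X t) (tt : t * t = 1) (a b : G) : a * b * a⁻¹ * b⁻¹ ∈ X := by
  rw [as_mul hX tt, ← as_conj hX (isConj_of a b), inv_mem_iff]

theorem card16 (K : K1 A) {P : Subgroup G} (h : P ≤ A) (h2 : IsPGroup 2 P) : Nat.card P ≤ 16 := by
  obtain ⟨n, hn⟩ := h2.exists_card_eq
  have := card_dvd_of_le h
  rw [K.card, hn] at this
  rw [hn]
  by_contra k
  have : 2 ^ 5 ∣ 5616 := (pow_dvd_pow 2 (by
    by_contra l
    exact k (Nat.pow_le_pow_right two_pos (show n ≤ 4 by omega)))).trans this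
  omega

theorem jA (K : K1 A) (h : C6 X A x) : e x (k 178) ∈ A := by
  have M := md0 h.toB0
  have D := sdS M
  have vA : e x (k 256) ∈ A := eL x 8 256 ▸ h.vA
  have sA : e x (k 338) ∈ A := eW x 338 _ ▸ h.sA
  have zA : e x (k 1) ∈ A := D.vsvs ▸ mul_mem (mul_mem vA sA) (mul_mem vA sA)
  have At : A ≤ cen1 (x 9) := H31.S2.le_cen1_iff.2 h.st.tK
  have tt : x 9 * x 9 = 1 := by rw [← pow_two, ← h.st.o, pow_orderOf_eq_one]
  have sy := h.sylt.inf_of_le_normalizer At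
    (inf_le_right.trans (H14.std_centralizer_le h.st.std h.st.o h.st.tK))
  obtain ⟨v', s', j', D', le⟩ := K.sd _ zA (orderOf_eq_prime (by rw [pow_two, D.zz]) D.z1)
  obtain ⟨l, -, l2⟩ := sy.exists_cj_le D'.two le
  have D2 := D'.cj l
  rw [H49.D8.cj_cl] at l2
  simp only [List.map_cons, List.map_nil] at l2
  generalize l * v' * l⁻¹ = v₂, l * s' * l⁻¹ = s₂, l * j' * l⁻¹ = j₂, l * e x (k 1) * l⁻¹ = z₂ at D2 l2
  have eP := eq_of_le_of_card_ge l2 (D2.card ▸ card16 K inf_le_right sy.isPGroup)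
  have DP : cl [e x (k 256), e x (k 338)] ≤ cl [v₂, s₂, j₂] := eP ▸
    H49.D8.cl2_le ⟨⟨e_mem _, At vA⟩, vA⟩ ⟨⟨e_mem _, At sA⟩, sA⟩
  have eD : cl [e x (k 256), e x (k 338)] = cl [v₂, s₂] := eq_of_le_of_card_ge
    (H49.D8.cl2_le (D2.inv (DP (H49.D8.m1 _ _)) D.vv) (D2.inv (DP (H49.D8.m2 _ _)) D.ss))
    (by rw [D2.toDH.card, D.toDH.card])
  have m : ∀ δ, In [k 1, k 256, k 338] δ → e x δ ∈ cl [v₂, s₂] := fun δ hδ => by
    rw [← eD, ← D.toDH.cl3]
    exact (mem_sb M (gs := [k 1, k 256, k 338]) (by decide +kernel)).2 hδ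
  obtain ⟨d, rfl⟩ := surj M (l2 D2.j_mem).1.1
  obtain ⟨δ, -, k1, k2⟩ := ta3 d (by
    rw [← e_inj M, e_mul M, e_mul M, ← eL x 9 512]; exact mc1.1 (l2 D2.j_mem).1.2) fun δ hδ k0 => by
      have := D2.inv (mul_mem D2.j_mem (D2.D_le (m δ hδ))) (by rw [← e_mul M, ← e_mul M, k0, e_one])
      exact D2.j_not ((mul_mem_cancel_right (m δ hδ)).1 this)
  have k3 : e x (d * δ) ∈ A := e_mul M _ _ ▸ (l2 (mul_mem D2.j_mem (D2.D_le (m δ k1)))).2
  rcases k2 with k2 | k2 <;> rw [k2] at k3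
  · exact k3
  · have jX : e x (k 178) ∈ X := by
      have := mul_mem (com_mem h.st.as tt (e x (k 128)) (e x (k 512)))
        (com_mem h.st.as tt (e x (k 32)) (e x (k 16)))
      simp only [← e_mul M, ← e_inv M] at this
      convert this using 2
      decide +kernel
    rw [e_mul M, ← eL x 9 512] at k3
    exact absurd ((mul_mem_cancel_right jX).1 (h.st.AX k3)) (tX h)

theorem jobFA : JobFA.{u} := by
  intro kit G _ _ X A x h
  have K := kit G A h.st.ty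
  have M := md0 h.toB0
  have D := sdS M
  have vA : e x (k 256) ∈ A := eL x 8 256 ▸ h.vA
  have sA : e x (k 338) ∈ A := eW x 338 _ ▸ h.sA
  have zA : e x (k 1) ∈ A := D.vsvs ▸ mul_mem (mul_mem vA sA) (mul_mem vA sA)
  have At : A ≤ cen1 (x 9) := H31.S2.le_cen1_iff.2 h.st.tK
  have tN : cen1 (x 9) ≤ nor A := H14.std_centralizer_le h.st.std h.st.o h.st.tK
  have tt : x 9 * x 9 = 1 := by rw [← pow_two, ← h.st.o, pow_orderOf_eq_one]
  have oz : orderOf (e x (k 1)) = 2 := orderOf_eq_prime (by rw [pow_two, D.zz]) D.z1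
  have le : cl [e x (k 256), e x (k 338), e x (k 178)] ≤ H x 10 ⊓ A := cl_le.2 (by
    simp only [List.forall_mem_cons, List.not_mem_nil, false_imp_iff, implies_true, and_true]
    exact ⟨⟨e_mem _, vA⟩, ⟨e_mem _, sA⟩, e_mem _, jA K.toK1 h⟩)
  have SA := (eq_of_le_of_card_ge le
    (D.card ▸ card16 K.toK1 inf_le_right ((twoS M).to_le inf_le_left))).symm
  obtain ⟨σ, σA, σz, σv⟩ := K.tri _ _ _ _ D (le.trans inf_le_right)
  have σt : σ * x 9 * σ⁻¹ = x 9 := mul_inv_eq_iff_eq_mul.2 (mc1.1 (At σA))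
  have σw : σ * (e x (k 256) * e x (k 1)) * σ⁻¹ = e x (k 1) := by
    rw [← conj_mul, σz, σv, D.vz, mul_assoc, D.vv, mul_one]
  obtain ⟨p, p1, p2⟩ : ∃ p ∈ cen1 (e x (k 1)), p * e x (k 512) * p⁻¹ = e x (k 768) := by
    have a1 : e x (k 4) * e x (k 512) * (e x (k 4))⁻¹ = e x (k 512) * e x (k 1) := by
      simp only [← e_mul M, ← e_inv M, e_inj M]; decide +kernel
    have a2 : e x (k 4) * (e x (k 256) * e x (k 1)) * (e x (k 4))⁻¹ = e x (k 256) * e x (k 1) := by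
      simp only [← e_mul M, ← e_inv M, e_inj M]; decide +kernel
    have a3 : e x (k 512) * e x (k 256) = e x (k 768) := by
      simp only [← e_mul M, e_inj M]; decide +kernel
    rw [eL x 9 512] at σt
    refine ⟨σ * e x (k 4) * σ⁻¹, mc1.2 (mul_inv_eq_iff_eq_mul.1 ?_), ?_⟩
    · conv_lhs => rw [← σw, conj_mul, ← conj_inv', conj_mul, a2, σw]
    · conv_lhs => rw [← σt, conj_mul, ← conj_inv', conj_mul, a1, ← conj_mul, σt, σz, a3]
  have out : ∀ w ∈ H x 10, w ∉ H x 9 → w * w = 1 → ∃ g ∈ cen1 (e x (k 1)), g * x 9 * g⁻¹ = w :=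
    fun w hw h9 h2 => by
      rw [eL x 9 512]
      obtain ⟨g, g1, rfl | rfl⟩ := outD h.toB0 hw h9 h2
      · exact ⟨g, S_z M g1, rfl⟩
      · exact ⟨g * p, mul_mem (S_z M g1) p1, by rw [← p2]; group⟩
  have sz : IsSyl 2 (H x 10) (cen1 (e x (k 1))) := h.syl.of_le (S_z M) le_top
  have pair : ∀ w ∈ cen1 (e x (k 1)), IsConj (x 9) w → ∃ g ∈ cen1 (e x (k 1)), g * x 9 * g⁻¹ = w :=
    fun w hw cj => by
      obtain ⟨a, rfl⟩ := isConj_iff.1 cj
      obtain ⟨l, l1, l2⟩ := sz.exists_cj_le (isPGroup_zpowers (k := 1) (by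
        rw [pow_one, pow_two]; exact conj_sq tt)) (zpowers_le.2 hw)
      obtain ⟨g, g1, g2⟩ := out _ (l2 (conj_mem_cj (mem_zpowers _)))
        (fun k => nD h.toB0 _ k (cj.trans (isConj_of _ _))) (conj_sq (conj_sq tt))
      exact ⟨l⁻¹ * g, mul_mem (inv_mem l1) g1, by
        rw [mul_inv_rev, mul_assoc l⁻¹, mul_assoc l⁻¹, ← mul_assoc _ g⁻¹, g2]; group⟩
  have inA : ∀ w ∈ cen1 (x 9), IsConj (e x (k 1)) w → w ∈ A := fun w hw cj => by
    obtain ⟨g, rfl⟩ := isConj_iff.1 cj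
    obtain ⟨l, l1, l2⟩ := pair (g⁻¹ * x 9 * g⁻¹⁻¹) (mc1.2 (by
      have := mc1.1 hw
      calc _ = g⁻¹ * (x 9 * (g * e x (k 1) * g⁻¹)) * g := by group
        _ = _ := by rw [← this]; group)) (isConj_of _ _)
    have : g * l ∈ nor A := tN (mc1.2 (by
      calc _ = g * (l * x 9 * l⁻¹) * l := by group
        _ = _ := by rw [l2]; group))
    have k1 := conj_mem_of_mem_normalizer this zA
    rwa [mul_assoc g, mc1.1 l1, show g * (e x (k 1) * l) * (g * l)⁻¹ = g * e x (k 1) * g⁻¹ by group] at k1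
  have zu : ¬ IsConj (e x (k 1)) (e x (k 84)) := fun cj => by
    have := SA.le ⟨e_mem _, inA _ (mc1.2 (by
      rw [eL x 9 512]; simp only [← e_mul M, e_inj M]; decide +kernel)) cj⟩
    rw [← D.cl4] at this
    exact absurd ((mem_sb M (gs := [k 1, k 256, k 338, k 178]) (by decide +kernel)).1 this)
      (by decide +kernel)
  obtain ⟨q, q1, q2⟩ : ∃ q ∈ cen1 (e x (k 1)), q * e x (k 256) * q⁻¹ = e x (k 2) := by
    have PV : H x 10 ⊓ cen1 (e x (k 256)) ≤ cen1 (e x (k 1)) ⊓ cen1 (e x (k 256)) :=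
      inf_le_inf_right _ (S_z M)
    obtain ⟨P, hP, P1⟩ := exists_isSyl_le ((twoS M).to_le inf_le_left) PV
    have c1 : Nat.card ↥(H x 10 ⊓ cen1 (e x (k 256))) = 128 := (card_ct M inf_le_left fun c => by
      rw [mem_inf, and_iff_right (e_mem c), mc1, ← e_mul M, ← e_mul M, e_inj M]).trans ta6
    have lt : 128 < Nat.card P := by
      by_contra l
      obtain rfl := eq_of_le_of_card_ge P1 (by omega)
      obtain ⟨n, n1, c, c1, rfl⟩ := hP.frattini_mem (g := σ) (mem_normalizer_of_cj_le (by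
        rw [cj_inf, cj_cen1, cj_cen1, σz, σv]
        refine fun g hg => ⟨mc1.2 (mul_left_cancel (a := e x (k 256)) ?_), hg.1⟩
        rw [← mul_assoc, ← mc1.1 hg.1, mul_assoc, mc1.1 hg.2, mul_assoc]))
      have := conj_mem_of_mem_normalizer n1 (x := e x (k 4)) ⟨e_mem _, mc1.2 (by
        simp only [← e_mul M, e_inj M]; decide +kernel)⟩
      obtain ⟨d, hd⟩ := surj M this.1
      refine ta4 d (by rw [← e_inj M, e_mul M, e_mul M, ← hd]; exact mc1.1 this.2) ?_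
      rw [← e_inj M, e_mul M, ← hd, conj_mul, ← e_mul M, show k 4 * k 4 = k 1 by decide +kernel,
        ← σz, mul_assoc n c, mc1.1 c1.1]
      group
    obtain ⟨l, l1, l2⟩ := sz.exists_cj_le hP.isPGroup (hP.le.trans inf_le_left)
    have vP : e x (k 256) ∈ P := P1 ⟨e_mem _, mc1.2 rfl⟩
    have cv : IsConj (e x (k 1)) (l * e x (k 256) * l⁻¹) :=
      (isConj_iff.2 ⟨σ, σz⟩).trans (isConj_of _ _)
    obtain ⟨r, hr, d, hd⟩ := big h.toB0 (l2 (conj_mem_cj vP)) (conj_sq D.vv) (by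
      rw [Ne, conj_eq_one_iff, e_eq_one M]; decide +kernel) (lt.trans_le (by
        rw [← H98.card_cj l P, ← cj_cen1]
        exact card_le_of_le (le_inf l2 (cj_mono l (hP.le.trans inf_le_right)))))
    simp only [List.mem_cons, List.not_mem_nil, or_false] at hr
    rcases hr with rfl | rfl | rfl
    · rw [← e_inv M, ← e_mul M, ← e_mul M, (ta5 d).2.1, mul_inv_eq_iff_eq_mul, ← mc1.1 l1,
        mul_right_inj, e_inj M] at hd
      exact absurd hd (by decide +kernel)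
    · rw [← e_inv M, ← e_mul M, ← e_mul M] at hd
      rcases (ta5 d).2.2 with k1 | k1
      · exact ⟨l, l1, k1 ▸ hd⟩
      · refine ⟨e x (k 256) * l, mul_mem (S_z M (e_mem _)) l1, ?_⟩
        rw [← k1, e_mul M, e_mul M, e_inv M, ← hd]; group
    · exact absurd ((hd ▸ cv).trans (isConj_of _ _).symm) zu
  refine ⟨tX h, nD h.toB0, fun w hw h9 h2 => ?_, ?_, ?_, ?_, ?_, ?_, ?_, ?_⟩
  · obtain ⟨g, -, rfl⟩ := out w hw h9 h2
    exact isConj_of _ _
  · rwa [eL x 8 256, eW x 338 [8, 6, 4, 1], eL x 0 1, eW x 178 [7, 5, 4, 1]]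
  · rwa [eL x 8 256, eW x 338 [8, 6, 4, 1], eW x 178 [7, 5, 4, 1]]
  · rwa [eL x 0 1]
  · rwa [eL x 0 1, eW x 84 [6, 4, 2]]
  · rwa [eL x 0 1]
  · rw [eL x 0 1]
    exact K.solv _ zA oz _ (inf_le_inf_right _ tN)
      (H42.Ree.isSolvable_of_not_four fun k => h.st.k2 (k.trans (card_dvd_of_le inf_le_right)))
  · rw [eL x 0 1, eL x 8 256, eL x 1 2]
    rcases as_mem_or h.st.as tt q with k1 | k1
    · exact ⟨q, ⟨k1, q1⟩, q2⟩
    · refine ⟨_, ⟨k1, mul_mem q1 (S_z M (x_mem (by decide)))⟩, ?_⟩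
      rw [mul_assoc q, ← mc1.1 (At vA), ← q2]; group

end H95.L3
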