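/- L33 (row S3140): Sylow subgroups of `C(U)` and of some of its subgroups. -/
import Cfsg.Agent.H95.L3FA

set_option autoImplicit false
set_option linter.unusedSectionVars false

namespace H95.L3

open Subgroup Cfsg H98 H1.Gold H85.FZ H85.En H85.L33 H85.DZ H85.S3
open H49.D8 (Tri AS mc1 DH cen_cl nor_cl)
open scoped commutatorElement

universe u

abbrev gU : List Cd := [k 1, k 2]
abbrev gA : List Cd := [k 1, k 2, k 4]
abbrev gE : List Cd := [k 1, k 512]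
abbrev gQ : List Cd := [k 1, k 82, k 178]
abbrev gB : List Cd := [k 1, k 2, k 4, k 82, k 178]
abbrev gY : List Cd := [k 1, k 2, k 4, k 16, k 64]
abbrev gP0 : List Cd := [k 1, k 6, k 512]
abbrev gP1 : List Cd := [k 1, k 2, k 4, k 512]
abbrev gR0 : List Cd := [k 1, k 2, k 4, k 8, k 16, k 32, k 64, k 128]
abbrev gR : List Cd := [k 1, k 2, k 4, k 8, k 16, k 32, k 64, k 128, k 768]
abbrev gR1 : List Cd := [k 1, k 2, k 4, k 16, k 32, k 64, k 128]
abbrev gR2 : List Cd := [k 1, k 2, k 4, k 16, k 32, k 64, k 128, k 781]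

theorem pcs : (Pc gU ∧ Pc gA ∧ Pc gE ∧ Pc gQ ∧ Pc gB ∧ Pc gY) ∧
    Pc gP0 ∧ Pc gP1 ∧ Pc gR0 ∧ Pc gR ∧ Pc gR1 ∧ Pc gR2 := by decide +kernel

theorem cts : ct (In gR) = 512 ∧ ct (In gR2) = 256 ∧ ct (In gR1) = 128 ∧ ct (In gR0) = 256 := by
  decide +kernel

theorem tb1 : ∀ d : Cd, (In [k 1, k 256, k 338, k 178] d → d * d ≠ 1 → d * d * (d * d) = 1 → In gQ d) ∧
    (d * k 512 = k 512 * d → ((∀ c ∈ gQ, c * d = d * c) → In gP0 d) ∧ (In gP1 d → In gP0 d ∧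
      (d * d = k 1 → In gE ((k 6)⁻¹ * d)))) ∧
    (In gE d → d = 1 ∨ d = k 1 ∨ d = k 512 ∨ d = k 513) := by decide +kernel

theorem tb2 : ∀ d : Cd, ((∀ c ∈ gR, c * d = d * c) → d * d = 1 ∧
      (k 256 * d = d * k 256 → d = 1 ∨ d = k 1)) ∧
    (In gR2 d → In gA (d * k 781 * d⁻¹ * (k 781)⁻¹) → In gA (d * k 32 * d⁻¹ * (k 32)⁻¹) → In gY d) ∧
    (In gB d → ∀ c ∈ gR1, In gA (d * c * d⁻¹ * c⁻¹)) ∧
    (In gR1 d → ∀ c ∈ gR0, In gA (d * c * d⁻¹ * c⁻¹)) := by decide +kernel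

variable {G : Type u} [Group G] [Finite G] {X A K N R : Subgroup G} {x : ℕ → G} {g w : G}
  {gs hs cs : List Cd}

theorem cen_sb : g ∈ cen (sb x gs) ↔ ∀ c ∈ gs, e x c * g = g * e x c := by
  rw [cen_cl, List.forall_mem_map]

theorem nor_sb (h : ∀ c ∈ gs, g * e x c * g⁻¹ ∈ sb x gs) : g ∈ nor (sb x gs) :=
  nor_cl (List.forall_mem_map.2 h)

theorem cjc (h : R ≤ H98.cj g (cen K)) (hw : w ∈ K) : g * w * g⁻¹ ∈ cen R := by
  rw [cj_centralizer] at h
  exact le_centralizer_iff.1 h (conj_mem_cj hw)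

theorem stab_nor (h : N ≤ K) : stab K N ≤ nor K :=
  le_normalizer_of_commutator_le ((le_stab_iff.1 le_rfl).2.trans h) le_rfl

theorem in4 (h : IsSyl 2 R N) (h1 : g * w * g⁻¹ ∈ N) (h2 : g * w * g⁻¹ ∈ nor R) (h4 : w * w * (w * w) = 1) :
    g * w * g⁻¹ ∈ R :=
  h.le_of_le_normalizer' (isPGroup_zpowers (k := 2) (by
    rw [conj_pow, show w ^ 2 ^ 2 = w * w * (w * w) by rw [pow_two, pow_mul, pow_two, pow_two], h4]; simp))
    (zpowers_le.2 h1) (zpowers_le.2 h2) (mem_zpowers _)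

section

variable (M : Md TS LS x)
include M

theorem e_cen {d : Cd} : e x d ∈ cen (sb x gs) ↔ ∀ c ∈ gs, c * d = d * c := by
  simp only [cen_sb, ← e_mul M, e_inj M]

theorem sb_sb (h : Pc hs) (h1 : ∀ c ∈ gs, In hs c := by decide +kernel) : sb x gs ≤ sb x hs :=
  sb_le.2 fun c hc => (mem_sb M h).2 (h1 c hc)

theorem sb_cen (h : ∀ d ∈ gs, ∀ c ∈ hs, c * d = d * c := by decide +kernel) : sb x gs ≤ cen (sb x hs) :=
  sb_le.2 fun d hd => (e_cen M).2 (h d hd)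

theorem sb_nor (h : Pc hs) (h1 : ∀ d ∈ gs, ∀ c ∈ hs, In hs (d * c * d⁻¹) := by decide +kernel) :
    sb x gs ≤ nor (sb x hs) :=
  sb_le.2 fun d hd => nor_sb fun c hc => by
    rw [← e_inv M, ← e_mul M, ← e_mul M, mem_sb M h]; exact h1 d hd c hc

theorem e_com (c d : Cd) : ⁅e x c, e x d⁆ = e x (c * d * c⁻¹ * d⁻¹) := by
  simp only [commutatorElement_def, e_mul M, e_inv M]

theorem sb_stab (h : Pc hs) (h' : Pc cs) (h1 : sb x gs ≤ nor (sb x hs))
    (h2 : ∀ d, In cs d → ∀ c ∈ gs, In hs (d * c * d⁻¹ * c⁻¹)) : sb x gs ≤ stab (sb x cs) (sb x hs) :=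
  sb_le.2 fun c hc => ⟨h1 (mem_sb' hc), fun r hr => by
    obtain ⟨d, d1, rfl⟩ := sb_ex M h' hr
    rw [e_com M, mem_sb M h]; exact h2 d d1 c hc⟩

theorem card_sb (h : Pc gs) : Nat.card (sb x gs) = ct (In gs) :=
  card_ct M (sb_leS _) fun _ => mem_sb M h

theorem syR (h : IsSyl 2 (H x 10) ⊤) : IsSyl 2 (sb x gR) (cen (sb x gU)) := by
  refine syl_idx2 h (sb_leS _) (sb_cen M) le_top (by
    rw [cardH M le_rfl, card_sb M pcs.2.2.2.2.1, cts.1]; rfl) fun g _ hg => ?_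
  have key : ∀ c ∈ gU, g * e x c * g⁻¹ = e x (k 1) := fun c hc => by
    have c2 : c * c * (c * c) = 1 ∧ c ≠ 1 := by revert c; decide +kernel
    have c1 := cjc hg (mem_sb' hc)
    obtain ⟨d, hd⟩ := surj M (in4 h (mem_top _) (centralizer_le_normalizer _ c1) (by
      simp only [← e_mul M, c2.1, e_one]))
    rw [hd] at c1 ⊢
    rcases ((tb2 d).1 ((e_cen M).1 (centralizer_anti (sb_leS _) c1))).2 (by
      rw [← e_inj M, e_mul M, e_mul M]; exact H49.D8.mcen.1 c1 _ (e_mem _)) with rfl | rfl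
    · rw [e_one, conj_eq_one_iff, e_eq_one M] at hd
      exact absurd hd c2.2
    · rfl
  have := (key (k 1) (by simp)).trans (key (k 2) (by simp)).symm
  rw [mul_left_inj, mul_right_inj, e_inj M] at this
  exact absurd this (by decide +kernel)

theorem syR2 (h : IsSyl 2 (H x 10) ⊤) : IsSyl 2 (sb x gR2) (cen (sb x gA)) := by
  refine syl_idx2 (syR M h) (sb_sb M pcs.2.2.2.2.1) (sb_cen M) (centralizer_anti (sb_sb M pcs.1.2.1)) (by
    rw [card_sb M pcs.2.2.2.2.2.2, card_sb M pcs.2.2.2.2.1, cts.1, cts.2.1]) fun g g1 hg => ?_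
  have c1 := cjc hg (mem_sb' (c := k 4) (by simp))
  obtain ⟨d, hd⟩ := surj M (sb_leS _ (in4 (syR M h) (mul_mem (mul_mem g1 ((e_cen M).2 (by
    decide +kernel))) (inv_mem g1)) (centralizer_le_normalizer _ c1) (by
      simp only [← e_mul M, e_eq_one M]; decide +kernel)))
  have := ((tb2 d).1 ((e_cen M).1 (hd ▸ c1))).1
  rw [← e_eq_one M, e_mul M, ← hd, conj_mul, conj_eq_one_iff, ← e_mul M, e_eq_one M] at this
  exact absurd this (by decide +kernel)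

theorem syR1 (h : IsSyl 2 (H x 10) ⊤) :
    IsSyl 2 (sb x gR1) (cen (sb x gA) ⊓ stab (sb x gB) (sb x gA)) := by
  have p2 := pcs.2.2.2.2.2.2
  refine syl_idx2 (syR2 M h) (sb_sb M p2) (le_inf (sb_cen M) (sb_stab M pcs.1.2.1 pcs.1.2.2.2.2.1
    (sb_nor M pcs.1.2.1) fun d => (tb2 d).2.2.1)) inf_le_left (by
      rw [card_sb M p2, card_sb M pcs.2.2.2.2.2.1, cts.2.1, cts.2.2.1]) fun g g1 hg => ?_
  have key : ∀ c ∈ gQ, g * e x c * g⁻¹ ∈ sb x gY := fun c hc => by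
    have c2 : c * c * (c * c) = 1 ∧ In gB c ∧ ∀ b ∈ gA, b * c = c * b := by revert c; decide +kernel
    have c1 : ∀ r ∈ sb x gR2, ⁅g * e x c * g⁻¹, r⁆ ∈ sb x gA := fun r hr => by
      have := conj_mem_of_mem_normalizer (centralizer_le_normalizer _ g1)
        ((H98.mem_cj.1 (hg hr)).2.2 _ ((mem_sb M pcs.1.2.2.2.2.1).2 c2.2.1))
      convert this using 1
      simp only [commutatorElement_def]; group
    obtain ⟨d, d1, hd⟩ := sb_ex M p2 (in4 (syR2 M h) (mul_mem (mul_mem g1 ((e_cen M).2 c2.2.2))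
      (inv_mem g1)) (nor_sb fun b hb => by
        have := mul_mem (sb_sb M p2 (by decide +kernel) (c1 _ (mem_sb' hb))) (mem_sb' hb)
        rwa [commutatorElement_def, inv_mul_cancel_right] at this) (by
      simp only [← e_mul M, c2.1, e_one]))
    rw [hd] at c1 ⊢
    refine (mem_sb M pcs.1.2.2.2.2.2).2 ((tb2 d).2.1 d1 ?_ ?_) <;>
      rw [← mem_sb M pcs.1.2.1, ← e_com M] <;> exact c1 _ (mem_sb' (by simp))
  have := H49.D8.mcen.1 (sb_cen M (hs := gY) (by decide +kernel) (key (k 82) (by simp))) _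
    (key (k 178) (by simp))
  rw [conj_mul, conj_mul, mul_left_inj, mul_right_inj, ← e_mul M, ← e_mul M, e_inj M] at this
  exact absurd this (by decide +kernel)

theorem syR0 (h : IsSyl 2 (H x 10) ⊤) :
    IsSyl 2 (sb x gR0) (cen (sb x gU) ⊓ stab (sb x gR1) (sb x gA)) := by
  have p1 := pcs.2.2.2.2.2.1
  refine syl_idx2 ((syR M h).of_le (K := cen (sb x gU) ⊓ (nor (sb x gR1) ⊓ nor (sb x gA)))
    (le_inf (sb_cen M) (le_inf (sb_nor M p1) (sb_nor M pcs.1.2.1))) inf_le_left)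
    (sb_sb M pcs.2.2.2.2.1) (le_inf (sb_cen M) (sb_stab M pcs.1.2.1 p1
      (sb_nor M pcs.1.2.1) fun d => (tb2 d).2.2.2))
    (inf_le_inf_left _ (le_inf (stab_nor (sb_sb M p1)) fun _ k => k.1)) (by
      rw [card_sb M pcs.2.2.2.1, card_sb M pcs.2.2.2.2.1, cts.1, cts.2.2.2]) fun g g1 hg => ?_
  rw [cj_inf, cj_eq_self (le_normalizer_stab inf_le_left inf_le_right g1.2)] at hg
  have := (hg (mem_sb' (c := k 768) (by simp))).2.2 _ (mem_sb' (c := k 32) (by simp))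
  rw [e_com M, mem_sb M pcs.1.2.1] at this
  exact absurd this (by decide +kernel)

end

end H95.L3
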