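/- L33 (row S3140), slot FX1: an element that acts with order three on `R₀ / U`. -/
import Cfsg.Agent.H95.L3Syl

set_option autoImplicit false
set_option linter.unusedSectionVars false

namespace H95.L3

open Subgroup Cfsg H98 H1.Gold H85.FZ H85.En H85.L33 H85.DZ H85.S3
open H49.D8 (Tri AS mc1 mcen DH cen_cl nor_cl)
open scoped commutatorElement

universe u

abbrev g0 : List Cd := [k 1, k 2, k 4, k 8]
abbrev g1 : List Cd := [k 1, k 2, k 16, k 32]
abbrev g2 : List Cd := [k 1, k 2, k 64, k 128]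

theorem tc1 : ∀ p ∈ [(k 1, g0), (k 2, g1), (k 3, g2)], (Pc [p.1] ∧ Pc p.2 ∧ In gU p.1 ∧
    (∀ c ∈ p.2, In gR0 c) ∧ ∀ d ∈ p.2, ∀ c ∈ [p.1], In [p.1] (d * c * d⁻¹)) ∧
    ∀ d, In gR0 d → (∀ c ∈ p.2, In [p.1] (d * c * d⁻¹ * c⁻¹)) ∧
      ((∀ r ∈ gR0, In [p.1] (r * d * r⁻¹ * d⁻¹)) → In p.2 d) := by decide +kernel

theorem tc2 : ∀ d, In g1 d → ∀ d', In g2 d' →
    ∀ p ∈ [(k 178, k 48, k 128), (k 227, k 32, k 192), (k 82, k 16, k 64)],
      In gA (d' * d * p.1⁻¹) → In gU (d * p.2.1⁻¹) ∧ In gU (d' * p.2.2⁻¹) := by decide +kernel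

theorem tc3 : ∀ d, In gA d → d * d ≠ 1 → In gU (d * (k 4)⁻¹) ∧ ∀ d', In g0 d' → ¬ In gA d' →
    In gU (d' * (k 8)⁻¹) ∨ (In gU (d' * (k 12)⁻¹) ∧ In gU (d' * d * (k 8)⁻¹)) := by decide +kernel

variable {G : Type u} [Group G] [Finite G] {X A : Subgroup G} {x : ℕ → G} {g : G}

theorem tE (M : Md TS LS x) (h1 : g ∈ nor (sb x gE)) (h2 : g * e x (k 1) = e x (k 1) * g) :
    g * e x (k 512) * g⁻¹ = e x (k 512) ∨ g * e x (k 512) * g⁻¹ = e x (k 513) := by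
  obtain ⟨d, d1, hd⟩ := sb_ex M pcs.1.2.2.1
    (conj_mem_of_mem_normalizer h1 (mem_sb' (c := k 512) (by simp)))
  rcases (tb1 d).2.2 d1 with rfl | rfl | rfl | rfl
  · rw [e_one, conj_eq_one_iff, e_eq_one M] at hd
    exact absurd hd (by decide +kernel)
  · rw [mul_inv_eq_iff_eq_mul, ← h2, mul_right_inj, e_inj M] at hd
    exact absurd hd (by decide +kernel)
  exacts [Or.inl hd, Or.inr hd]

theorem sb_c1 (M : Md TS LS x) {gs : List Cd} {c : Cd}
    (h : ∀ d ∈ gs, d * c = c * d := by decide +kernel) : sb x gs ≤ cen1 (e x c) :=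
  sb_le.2 fun d hd => by rw [mc1, ← e_mul M, ← e_mul M, h d hd]

theorem syP0 (h : C6 X A x) (f : FA X A x) :
    IsSyl 2 (sb x gP0) (cen1 (e x (k 512)) ⊓ cen (sb x gQ)) := by
  have M := md0 h.toB0
  have tN : cen1 (x 9) ≤ nor A := H14.std_centralizer_le h.st.std h.st.o h.st.tK
  have sy := h.sylt
  have SA := f.SA
  rw [eL x 8 256, eW x 338 [8, 6, 4, 1], eW x 178 [7, 5, 4, 1], ← (sdS M).cl4] at SA
  replace SA : H x 10 ⊓ A = sb x [k 1, k 256, k 338, k 178] := SA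
  have pD : Pc [k 1, k 256, k 338, k 178] := by decide +kernel
  rw [eL x 9 512] at sy tN
  refine ⟨le_inf (sb_c1 M) (sb_cen M), two_sb M _, fun P hP k1 k2 => ?_⟩
  obtain ⟨l, l1, l2⟩ := sy.exists_cj_le (hP.to_sup_of_normal_right' (two_sb M gQ)
    (le_normalizer_of_le_centralizer (k2.trans inf_le_right))) (sup_le (k2.trans inf_le_left) (sb_c1 M))
  have key : ∀ c ∈ [k 82, k 178], l * e x c * l⁻¹ ∈ sb x gQ := fun c hc => by
    have c2 : c ∈ gQ ∧ In [k 1, k 256, k 338, k 178] c ∧ c * c ≠ 1 ∧ c * c * (c * c) = 1 := by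
      revert c; decide +kernel
    obtain ⟨d, d1, hd⟩ := sb_ex M pD (SA.le ⟨(l2 (conj_mem_cj (mem_sup_right (mem_sb' c2.1)))).1,
      conj_mem_of_mem_normalizer (tN l1) (SA.ge ((mem_sb M pD).2 c2.2.1)).2⟩)
    rw [hd, mem_sb M pcs.1.2.2.2.1]
    refine (tb1 d).1 d1 ?_ ?_ <;>
      simp only [Ne, ← e_eq_one M, e_mul M, ← hd, conj_mul, conj_eq_one_iff] <;>
      simp only [← e_mul M, e_eq_one M]
    exacts [c2.2.2.1, c2.2.2.2]
  have nQ : l ∈ nor (sb x gQ) := nor_sb (List.forall_mem_cons.2 ⟨by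
    rw [show k 1 = k 82 * k 82 by decide +kernel, e_mul M, ← conj_mul]
    exact mul_mem (key _ (by simp)) (key _ (by simp)), key⟩)
  refine (eq_of_le_of_card_ge k1 ?_).symm
  rw [← H98.card_cj l P]
  refine card_le_of_le fun w hw => ?_
  have w1 := l2 (cj_mono l le_sup_left hw)
  have w2 := cj_le_of_le (k2.trans inf_le_right) (normalizer_le_normalizer_centralizer _ nQ) hw
  obtain ⟨d, rfl⟩ := surj M w1.1
  exact (mem_sb M pcs.2.1).2 (((tb1 d).2.1 (by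
    rw [← e_inj M, e_mul M, e_mul M]; exact mc1.1 w1.2)).1 ((e_cen M).1 w2))

theorem syP1 (h : C6 X A x) (f : FA X A x) : IsSyl 2 (sb x gP1) (cen (sb x gQ) ⊓ nor (sb x gE)) := by
  have M := md0 h.toB0
  have P01 : sb x gP0 ≤ sb x gP1 := sb_sb M pcs.2.2.1
  refine ⟨le_inf (sb_cen M) (sb_nor M pcs.1.2.2.1), two_sb M _, fun P hP k1 k2 =>
    le_antisymm (fun p hp => ?_) k1⟩
  have e0 := (syP0 h f).eq_of_le (hP.to_inf_left (K := cen1 (e x (k 512))))
    (le_inf (P01.trans k1) (sb_c1 M)) (le_inf inf_le_right (inf_le_left.trans (k2.trans inf_le_left)))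
  have aP : e x (k 4) ∈ sb x gP1 := mem_sb' (by simp)
  rcases tE M (k2 hp).2 (mcen.1 (k2 hp).1 _ (mem_sb' (by simp))).symm with k3 | k3
  · exact P01 (e0.le ⟨hp, mc1.2 (mul_inv_eq_iff_eq_mul.1 k3)⟩)
  · refine (mul_mem_cancel_left aP).1 (P01 (e0.le ⟨mul_mem (k1 aP) hp,
      mc1.2 (mul_inv_eq_iff_eq_mul.1 ?_)⟩))
    rw [show ∀ a t : G, a * p * t * (a * p)⁻¹ = a * (p * t * p⁻¹) * a⁻¹ from fun _ _ => by group, k3]
    simp only [← e_mul M, ← e_inv M, e_inj M]; decide +kernel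

theorem st1 (h : C6 X A x) (f : FA X A x) {r : G} (r3 : r ^ 3 = 1) (rQ : r ∈ nor (sb x gQ))
    (rE : r ∈ cen (sb x gE)) :
    ∃ θ ∈ cen (sb x gA), ∀ q ∈ sb x gQ, θ * q * θ⁻¹ = r * q * r⁻¹ := by
  have M := md0 h.toB0
  obtain ⟨n, n1, c, c1, e0⟩ := (syP1 h f).frattini_mem (g := r) (le_normalizer_inf
    (H := nor (sb x gQ) ⊓ cen (sb x gE)) (le_normalizer_centralizer inf_le_left)
    (le_normalizer_normalizer (le_normalizer_of_le_centralizer inf_le_right)) ⟨rQ, rE⟩)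
  have pw : ∀ m : ℕ, (r ^ m)⁻¹ * n ^ m ∈ cen (sb x gQ) := fun m => by
    induction m with
    | zero => simpa using one_mem _
    | succ m ih =>
      have := mul_mem (conj_mem_of_mem_normalizer' (normalizer_le_normalizer_centralizer _ rQ) ih)
        (conj_mem_of_mem_normalizer' (normalizer_le_normalizer_centralizer _ rQ)
          (conj_mem_of_mem_normalizer (normalizer_le_normalizer_centralizer _ rQ) (inv_mem c1.1)))
      convert this using 1
      rw [pow_succ, pow_succ, show c⁻¹ = r⁻¹ * n by rw [e0]; group]; group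
  obtain ⟨j, hj⟩ := odd_part n
  have ho : Odd (orderOf (n ^ (2 ^ j * 2 ^ j))) := hj.of_dvd_nat (pow_mul n _ _ ▸ orderOf_pow_dvd _)
  have p1 := pw (2 ^ j * 2 ^ j)
  rw [pow_eq_pow_mod _ r3, show 2 ^ j * 2 ^ j % 3 = 1 by rw [← mul_pow, Nat.pow_mod]; simp, pow_one] at p1
  have nE : n ^ (2 ^ j * 2 ^ j) ∈ nor (sb x gE) :=
    pow_mem ((mul_mem_cancel_right (mem_inf.1 c1).2).1 (e0 ▸ centralizer_le_normalizer _ rE)) _
  have nz : n ^ (2 ^ j * 2 ^ j) ∈ cen (sb x [k 1]) := pow_mem ((mul_mem_cancel_right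
    (centralizer_anti (sb_sb M pcs.1.2.2.2.1) c1.1)).1
      (e0 ▸ centralizer_anti (sb_sb M pcs.1.2.2.1) rE)) _
  have nP := pow_mem n1 (2 ^ j * 2 ^ j)
  generalize n ^ (2 ^ j * 2 ^ j) = θ at ho p1 nE nz nP
  have θz := mcen.1 nz _ (mem_sb' (c := k 1) (by simp))
  have θt : θ * e x (k 512) = e x (k 512) * θ := comm_of_stab (two_sb M _) ho nz (by
    rcases tE M nE θz.symm with k1 | k1 <;>
      rw [k1, ← e_inv M, ← e_mul M, mem_sb M (by decide +kernel)] <;> decide +kernel)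
  have θy : θ * e x (k 6) = e x (k 6) * θ := comm_of_stab (two_sb M gE) ho (cen_sb.2 (by
    simp [θz, θt])) (by
    obtain ⟨d, d1, hd⟩ := sb_ex M pcs.2.2.1 (conj_mem_of_mem_normalizer nP
      ((mem_sb M (c := k 6) pcs.2.2.1).2 (by decide +kernel)))
    rw [hd, ← e_inv M, ← e_mul M, mem_sb M pcs.1.2.2.1]
    refine (((tb1 d).2.1 ?_).2 d1).2 ?_ <;> rw [← e_inj M, e_mul M, ← hd]
    · rw [e_mul M, ← hd, ← mul_inv_eq_iff_eq_mul.2 θt, conj_mul, conj_mul, ← e_mul M, ← e_mul M,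
        show k 6 * k 512 = k 512 * k 6 by decide +kernel]
    · rw [conj_mul, ← e_mul M, show k 6 * k 6 = k 1 by decide +kernel, ← θz, mul_inv_cancel_right])
  refine ⟨θ, centralizer_anti (sb_sb M pcs.2.2.1) (copr (two_sb M _) nP ho (sb_sb M (gs := gP0) pcs.2.2.1)
    (cen_sb.2 (by simp [θz, θt, θy])) fun w w1 w2 => ?_), fun q hq => ?_⟩
  · obtain ⟨d, d1, rfl⟩ := sb_ex M pcs.2.2.1 w1
    exact (mem_sb M pcs.2.1).2 (((tb1 d).2.1 ((e_cen M).1 w2 _ (by simp)).symm).2 d1).1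
  · calc _ = r * (r⁻¹ * θ * q) * θ⁻¹ := by group
      _ = _ := by rw [← mcen.1 p1 q hq]; group

theorem stp {Q C N : Subgroup G} {r c : G} (hQ : Q ≤ C) (hn : g * c ∈ nor N) (hc : c ∈ stab C N)
    (h : ∀ q ∈ Q, g * c * q * (g * c)⁻¹ * (r * q * r⁻¹)⁻¹ ∈ N) :
    ∀ q ∈ Q, g * q * g⁻¹ * (r * q * r⁻¹)⁻¹ ∈ N := fun q hq => by
  have := mul_mem (conj_mem_of_mem_normalizer hn (inv_mem ((inv_mem hc).2 q (hQ hq)))) (h q hq)
  convert this using 1
  simp only [commutatorElement_def]; group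

theorem norQ (M : Md TS LS x) (h1 : g ∈ nor (sb x gR0)) (h2 : g ∈ cen (sb x gU)) {z : Cd}
    {ps : List Cd} (hp : (z, ps) ∈ [(k 1, g0), (k 2, g1), (k 3, g2)]) : g ∈ nor (sb x ps) := by
  obtain ⟨⟨a1, a2, a3, a4, a5⟩, a6⟩ := tc1 _ hp
  have p0 := pcs.2.2.2.1
  refine nor_sb fun c hc => ?_
  have := conj_mem_of_mem_normalizer (le_normalizer_stab (H := nor (sb x gR0) ⊓ cen (sb x gU))
    inf_le_left (le_normalizer_of_le_centralizer (inf_le_right.trans (centralizer_anti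
      (sb_sb M pcs.1.1 (List.forall_mem_singleton.2 a3))))) ⟨h1, h2⟩)
    (sb_stab M a1 p0 (sb_nor M a1 a5) (fun d hd => (a6 d hd).1) (mem_sb' hc))
  obtain ⟨d, d1, hd⟩ := sb_ex M p0 (conj_mem_of_mem_normalizer h1 ((mem_sb M p0).2 (a4 c hc)))
  rw [hd] at this ⊢
  exact (mem_sb M a2).2 ((a6 d d1).2 fun r hr => by
    rw [← mem_sb M a1, ← e_com M]; exact this.2 _ (mem_sb' hr))

/-- `g` maps `p` to `q` modulo `U`. -/
def Rl (x : ℕ → G) (g : G) (p q : Cd) : Prop := g * e x p * g⁻¹ * (e x q)⁻¹ ∈ sb x gU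

theorem Rl.of (M : Md TS LS x) {p q d : Cd} (h : g * e x p * g⁻¹ = e x d) (h1 : In gU (d * q⁻¹)) :
    Rl x g p q := by
  rwa [Rl, h, ← e_inv M, ← e_mul M, mem_sb M pcs.1.1]

theorem Rl.tw {p q r : Cd} (h : g ∈ nor (sb x gU)) (h1 : Rl x g p q) (h2 : Rl x g q r) :
    (g * g)⁻¹ * e x r * (g * g)⁻¹⁻¹ * (e x p)⁻¹ ∈ sb x gU := by
  have := conj_mem_of_mem_normalizer' (mul_mem h h)
    (inv_mem (mul_mem (conj_mem_of_mem_normalizer h h1) h2))
  convert this using 1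
  group

theorem spl (M : Md TS LS x) (h1 : g ∈ nor (sb x gR0)) (h2 : g ∈ cen (sb x gU)) {p p' u q q' r r' : Cd}
    (hp : In g1 p ∧ In g2 p' ∧ In gU u ∧ p' * p = u * q)
    (hr : (q', r, r') ∈ [(k 178, k 48, k 128), (k 227, k 32, k 192), (k 82, k 16, k 64)])
    (T : g * e x q * g⁻¹ * (e x q')⁻¹ ∈ sb x gA) : Rl x g p r ∧ Rl x g p' r' := by
  have pc : Pc g1 ∧ Pc g2 := by decide +kernel
  obtain ⟨d, d1, hd⟩ := sb_ex M pc.1 (conj_mem_of_mem_normalizer (norQ M h1 h2 (z := k 2) (by simp))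
    ((mem_sb M pc.1).2 hp.1))
  obtain ⟨d', d2, hd'⟩ := sb_ex M pc.2 (conj_mem_of_mem_normalizer (norQ M h1 h2 (z := k 3) (by simp))
    ((mem_sb M pc.2).2 hp.2.1))
  have uU := (mem_sb M pcs.1.1).2 hp.2.2.1
  have := tc2 d d1 d' d2 _ hr (by
    rw [← mem_sb M pcs.1.2.1, e_mul M, e_mul M, e_inv M, ← hd, ← hd', conj_mul, ← e_mul M, hp.2.2.2,
      e_mul M, ← mul_assoc, ← mcen.1 h2 _ uU]
    simpa only [mul_assoc] using mul_mem (sb_sb M pcs.1.2.1 (by decide +kernel) uU) T)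
  exact ⟨.of M hd this.1, .of M hd' this.2⟩

theorem jobFX1 : JobFX1.{u} := by
  intro kit G _ _ X A x h f
  have K := kit G A h.st.ty
  have M := md0 h.toB0
  have At : A ≤ cen1 (x 9) := H31.S2.le_cen1_iff.2 h.st.tK
  have SA := f.SA
  rw [eL x 8 256, eW x 338 [8, 6, 4, 1], eW x 178 [7, 5, 4, 1]] at SA
  obtain ⟨r, rA, r3, rz, ri, rj, -⟩ := K.cz _ _ _ _ (sdS M) (SA.ge.trans inf_le_right)
  rw [← e_mul M, show k 256 * k 338 = k 82 by decide +kernel] at ri rj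
  rw [← e_mul M, show k 82 * k 178 = k 227 by decide +kernel] at rj
  have rk : r * e x (k 227) * r⁻¹ = e x (k 82) := by
    rw [show k 227 = k 82 * k 178 by decide +kernel, e_mul M, ← conj_mul, ri, rj, ← e_mul M, e_inj M]
    decide +kernel
  have pQ := pcs.1.2.2.2.1
  have pB := pcs.1.2.2.2.2.1
  have pA := pcs.1.2.1
  obtain ⟨θ, θ1, θ2⟩ := st1 h f r3 (nor_sb (by
    simp only [List.forall_mem_cons, ri, rj, rz, mul_inv_cancel_right, mem_sb M pQ, List.not_mem_nil,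
      false_imp_iff, implies_true, and_true]
    decide +kernel)) (cen_sb.2 (by simp [rz, eL x 9 512 ▸ mc1.1 (At rA)]))
  have m : ∀ c, In gQ c → e x c ∈ sb x gQ := fun c => (mem_sb M pQ).2
  have θB : θ ∈ nor (sb x gB) := nor_sb (by
    have := cen_sb.1 θ1
    simp only [List.forall_mem_cons] at this
    simp only [List.forall_mem_cons, θ2 _ (m (k 82) (by decide +kernel)),
      θ2 _ (m (k 178) (by decide +kernel)), ri, rj, ← this.1, ← this.2.1, ← this.2.2.1,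
      mul_inv_cancel_right, mem_sb M pB, List.not_mem_nil, false_imp_iff, implies_true, and_true]
    decide +kernel)
  have UA : cen (sb x gA) ≤ cen (sb x gU) := centralizer_anti (sb_sb M pA)
  obtain ⟨n, n1, c, c1, rfl⟩ := (syR1 M h.syl).frattini_mem (g := θ) (le_normalizer_inf
    (H := cen (sb x gA) ⊓ nor (sb x gB)) (le_normalizer_of_le inf_le_left)
    (le_normalizer_stab inf_le_right (le_normalizer_of_le_centralizer inf_le_left)) ⟨θ1, θB⟩)
  have nA : n ∈ cen (sb x gA) := (mul_mem_cancel_right (mem_inf.1 c1).1).1 θ1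
  have T1 := stp (r := r) (sb_sb M (gs := gQ) pB) (centralizer_le_normalizer _ θ1) c1.2 fun q hq => by
    rw [θ2 q hq, mul_inv_cancel]; exact one_mem _
  obtain ⟨g, g1, c, c1, rfl⟩ := (syR0 M h.syl).frattini_mem (g := n) (le_normalizer_inf
    (H := cen (sb x gA) ⊓ nor (sb x gR1)) (le_normalizer_of_le (inf_le_left.trans UA))
    (le_normalizer_stab inf_le_right (le_normalizer_of_le_centralizer inf_le_left)) ⟨nA, n1⟩)
  have g2 : g ∈ cen (sb x gU) := (mul_mem_cancel_right (mem_inf.1 c1).1).1 (UA nA)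
  have g3 : g ∈ nor (sb x gA) := (mul_mem_cancel_right c1.2.1).1 (centralizer_le_normalizer _ nA)
  have T2 := stp (sb_sb M pcs.2.2.2.2.2.1) (centralizer_le_normalizer _ nA) c1.2 T1
  obtain ⟨s1, s2⟩ := spl M g1 g2 (p := k 16) (p' := k 64) (u := k 2) (q := k 82) (r := k 48)
    (r' := k 128) (by decide +kernel) (by simp) (ri ▸ T2 _ (m _ (by decide +kernel)))
  obtain ⟨s3, s4⟩ := spl M g1 g2 (p := k 48) (p' := k 128) (u := k 2) (q := k 178) (r := k 32)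
    (r' := k 192) (by decide +kernel) (by simp) (rj ▸ T2 _ (m _ (by decide +kernel)))
  obtain ⟨s5, s6⟩ := spl M g1 g2 (p := k 32) (p' := k 192) (u := k 3) (q := k 227) (r := k 16)
    (r' := k 64) (by decide +kernel) (by simp) (rk ▸ T2 _ (m _ (by decide +kernel)))
  have p0 : Pc g0 := by decide +kernel
  obtain ⟨d, d1, hd⟩ := sb_ex M pA (conj_mem_of_mem_normalizer g3 (mem_sb' (c := k 4) (by simp)))
  obtain ⟨d', d2, hd'⟩ := sb_ex M p0 (conj_mem_of_mem_normalizer (norQ M g1 g2 (z := k 1) (by simp))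
    (mem_sb' (c := k 8) (by simp)))
  obtain ⟨s7, s8⟩ := tc3 d d1 (by
    rw [Ne, ← e_eq_one M, e_mul M, ← hd, conj_mul, conj_eq_one_iff, ← e_mul M, e_eq_one M]
    decide +kernel)
  replace s7 := Rl.of M hd s7
  have gN := centralizer_le_normalizer _ g2
  have s9 : (g * g)⁻¹ * e x (k 8) * (g * g)⁻¹⁻¹ * (e x (k 8))⁻¹ ∈ sb x gU := by
    rcases s8 d' d2 (by
      rw [← mem_sb M pA, ← hd', ← mem_normalizer_iff.1 g3, mem_sb M pA]; decide +kernel) with k1 | k1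
    · exact (Rl.of M hd' k1).tw gN (Rl.of M hd' k1)
    · exact (Rl.of M hd' k1.1).tw gN (Rl.of M (by
        rw [show k 12 = k 8 * k 4 by decide +kernel, e_mul M, e_mul M, ← conj_mul, hd, hd']) k1.2)
  have eU : H x 2 = sb x gU := le_antisymm (H_le fun i hi => by
    obtain rfl | rfl : i = 0 ∨ i = 1 := by omega
    exacts [eL x 0 1 ▸ mem_sb' (by simp), eL x 1 2 ▸ mem_sb' (by simp)])
    (sb_le.2 fun c hc => (memH M (by decide)).2 (by revert c; decide +kernel))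
  refine ⟨(g * g)⁻¹, eU ▸ inv_mem (mul_mem g2 g2), ?_⟩
  simp only [Ac, m1, List.forall_mem_cons, List.not_mem_nil, false_imp_iff, implies_true, and_true, eU]
  rw [eL x 2 4, eL x 3 8, eL x 4 16, eL x 5 32, eL x 6 64, eL x 7 128, eW x 4 [2], eW x 8 [3],
    eW x 48 [5, 4], eW x 16 [4], eW x 128 [7], eW x 192 [7, 6]]
  exact ⟨s7.tw gN s7, s9, s3.tw gN s5, s1.tw gN s3, s4.tw gN s6, s6.tw gN s2⟩

end H95.L3
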