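/- STD-F4, slot FB: for `q = 2` the automorphisms of `P / Q = Sp₆(2)` are inner. -/
import Cfsg.Agent.H63.SFFR
import Cfsg.Agent.H22.SpCover
import Cfsg.Agent.H65.S62M
import Cfsg.Agent.H69.HeKit
import Cfsg.Agent.H59.SOBasic
import Cfsg.Agent.S0814

set_option autoImplicit false
set_option linter.unusedSectionVars false

namespace H95.SFB

open Subgroup H98 Cfsg Cfsg.Lie H63 H64 H65 H86.WR
open H86.F4 hiding x_mem stB ns
open H64.SF hiding x Rt
open H64.SG (Cz Cs Ns cjs IsO2 UU mem_Cz syl_UU)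
open H46.SF (sh)
open H22.Sp6 (LR S7 RZ c9 CS6 τ)
open H71 (evw pairVal)
open H69.He (bv app EA Ac)
open H59.SO (AutOn)

theorem aut_inner {H : Type*} [Group H] [Finite H] {t : ℕ → H} (h : LR t 1)
    (ht : H71.gen t S7 = ⊤) (α : MulAut H) : ∃ m, α = MulAut.conj m := by
  obtain ⟨e⟩ := H22.Sp6.nonempty_equiv
  obtain ⟨e'⟩ := H65.S62M.equiv (ZMod 2) (ZMod.card 2)
  have := H65.S62M.simple
  have := e.isSimpleGroup
  have : Finite (H49.UG CS6) := Finite.of_equiv _ e.symm.toEquiv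
  obtain ⟨ψ, hψ⟩ := H22.Sp6.hom_of_bound (K := H71.gen (pairVal t τ) S7)
    (by rw [H71.pair_map_snd, H22.Sp6.τ_top])
    (by rw [Nat.card_congr e.toEquiv, H22.Sp6.card_sp6]
        exact (h.pair H22.Sp6.lr_model).card_le_one.2)
  replace hψ : ∀ l ∈ S7, ψ (τ l) = t l := fun l hl => hψ _ (H71.mem_gen _ hl)
  have hs : Function.Surjective ψ := by
    rw [← MonoidHom.range_eq_top, MonoidHom.range_eq_map, ← H22.Sp6.τ_top, H71.map_gen ψ hψ, ht]
  rcases (inferInstance : ψ.ker.Normal).eq_bot_or_eq_top with k | k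
  · let E := (MulEquiv.ofBijective ψ ⟨(MonoidHom.ker_eq_bot_iff ψ).1 k, hs⟩).symm.trans e
    have hi : Function.Injective (MulAut.conj : H →* MulAut H) := by
      rw [injective_iff_map_eq_one]
      intro z hz
      have : E z ∈ center _ := mem_center_iff.2 fun g => by
        obtain ⟨g, rfl⟩ := E.surjective g
        rw [← map_mul, ← map_mul]
        exact congrArg E (mul_inv_eq_iff_eq_mul.1 (DFunLike.congr_fun hz g)).symm
      rwa [H65.S62M.cen, mem_bot, map_eq_one_iff _ E.injective] at this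
    obtain ⟨m, hm⟩ := (hi.bijective_of_nat_card_le (by
      rw [Nat.card_congr (MulAut.congr (E.trans e')).toEquiv, Nat.card_congr (E.trans e').toEquiv,
        Cfsg.Agent.S0814.result 2 1 le_rfl (ZMod.card 2) 3 (by decide) (by decide)]
      simp)).2 α
    exact ⟨m, hm.symm⟩
  · refine ⟨1, MulEquiv.ext fun g => ?_⟩
    have : ∀ g : H, g = 1 := fun g => by
      obtain ⟨a, rfl⟩ := hs g
      exact k.ge (mem_top a)
    exact (this _).trans (this _).symm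

/-- The action of `x_s(1)` on the coordinates of `V`. -/
def cT (s : ℕ) : List ℕ := [[1, 2, 4, 8, 16, 33, 66], [1, 2, 4, 8, 17, 32, 68],
  [1, 2, 4, 8, 18, 36, 64], [1, 2, 4, 8, 16, 32, 73], [1, 2, 4, 8, 16, 42, 64],
  [1, 2, 4, 8, 28, 32, 64], [1, 2, 5, 8, 16, 32, 80], [1, 2, 6, 8, 16, 48, 64],
  [1, 3, 4, 8, 16, 32, 96], [3, 2, 4, 8, 16, 96, 64], [1, 6, 4, 8, 48, 32, 64],
  [5, 2, 4, 8, 80, 32, 64], [1, 2, 28, 8, 16, 32, 64], [1, 42, 4, 8, 16, 32, 64],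
  [73, 2, 4, 8, 16, 32, 64], [1, 18, 36, 8, 16, 32, 64], [17, 2, 68, 8, 16, 32, 64],
  [33, 66, 4, 8, 16, 32, 64]].getD (s - 15) []

/-- The roots of `V`. -/
def R7 : List ℕ := [41, 42, 43, 44, 45, 46, 47]
/-- The coordinate of a root of `V`. -/
def bt (r : ℕ) : ℕ := 2 ^ (r - 41)

theorem cT_spec : ∀ s < 33, 15 ≤ s → s ∈ lP 44 ∧ ∃ c : List ℕ, cT s = c ∧ c = R7.map fun r =>
    if 0 ≤ ip s r then bt r else if sh s then bt (ad s r) ^^^ bt (ad s (ad s r)) ^^^ bt r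
    else bt (ad s r) ^^^ bt r := by
  simp only [exists_eq_left']
  decide +kernel

theorem rt_spec : ∀ s < 33, 15 ≤ s → ∀ r ∈ R7, 0 ≤ ip s r ∨ (ip s r < 0 ∧ sh r = false ∧
    s ≠ 47 - r ∧ r ≠ 47 - s ∧ ad s r ∈ R7 ∧ (sh s = true → ad s (ad s r) ∈ R7)) := by
  decide +kernel

/-- The seven transvections. -/
def tw (l : ℕ) : List ℕ := [[27], [20], [16, 27, 16], [29], [15, 18, 19], [28], [18]].getD l []

/-- The root elements as words in the transvections. -/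
def gw (s : ℕ) : List ℕ := [[0, 1, 0, 2, 1, 0, 3, 2, 1, 0, 4, 3, 2, 1, 6, 3, 2, 1, 0, 4, 3, 2, 1, 6,
  3, 2, 4, 3], [0, 1, 0, 2, 1, 0, 6], [0, 1, 2, 3, 2, 4, 3, 2, 6, 3, 2, 1, 0, 4, 3, 6], [6],
  [0, 1, 0, 2, 1, 0, 3, 2, 1, 0, 4, 3, 2, 1, 0, 6, 3, 2, 1, 0, 4, 3, 2, 1, 6, 3, 2, 4, 3, 6], [1],
  [0, 2, 6], [2, 3, 2, 4, 3, 2, 6, 3, 2, 4, 3, 6], [3, 2, 1, 0, 5, 6, 3, 2, 1, 0, 4, 3, 2, 5, 4, 3,
  6, 3, 2, 1, 0, 4, 3, 2, 1, 5, 4, 3, 2, 6, 3], [0, 1, 0, 2, 1, 0, 3, 2, 1, 4, 3, 2, 6, 3, 2, 1, 0,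
  4, 3, 2, 1, 6, 3, 2], [0, 1, 0, 4, 3, 2, 5, 4, 3, 2, 6, 3, 2, 1, 0, 4, 3, 5, 4],
  [0, 1, 0, 2, 3, 2, 6, 3, 2, 1, 0], [0], [5], [3], [0, 4, 3, 2, 5, 4, 3, 2, 6, 3, 2, 4, 3, 5, 4],
  [0, 2, 3, 2, 6, 3, 2], [2, 1, 0, 3, 2, 1, 0, 4, 3, 2, 5, 4, 3, 2, 6, 3, 2, 1, 0, 4, 3, 2, 1, 5, 4,
  3, 2]].getD (s - 15) []

/-- The action of a word. -/
def ew (w : List ℕ) (n : ℕ) : ℕ := w.foldr (fun s n => app (cT s) n) n

/-- A word in the Levi roots that acts trivially. -/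
def Tr (w : List ℕ) : Prop := (∀ s ∈ w, s < 33 ∧ 15 ≤ s) ∧ ∀ r ∈ R7, ew w (bt r) = bt r
instance (w : List ℕ) : Decidable (Tr w) := inferInstanceAs (Decidable (_ ∧ _))

theorem tr_spec : (∀ w ∈ RZ, Tr (w.flatMap tw)) ∧ Tr (c9.flatMap tw) ∧
    (∀ s < 33, 15 ≤ s → (∀ l ∈ gw s, l ∈ S7) ∧ Tr (s :: (gw s).flatMap tw)) ∧
    (∀ s ∈ lP 44, s ∈ lQ 44 ∨ (s < 33 ∧ 15 ≤ s)) ∧ (∀ r, r ∈ lV 44 ↔ r ∈ R7) := by
  refine ⟨by decide +kernel, by decide +kernel, by decide +kernel, by decide +kernel, ?_⟩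
  rw [show lV 44 = R7 by decide +kernel]
  exact fun _ => Iff.rfl

variable {F : Type} [Field F] [CharP F 2] [Finite F]

local notation "X" => H64.SF.x F

theorem bor {g : XF F} (hg : ∀ r ∈ [44, 45, 46, 47], g ∈ Cz (X r 1)) :
    g ∈ UF4 F ⊔ HH chevF4 (xG chevF4 F) := by
  refine (H26.SG.le_of_bruhat (adF F) (C := ⨅ r ∈ [44, 45, 46, 47], Cz (X r 1)) (J := ∅)
    (K := _ ⊓ (stB (F := F)).rgd.B) inf_le_left (by simp) (fun b hb m w hw u hu e => ?_)
    (fun b hb e => ⟨e, hb⟩) (mem_iInf.2 fun r => mem_iInf.2 (hg r))).2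
  replace hg := fun r => mem_iInf.1 (mem_iInf.1 e r)
  have k : ∀ r (h1 : r < 48), r ∈ [44, 45, 46, 47] → r ≤ w.1 (R r h1) ∧ (w.1 (R r h1) : ℕ) < 48 ∧
      chevF4.isLong (w.1 (R r h1)) = chevF4.isLong r := fun r h1 hr =>
    ⟨H26.SG.le_act_of_comm stB (r := R r h1) ((pos_iff _).2 (by revert r; decide)) one_ne_zero hb hw
      hu (mem_Cz.1 (hg r hr)), (w.1 _).2, isLong_apply w _⟩
  have ne : ∀ r (h1 : r < 48) s (h2 : s < 48), w.1 (R s h2) = R s h2 → r ≠ s →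
      (w.1 (R r h1) : ℕ) ≠ s := fun r h1 s h2 a b c =>
    b (congrArg Fin.val (w.1.injective ((Fin.ext c).trans a.symm)))
  have a1 : w.1 (R 47) = R 47 := Fin.ext (by have := k 47 (by decide) (by simp); simp only; omega)
  have a2 : w.1 (R 46) = R 46 := Fin.ext (by
    have := k 46 (by decide) (by simp); have := ne 46 (by decide) 47 _ a1 (by decide)
    simp only; omega)
  have a3 : w.1 (R 45) = R 45 := Fin.ext (by
    have := k 45 (by decide) (by simp); have := ne 45 (by decide) 47 _ a1 (by decide)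
    have := ne 45 (by decide) 46 _ a2 (by decide); simp only; omega)
  have a4 : w.1 (R 44) = R 44 := Fin.ext (by
    have := k 44 (by decide) (by simp); have := ne 44 (by decide) 47 _ a1 (by decide)
    have := ne 44 (by decide) 46 _ a2 (by decide); have := ne 44 (by decide) 45 _ a3 (by decide)
    simp only; omega)
  exact mem_WJ_of_fix [(R 47, 3), (R 46, 2), (R 45, 1), (R 44, 1)]
    (by simp [a1, a2, a3, a4]) (by decide +kernel) fun i _ => by clear * -; revert i; decide +kernel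

variable (F) in
/-- The basis of `V`. -/
noncomputable def LV : List (XF F) := R7.map (X · 1)

theorem R7_lt : ∀ r ∈ R7, r < 48 := by decide

theorem ea : EA (LV F) := by
  intro a ha
  obtain ⟨r, hr, rfl⟩ := List.mem_map.1 ha
  refine ⟨x_sq (R7_lt r hr) 1, fun b hb => ?_⟩
  obtain ⟨s, hs, rfl⟩ := List.mem_map.1 hb
  exact x_c0 (R7_lt r hr) (R7_lt s hs)
    ((by decide +kernel : ∀ r ∈ R7, ∀ s ∈ R7, 0 ≤ ip r s) r hr s hs) 1 1

theorem bv_bt {r : ℕ} (hr : r ∈ R7) : bv (LV F) (bt r) = X r 1 := by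
  simp only [R7, List.mem_cons, List.not_mem_nil, or_false] at hr
  rcases hr with rfl | rfl | rfl | rfl | rfl | rfl | rfl <;> simp [LV, R7, bt, H69.He.bv]

theorem ac_x {s : ℕ} (h1 : s < 33) (h2 : 15 ≤ s) : Ac (LV F) (X s 1) (app (cT s)) := by
  obtain ⟨-, c, e, rfl⟩ := cT_spec s h1 h2
  refine Ac.of_map ea ?_
  rw [e, LV, List.map_map, List.map_map]
  refine List.map_congr_left fun r hr => ?_
  have hs : s < 48 := by omega
  simp only [Function.comp, ← LV.eq_1]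
  rcases rt_spec s h1 h2 r hr with k | ⟨k1, k2, k3, k4, k5, k6⟩
  · rw [if_pos k, bv_bt hr, x_c0 hs (R7_lt r hr) k, mul_inv_cancel_right]
  rw [if_neg k1.not_ge, ← inv_mul_cancel_right (_ * _ * _) (X r 1)]
  split_ifs with k7
  · rw [ea.xor, ea.xor, bv_bt hr, bv_bt k5, bv_bt (k6 k7)]
    simpa using congrArg (· * X r 1) (x_c2 ⟨hs, k7⟩ ⟨R7_lt r hr, k2⟩ k1 (1 : F) 1)
  · rw [ea.xor, bv_bt hr, bv_bt k5]
    simpa using congrArg (· * X r 1)
      (x_c1 hs (R7_lt r hr) (by rw [k2]; simpa using k7) k1 k4 (1 : F) 1)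

theorem ac_w {w : List ℕ} (h : ∀ s ∈ w, s < 33 ∧ 15 ≤ s) :
    evw (X · 1) w ∈ P F 44 ∧ Ac (LV F) (evw (X · 1) w) (ew w) := by
  induction w with
  | nil => exact ⟨one_mem _, Ac.one⟩
  | cons s w ih =>
    have k := h s List.mem_cons_self
    have := ih fun a ha => h a (List.mem_cons_of_mem _ ha)
    rw [H71.evw_cons]
    exact ⟨mul_mem (x_mem (cT_spec s k.1 k.2).1 (by omega) 1) this.1, (ac_x k.1 k.2).mul this.2⟩

theorem two (hF : Nat.card F = 2) (a : F) : a = 0 ∨ a = 1 := by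
  obtain ⟨y, -, hy⟩ := (Nat.card_eq_two_iff' (0 : F)).1 hF
  exact or_iff_not_imp_left.2 fun h => (hy a h).trans (hy 1 one_ne_zero).symm

theorem cenV (hF : Nat.card F = 2) : P F 44 ⊓ Cs (V F 44) ≤ Q F 44 := by
  obtain ⟨-, o, -, -, cq, -⟩ := H63.SFR.six (F := F) (r := 44) (by decide)
  have nV : P F 44 ≤ Ns (V F 44) := cq ▸ o.2.1.trans fun g hg =>
    cj_eq_self_iff.1 (by rw [H98.cj_centralizer, cj_eq_self hg])
  refine o.2.2.2 _ inf_le_left (fun g hg => cj_eq_self_iff.1 (by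
    rw [cj_inf, H98.cj_centralizer, cj_eq_self (nV hg), cj_eq_self_of_mem hg]))
    ((syl_UU chevF4 F).isPGroup.to_le fun g hg => ?_)
  refine (sup_le le_rfl ((closure_le _).2 ?_) : _ ≤ UF4 F) (bor fun r hr => mem_Cz.2 (hg.2 _
    (x_mem ((tr_spec.2.2.2.2 r).2 (by revert r; decide)) (by revert r; decide) 1)))
  rintro _ ⟨r, t, ht, rfl⟩
  rw [(two hF t).resolve_left ht, st.hh_one]
  exact one_mem _

theorem Tr.mem (hF : Nat.card F = 2) {w : List ℕ} (h : Tr w) : evw (X · 1) w ∈ Q F 44 := by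
  obtain ⟨h1, h2⟩ := ac_w (F := F) h.1
  refine cenV hF ⟨h1, fun v hv => mem_centralizer_singleton_iff.1
    ((US_le fun r hr h3 a => ?_ : V F 44 ≤ centralizer {_}) hv)⟩
  rcases two hF a with rfl | rfl
  · rw [x_zero h3]; exact one_mem _
  have := h2 (bt r)
  rw [h.2 r ((tr_spec.2.2.2.2 r).1 hr), bv_bt ((tr_spec.2.2.2.2 r).1 hr)] at this
  exact mem_centralizer_singleton_iff.2 (mul_inv_eq_iff_eq_mul.1 this).symm

theorem tw_ok : ∀ l, ∀ s ∈ tw l, s < 33 ∧ 15 ≤ s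
  | 0 | 1 | 2 | 3 | 4 | 5 | 6 => by decide
  | n + 7 => by simp [tw]

theorem evw_flat {G : Type*} [Group G] (v : ℕ → G) (w : List ℕ) :
    evw (fun l => evw v (tw l)) w = evw v (w.flatMap tw) := by
  induction w with
  | nil => rfl
  | cons l w ih => rw [H71.evw_cons, ih, List.flatMap_cons, H71.evw_append]

theorem jobFB : H64.SF.JobFB := fun F _ _ _ hF θ h => by
  obtain ⟨-, o, -⟩ := H63.SFR.six (F := F) (r := 44) (by decide)
  let N := (Q F 44).subgroupOf (P F 44)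
  have : N.Normal := ⟨fun n hn g =>
    mem_subgroupOf.2 (conj_mem_of_mem_normalizer (H := Q F 44) (o.2.1 g.2) hn)⟩
  have he : N.map h.equiv.toMonoidHom = N := by
    have : (N.map h.equiv.toMonoidHom).Normal := Normal.map this _ h.equiv.surjective
    refine eq_of_le_of_card_ge (fun y hy => o.2.2.2 ((N.map h.equiv.toMonoidHom).map (P F 44).subtype)
      (map_subtype_le _) (fun g hg => ?_) (((o.2.2.1.comap_subtype).map _).map _) ⟨y, hy, rfl⟩)
      (card_map_of_injective h.equiv.injective).ge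
    refine mem_normalizer_fintype ?_
    rintro _ ⟨n, hn, rfl⟩
    exact ⟨_, this.conj_mem n hn ⟨g, hg⟩, rfl⟩
  let t : ℕ → P F 44 := fun l => ⟨_, (ac_w (tw_ok l)).1⟩
  have ht : ∀ w, ((evw t w : P F 44) : XF F) = evw (H64.SF.x F · 1) (w.flatMap tw) := fun w =>
    (H71.map_evw (P F 44).subtype t w).trans (evw_flat _ w)
  have k : ∀ w, Tr (w.flatMap tw) → evw (fun l => QuotientGroup.mk' N (t l)) w = 1 := fun w hw => by
    rw [← H71.map_evw, QuotientGroup.mk'_apply, QuotientGroup.eq_one_iff, mem_subgroupOf, ht]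
    exact hw.mem hF
  obtain ⟨m, hm⟩ := aut_inner (t := fun l => QuotientGroup.mk' N (t l))
    ⟨one_mul _, fun r hr => k r (tr_spec.1 r hr), k _ tr_spec.2.1⟩ (by
      rw [← H71.map_gen (QuotientGroup.mk' N) fun _ _ => rfl, eq_top_iff]
      rintro y -
      obtain ⟨⟨y, hy⟩, rfl⟩ := QuotientGroup.mk'_surjective N y
      obtain ⟨z, hz, rfl⟩ : y ∈ (((H71.gen t S7).map (QuotientGroup.mk' N)).comap
          (QuotientGroup.mk' N)).map (P F 44).subtype := by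
        refine (US_le fun s hs h3 a => mem_map.2 ⟨⟨_, x_mem hs h3 a⟩, ?_, rfl⟩ : P F 44 ≤ _) hy
        have z : ∀ y : P F 44, (y : XF F) ∈ Q F 44 → QuotientGroup.mk' N y = 1 := fun y hy =>
          (QuotientGroup.eq_one_iff y).2 hy
        rcases tr_spec.2.2.2.1 s hs with e | e
        · rw [mem_comap, z ⟨_, x_mem hs h3 a⟩ (x_mem e h3 a)]; exact one_mem _
        rcases two hF a with rfl | rfl
        · rw [mem_comap, z ⟨_, x_mem hs h3 0⟩ ((x_zero (F := F) h3).symm ▸ one_mem _ : H64.SF.x F s 0 ∈ _)]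
          exact one_mem _
        obtain ⟨e1, e2⟩ := tr_spec.2.2.1 s e.1 e.2
        have := z (⟨_, x_mem hs h3 1⟩ * evw t (gw s)) (by
          rw [coe_mul, ht]; simpa only [H71.evw_cons] using e2.mem hF)
        rw [map_mul, mul_eq_one_iff_eq_inv] at this
        exact mem_comap.2 (this ▸ inv_mem (mem_map_of_mem _
          (H71.evw_mem fun l hl => H71.mem_gen _ (e1 l hl))))
      exact hz) (QuotientGroup.congr N N h.equiv he)
  obtain ⟨p, rfl⟩ := QuotientGroup.mk'_surjective N m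
  refine ⟨p, p.2, fun y hy => ?_⟩
  have : QuotientGroup.mk' N (h.equiv ⟨y, hy⟩ * (p * ⟨y, hy⟩ * p⁻¹)⁻¹) = 1 := by
    rw [map_mul, map_inv, mul_inv_eq_one, map_mul, map_mul, map_inv]
    exact DFunLike.congr_fun hm (QuotientGroup.mk' N ⟨y, hy⟩)
  exact mem_subgroupOf.1 ((QuotientGroup.eq_one_iff (N := N) _).1 this)

end H95.SFB
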