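import Cfsg.Agent.H28.TESpec

/-! Tower NF (S1308), chapter TE part 1: slot G2. -/

set_option autoImplicit false

open Cfsg Subgroup H14 H98 H1.Gold H31.S2 H14.GC H14.FE H14.NF H28.TE
open scoped commutatorElement

namespace H95.TeG2

universe u

theorem jobG2 : JobG2.{u} := by
  intro kts kps g1s G _ _ Q Q₁ E Q₂ T ln R ar x hx hxP hc
  have kt := kts G Q Q₁ E Q₂ T ln
  have kp := kps G Q Q₁ E Q₂ T ln R ar
  have g1 := g1s G Q Q₁ E Q₂ T ln R ar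
  have iT : ∀ t ∈ T, t⁻¹ = t := fun t ht => inv_eq_of_mul_eq_one_right (ln.elT t ht)
  have cT : ∀ s ∈ T, ∀ t ∈ T, s * t = t * s := fun s hs t ht =>
    kt.abF s (mem_sup_right hs) t (mem_sup_right ht)
  have cP : ∀ y ∈ PP E T R, ∀ e ∈ E, e * y = y * e := fun y hy e he => by
    by_cases k : y ∈ E
    · exact kt.abF e (mem_sup_left he) y (mem_sup_left k)
    · exact (kp.tr y hy k).ce e he
  have cj1 : ∀ w : G, ∀ t ∈ T, w * t * w⁻¹ = t * ⁅t, w⁆ := fun w t ht => by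
    calc w * t * w⁻¹ = (t * t) * w * t⁻¹ * w⁻¹ := by rw [ln.elT t ht, iT t ht, one_mul]
      _ = _ := by rw [commutatorElement_def]; group
  have hE : x ∈ nor E := by
    obtain ⟨t, ht, -, -, ⟨t1, -⟩, -⟩ := ln.fT
    rw [← inv_mem_iff]
    apply mem_normalizer_of_cj_le
    rintro _ ⟨e, he, rfl⟩
    show x⁻¹ * e * x⁻¹⁻¹ ∈ E
    refine kp.ct t ht t1 _ (mul_mem (mul_mem (inv_mem hx) (ar.le he)) (inv_mem (inv_mem hx))) ?_
    have h : e * (x * t * x⁻¹) = x * t * x⁻¹ * e := by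
      rw [cj1 x t ht, ← mul_assoc, ln.comm e he t ht, mul_assoc, cP _ (hc t ht) e he, mul_assoc]
    calc x⁻¹ * e * x⁻¹⁻¹ * t = x⁻¹ * (e * (x * t * x⁻¹)) * x := by group
      _ = x⁻¹ * (x * t * x⁻¹ * e) * x := by rw [h]
      _ = _ := by group
  have hc' : ∀ s ∈ T, ⁅s, x⁻¹⁆ ∈ PP E T R := fun s hs => by
    have hb : ⁅s, x⁻¹⁆ ∈ R := by
      rw [commutatorElement_def]
      exact mul_mem (conj_mem_of_mem_normalizer (ar.nr hs) (inv_mem hx)) (inv_mem (inv_mem hx))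
    refine (kp.mem _ hb).2 fun t ht => ?_
    have h1 : ⁅s, ⁅t, x⁆⁆ ∈ E := (kp.mem _ (hc t ht).1).1 (hc t ht) s hs
    have h2 : s * (x * t * x⁻¹) * s⁻¹ = x * t * x⁻¹ * ⁅s, ⁅t, x⁆⁆ := by
      rw [cj1 x t ht, ← mul_assoc s t, cT s hs t ht, mul_assoc t ⁅t, x⁆, ← cP _ (hc t ht) _ h1,
        commutatorElement_def s]
      group
    have h3 : x⁻¹ * ⁅s, ⁅t, x⁆⁆ * x ∈ E := conj_mem_of_mem_normalizer' hE h1
    have h4 : x⁻¹ * s * x * t * (x⁻¹ * s * x)⁻¹ = t * (x⁻¹ * ⁅s, ⁅t, x⁆⁆ * x) := by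
      calc x⁻¹ * s * x * t * (x⁻¹ * s * x)⁻¹ = x⁻¹ * (s * (x * t * x⁻¹) * s⁻¹) * x := by group
        _ = _ := by rw [h2]; group
    generalize x⁻¹ * ⁅s, ⁅t, x⁆⁆ * x = e at h3 h4
    have h5 : ⁅s, x⁻¹⁆ = s * (x⁻¹ * s * x) := by
      rw [commutatorElement_def, iT s hs]; group
    have h6 : ⁅t, ⁅s, x⁻¹⁆⁆ = e := by
      calc ⁅t, ⁅s, x⁻¹⁆⁆ = t * s * (x⁻¹ * s * x * t * (x⁻¹ * s * x)⁻¹) * s⁻¹ := by
            rw [h5, commutatorElement_def, iT t ht]; group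
        _ = t * (s * t) * e * s⁻¹ := by rw [h4]; group
        _ = t * t * (s * e) * s⁻¹ := by rw [cT s hs t ht]; group
        _ = e := by rw [ln.elT t ht, ← ln.comm e h3 s hs]; group
    rw [h6]
    exact h3
  have out : ∀ w ∈ R, w ∉ PP E T R → ∃ t ∈ T, ⁅t, w⁆ ∉ E := fun w hw h => by
    by_contra k
    push Not at k
    exact h ((kp.mem w hw).2 k)
  refine ⟨hE, fun x' hx' hxP' hd => (kp.mem _ (mul_mem hx hx')).2 fun t ht => ?_⟩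
  by_cases t1 : t = 1
  · rw [t1, commutatorElement_one_left]
    exact one_mem _
  have h1 := (g1 x' hd (out x' hx' hxP')).1 t ht t1
  have h2 := (g1 x⁻¹ hc' (out _ (inv_mem hx) fun k => hxP (inv_mem_iff.1 k))).2.2.2 t ht _ (hd t ht) h1
    (by
      rw [← cj1 x' t ht]
      calc x' * t * x'⁻¹ * (x' * t * x'⁻¹) = x' * (t * t) * x'⁻¹ := by group
        _ = 1 := by rw [ln.elT t ht]; group)
  have h3 := conj_mem_of_mem_normalizer hE (inv_mem h2)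
  have h4 : x' * t * x'⁻¹ = (⁅t, x⁻¹⁆ * ⁅t, x'⁆⁻¹)⁻¹ * (x⁻¹ * t * x⁻¹⁻¹) := by
    rw [cj1 x⁻¹ t ht, ← mul_assoc, ln.comm _ (inv_mem h2) t ht, cj1 x' t ht]
    group
  generalize (⁅t, x⁻¹⁆ * ⁅t, x'⁆⁻¹)⁻¹ = e at h3 h4
  have h5 : ⁅t, x * x'⁆ = x * e * x⁻¹ := by
    calc ⁅t, x * x'⁆ = t * (x * (x' * t * x'⁻¹) * x⁻¹) := by
          rw [commutatorElement_def, iT t ht]; group
      _ = t * (x * e * x⁻¹ * t) := by rw [h4]; group
      _ = _ := by rw [ln.comm _ h3 t ht, ← mul_assoc, ln.elT t ht, one_mul]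
  rw [h5]
  exact h3

end H95.TeG2
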