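import Cfsg.Agent.H4.HallBasic
/-! Counting Sylow subgroups of order `25` modulo `25`. -/
set_option autoImplicit false
namespace H95
open Subgroup Pointwise

/-- If all point stabilisers on an invariant set have order dividing `c`, then the order of the
group divides `c` times the size of the set. -/
theorem card_dvd_mul_ncard {G A X : Type*} [Group G] [Finite G] [Group A] [MulAction A X]
    (f : G →* A) (c : ℕ) : ∀ (n : ℕ) (T : Set X), T.Finite → T.ncard = n →
      (∀ g, ∀ x ∈ T, f g • x ∈ T) →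
      (∀ x ∈ T, Nat.card ((MulAction.stabilizer A x).comap f) ∣ c) → Nat.card G ∣ c * n := by
  intro n
  induction n using Nat.strong_induction_on with
  | _ n ih =>
  intro T hT hn hinv hst
  rcases T.eq_empty_or_nonempty with rfl | ⟨x, hx⟩
  · simp at hn
    simp [← hn]
  letI : MulAction G X := MulAction.compHom X f
  have hsub : MulAction.orbit G x ⊆ T := by
    rintro _ ⟨g, rfl⟩
    exact hinv g x hx
  have hpos : 0 < (MulAction.orbit G x).ncard :=
    (Set.ncard_pos (hT.subset hsub)).2 ⟨x, MulAction.mem_orbit_self x⟩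
  have hadd := Set.ncard_diff_add_ncard_of_subset hsub hT
  have h1 := ih _ (by omega) (T \ MulAction.orbit G x) hT.diff rfl (by
    rintro g y ⟨hy, hy'⟩
    refine ⟨hinv g y hy, fun h => hy' ?_⟩
    obtain ⟨k, hk⟩ := h
    have hk' : k • x = g • y := hk
    exact ⟨g⁻¹ * k, by simp only [mul_smul, hk', inv_smul_smul]⟩) fun y hy => hst y hy.1
  have h2 : Nat.card G ∣ c * (MulAction.orbit G x).ncard := by
    have e := (MulAction.stabilizer G x).card_mul_index
    rw [MulAction.index_stabilizer] at e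
    rw [← e]
    exact Nat.mul_dvd_mul_right (hst x hx) _
  rw [← hn, ← hadd, mul_add]
  exact dvd_add h1 h2

variable {Γ : Type*} [Group Γ]

/-- the subgroups of order `25` -/
def Syl (X : Subgroup Γ) : Set (Subgroup Γ) := {Q | Q ≤ X ∧ Nat.card Q = 25}

section syl
variable {X P : Subgroup Γ} [Finite X]

theorem syl_fact (h : ¬ 125 ∣ Nat.card X) (hP : P ∈ Syl X) :
    (Nat.card X).factorization 5 = 2 := by
  have h0 : Nat.card X ≠ 0 := Nat.card_pos.ne'
  have h1 : 5 ^ 2 ∣ Nat.card X := by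
    have := card_dvd_of_le hP.1
    rwa [hP.2] at this
  have h2 := (Nat.Prime.pow_dvd_iff_le_factorization (by norm_num) h0).1 h1
  have h3 := mt (Nat.Prime.pow_dvd_iff_le_factorization (p := 5) (k := 3) (by norm_num) h0).2 h
  omega

theorem syl_exists (h : ¬ 125 ∣ Nat.card X) (hP : P ∈ Syl X) {Q : Subgroup Γ} (hQ : Q ∈ Syl X) :
    ∃ R : Sylow 5 X, (R : Subgroup X).map X.subtype = Q := by
  haveI : Fact (Nat.Prime 5) := ⟨by norm_num⟩
  refine ⟨Sylow.ofCard (Q.subgroupOf X) ?_, ?_⟩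
  · rw [H4.card_subgroupOf_of_le hQ.1, hQ.2, syl_fact h hP]
    rfl
  · rw [Sylow.coe_ofCard, map_subgroupOf_eq_of_le hQ.1]

theorem syl_mem (h : ¬ 125 ∣ Nat.card X) (hP : P ∈ Syl X) (R : Sylow 5 X) :
    (R : Subgroup X).map X.subtype ∈ Syl X := by
  haveI : Fact (Nat.Prime 5) := ⟨by norm_num⟩
  refine ⟨map_subtype_le _, ?_⟩
  rw [card_map_of_injective X.subtype_injective, R.card_eq_multiplicity, syl_fact h hP]
  rfl

theorem syl_card (h : ¬ 125 ∣ Nat.card X) (hP : P ∈ Syl X) :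
    Nat.card (Sylow 5 X) = (Syl X).ncard := by
  rw [← Nat.card_coe_set_eq]
  refine Nat.card_congr (Equiv.ofBijective (fun R => ⟨_, syl_mem h hP R⟩) ⟨fun R R' e => ?_, ?_⟩)
  · exact Sylow.ext (map_injective X.subtype_injective (congrArg Subtype.val e))
  · rintro ⟨Q, hQ⟩
    obtain ⟨R, e⟩ := syl_exists h hP hQ
    exact ⟨R, Subtype.ext e⟩

omit [Finite X] in
theorem syl_smul {Q : Subgroup Γ} (hQ : Q ∈ Syl X) {g : Γ} (hg : g ∈ X) :
    MulAut.conj g • Q ∈ Syl X := by
  refine ⟨fun y hy => ?_, by rw [H4.card_smul, hQ.2]⟩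
  have := X.mul_mem (X.mul_mem hg (hQ.1 (H4.mem_conj_smul.1 hy))) (X.inv_mem hg)
  simpa [mul_assoc] using this

theorem syl_finite : (Syl X).Finite := by
  refine Set.Finite.of_finite_image (f := fun Q => Q.subgroupOf X) (Set.toFinite _) ?_
  intro Q hQ Q' hQ' e
  rw [← map_subgroupOf_eq_of_le hQ.1, ← map_subgroupOf_eq_of_le hQ'.1]
  exact congrArg _ e

theorem syl_conj (h : ¬ 125 ∣ Nat.card X) (hP : P ∈ Syl X) {Q : Subgroup Γ} (hQ : Q ∈ Syl X) :
    ∃ g ∈ X, MulAut.conj g • P = Q := by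
  haveI : Fact (Nat.Prime 5) := ⟨by norm_num⟩
  obtain ⟨R, rfl⟩ := syl_exists h hP hP
  obtain ⟨R', rfl⟩ := syl_exists h hP hQ
  obtain ⟨g, rfl⟩ := MulAction.exists_smul_eq X R R'
  exact ⟨g, g.2, by rw [Sylow.coe_subgroup_smul, H4.map_conj_smul]; rfl⟩

theorem syl_mod (h : ¬ 125 ∣ Nat.card X) (hP : P ∈ Syl X) : (Syl X).ncard % 5 = 1 := by
  haveI : Fact (Nat.Prime 5) := ⟨by norm_num⟩
  rw [← syl_card h hP]
  exact card_sylow_modEq_one 5 X

theorem syl_mul (h : ¬ 125 ∣ Nat.card X) (hP : P ∈ Syl X) :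
    Nat.card (normalizer (P : Set Γ) ⊓ X : Subgroup Γ) * (Syl X).ncard = Nat.card X := by
  letI : MulAction X (Subgroup Γ) := MulAction.compHom _ ((MulAut.conj (G := Γ)).comp X.subtype)
  have e := (MulAction.stabilizer X P).card_mul_index
  rw [MulAction.index_stabilizer] at e
  have h1 : MulAction.orbit X P = Syl X := by
    ext Q
    constructor
    · rintro ⟨g, rfl⟩
      exact syl_smul hP g.2
    · intro hQ
      obtain ⟨g, hg, rfl⟩ := syl_conj h hP hQ
      exact ⟨⟨g, hg⟩, rfl⟩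
  have h2 : MulAction.stabilizer X P = (normalizer (P : Set Γ) ⊓ X).subgroupOf X := by
    ext g
    rw [mem_subgroupOf, mem_inf, ← H4.conj_smul_eq_iff_mem_normalizer]
    exact ⟨fun h => ⟨h, g.2⟩, fun h => h.1⟩
  rwa [h1, h2, H4.card_subgroupOf_of_le inf_le_right] at e

theorem syl_elt (h : ¬ 125 ∣ Nat.card X) (hP : P ∈ Syl X) {u : Γ} (hu : u ∈ X) (h5 : u ^ 5 = 1) :
    ∃ Q ∈ Syl X, u ∈ Q := by
  haveI : Fact (Nat.Prime 5) := ⟨by norm_num⟩
  have hp : IsPGroup 5 (zpowers (⟨u, hu⟩ : X)) := by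
    rintro ⟨_, k, rfl⟩
    refine ⟨1, Subtype.ext (Subtype.ext ?_)⟩
    simp only [pow_one, SubgroupClass.coe_pow, SubgroupClass.coe_zpow, OneMemClass.coe_one]
    rw [← zpow_natCast, ← zpow_mul, mul_comm, zpow_mul, zpow_natCast, h5, one_zpow]
  obtain ⟨R, hR⟩ := hp.exists_le_sylow
  exact ⟨_, syl_mem h hP R, ⟨u, hu⟩, hR (mem_zpowers _), rfl⟩

/-- an element of order five normalising a Sylow subgroup lies in it -/
theorem syl_mem_of_norm (h : ¬ 125 ∣ Nat.card X) (hP : P ∈ Syl X) {u : Γ} (hu : u ∈ X)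
    (h5 : u ^ 5 = 1) (hn : u ∈ normalizer (P : Set Γ)) : u ∈ P := by
  haveI : Finite (normalizer (P : Set Γ) ⊓ X : Subgroup Γ) :=
    Finite.of_injective _ (inclusion_injective inf_le_right)
  have h' : ¬ 125 ∣ Nat.card (normalizer (P : Set Γ) ⊓ X : Subgroup Γ) := fun e =>
    h (e.trans (card_dvd_of_le inf_le_right))
  have hP' : P ∈ Syl (normalizer (P : Set Γ) ⊓ X) := ⟨le_inf le_normalizer hP.1, hP.2⟩
  obtain ⟨Q, hQ, huQ⟩ := syl_elt h' hP' ⟨hn, hu⟩ h5
  obtain ⟨g, hg, rfl⟩ := syl_conj h' hP' hQ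
  rwa [H4.conj_smul_eq_iff_mem_normalizer.2 hg.1] at huQ

end syl

/-- the elementary abelian group of order `25` -/
abbrev E25 : Type := Multiplicative (ZMod 5 × ZMod 5)

/-- generators of the six subgroups of order five -/
def e25 : Fin 6 → E25 :=
  ![.ofAdd (1, 0), .ofAdd (0, 1), .ofAdd (1, 1), .ofAdd (1, 2), .ofAdd (1, 3), .ofAdd (1, 4)]

theorem e25_cover : ∀ a : E25, a ≠ 1 → ∃ i, ∃ k : Fin 5, ∃ k' : Fin 5,
    e25 i = a ^ (k : ℕ) ∧ a = e25 i ^ (k' : ℕ) := by decide +kernel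

theorem e25_span : ∀ i j, i ≠ j → ∀ a : E25, ∃ k : Fin 5, ∃ l : Fin 5,
    a = e25 i ^ (k : ℕ) * e25 j ^ (l : ℕ) := by decide +kernel

theorem e25_pow : ∀ a : E25, a ^ 5 = 1 := by decide +kernel

theorem e25_ne : ∀ i, e25 i ≠ 1 := by decide +kernel

section main
variable {H M : Subgroup Γ} [Finite H] {ι : E25 →* Γ}

omit [Finite H] in
theorem range_syl (hι : Function.Injective ι) {X : Subgroup Γ} (hX : ι.range ≤ X) :
    ι.range ∈ Syl X :=
  ⟨hX, by rw [← Nat.card_congr (MonoidHom.ofInjective hι).toEquiv]; simp⟩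

omit [Finite H] in
theorem range_le_cent (a : E25) : ι.range ≤ centralizer {ι a} := by
  rintro _ ⟨b, rfl⟩
  rw [mem_centralizer_singleton_iff, ← map_mul, ← map_mul, mul_comm]

theorem syl_cases (hι : Function.Injective ι) (h125 : ¬ 125 ∣ Nat.card H) (h11 : ¬ 11 ∣ Nat.card H)
    {X : Subgroup Γ} (hX : ι.range ≤ X) (hXH : X ≤ H) (hc : Nat.card X ≤ 300) :
    (Syl X).ncard = 1 ∨ (Syl X).ncard = 6 := by
  haveI : Finite X := Finite.of_injective _ (inclusion_injective hXH)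
  have h' : ¬ 125 ∣ Nat.card X := fun e => h125 (e.trans (card_dvd_of_le hXH))
  have hP := range_syl hι hX
  have h1 := syl_mul h' hP
  have h2 := syl_mod h' hP
  obtain ⟨k, hk⟩ : 25 ∣ Nat.card (normalizer (ι.range : Set Γ) ⊓ X : Subgroup Γ) :=
    hP.2 ▸ card_dvd_of_le (le_inf le_normalizer hX)
  have h3 : (Syl X).ncard ∣ Nat.card H := (Dvd.intro_left _ h1).trans (card_dvd_of_le hXH)
  have h4 : 0 < Nat.card X := Nat.card_pos
  rw [hk] at h1
  have h5 : k ≠ 0 := by
    rintro rfl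
    omega
  have h6 : 25 * (Syl X).ncard ≤ 300 := by
    refine le_trans ?_ (h1.le.trans hc)
    exact Nat.mul_le_mul_right _ (Nat.le_mul_of_pos_right _ (Nat.pos_of_ne_zero h5))
  have h7 : (Syl X).ncard ≠ 11 := fun e => h11 (e ▸ h3)
  omega

/-- **Five-local count.**  A subgroup of order `604800` contains the elements of order five of the
centralisers of at least three of the six subgroups of order five of a Sylow subgroup. -/
theorem five_local (hι : Function.Injective ι) (h125 : ¬ 125 ∣ Nat.card H)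
    (h11 : ¬ 11 ∣ Nat.card H)
    (hC : ∀ i, Nat.card (centralizer {ι (e25 i)} ⊓ H : Subgroup Γ) ≤ 300)
    (hu : ∀ i, ∃ u ∈ H, Commute u (ι (e25 i)) ∧ u ^ 5 = 1 ∧ u ∉ ι.range) (hMH : M ≤ H)
    (hM : Nat.card M = 604800) (hP : ι.range ≤ M) :
    ∃ s : Finset (Fin 6), 3 ≤ s.card ∧
      ∀ i ∈ s, ∀ u ∈ H, Commute u (ι (e25 i)) → u ^ 5 = 1 → u ∈ M := by
  classical
  haveI : Finite M := Finite.of_injective _ (inclusion_injective hMH)
  have fin : ∀ X : Subgroup Γ, Finite (X ⊓ H : Subgroup Γ) := fun X =>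
    Finite.of_injective _ (inclusion_injective inf_le_right)
  have finM : ∀ X : Subgroup Γ, Finite (X ⊓ M : Subgroup Γ) := fun X =>
    Finite.of_injective _ (inclusion_injective inf_le_right)
  have nd : ∀ X ≤ H, ¬ 125 ∣ Nat.card X := fun X hX e => h125 (e.trans (card_dvd_of_le hX))
  set P := ι.range with hPdef
  have hPM : P ∈ Syl M := range_syl hι hP
  have hPC : ∀ i, P ∈ Syl (centralizer {ι (e25 i)} ⊓ H) := fun i =>
    range_syl hι (le_inf (range_le_cent _) (hP.trans hMH))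
  have hPCM : ∀ i, P ∈ Syl (centralizer {ι (e25 i)} ⊓ M) := fun i =>
    range_syl hι (le_inf (range_le_cent _) hP)
  -- six Sylow subgroups in each centraliser
  have h6 : ∀ i, (Syl (centralizer {ι (e25 i)} ⊓ H)).ncard = 6 := by
    intro i
    refine (syl_cases hι h125 h11 (hPC i).1 inf_le_right (hC i)).resolve_left fun e => ?_
    obtain ⟨u, hu1, hu2, hu3, hu4⟩ := hu i
    obtain ⟨Q, hQ, huQ⟩ := syl_elt (nd _ inf_le_right) (hPC i)
      ⟨mem_centralizer_singleton_iff.2 hu2.eq, hu1⟩ hu3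
    obtain ⟨R, hR⟩ := Set.ncard_eq_one.1 e
    have e1 : Q = R := by simpa [hR] using hQ
    have e2 : P = R := by simpa [hR] using hPC i
    exact hu4 (e2 ▸ e1 ▸ huQ)
  have h16 : ∀ i, (Syl (centralizer {ι (e25 i)} ⊓ M)).ncard = 1 ∨
      (Syl (centralizer {ι (e25 i)} ⊓ M)).ncard = 6 := fun i =>
    syl_cases hι h125 h11 (hPCM i).1 (inf_le_right.trans hMH)
      ((card_le_of_le (inf_le_inf_left _ hMH)).trans (hC i))
  refine ⟨Finset.univ.filter fun i => (Syl (centralizer {ι (e25 i)} ⊓ M)).ncard = 6, ?_, ?_⟩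
  swap
  · intro i hi u hu1 hu2 hu3
    have e : Syl (centralizer {ι (e25 i)} ⊓ M) = Syl (centralizer {ι (e25 i)} ⊓ H) :=
      Set.eq_of_subset_of_ncard_le (fun Q hQ => ⟨hQ.1.trans (inf_le_inf_left _ hMH), hQ.2⟩)
        (by rw [h6, (Finset.mem_filter.1 hi).2]) syl_finite
    obtain ⟨Q, hQ, huQ⟩ := syl_elt (nd _ inf_le_right) (hPC i)
      ⟨mem_centralizer_singleton_iff.2 hu2.eq, hu1⟩ hu3
    rw [← e] at hQ
    exact (hQ.1 huQ).2
  -- the normaliser
  have hN : Nat.card (normalizer (P : Set Γ) ⊓ M : Subgroup Γ) ∣ 50 * 24 := by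
    refine card_dvd_mul_ncard ((MulAut.conj (G := Γ)).comp (normalizer (P : Set Γ) ⊓ M).subtype) 50
      24 ((P : Set Γ) \ {1}) ?_ ?_ ?_ ?_
    · have : Finite P := Nat.finite_of_card_ne_zero (by rw [hPM.2]; norm_num)
      exact (Set.toFinite _).diff
    · have : Finite P := Nat.finite_of_card_ne_zero (by rw [hPM.2]; norm_num)
      rw [Set.ncard_diff_singleton_of_mem P.one_mem, ← Nat.card_coe_set_eq]
      exact congrArg (· - 1) hPM.2
    · rintro g x ⟨hx, hx1⟩
      refine ⟨(mem_normalizer_iff.1 g.2.1 x).1 hx, fun e => hx1 ?_⟩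
      simpa using e
    · rintro _ ⟨⟨a, rfl⟩, ha⟩
      have ha' : a ≠ 1 := by
        rintro rfl
        simp at ha
      obtain ⟨i, k, k', e1, e2⟩ := e25_cover a ha'
      have hle : ((MulAction.stabilizer (MulAut Γ) (ι a)).comap ((MulAut.conj (G := Γ)).comp
          (normalizer (P : Set Γ) ⊓ M).subtype)).map (normalizer (P : Set Γ) ⊓ M).subtype ≤
          normalizer (P : Set Γ) ⊓ (centralizer {ι (e25 i)} ⊓ H) := by
        rintro _ ⟨g, hg, rfl⟩
        refine ⟨g.2.1, mem_centralizer_singleton_iff.2 ?_, hMH g.2.2⟩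
        have hg' : (g : Γ) * ι a * (g : Γ)⁻¹ = ι a := hg
        have : Commute (g : Γ) (ι a) := mul_inv_eq_iff_eq_mul.1 hg'
        rw [e1, map_pow]
        exact (this.pow_right _).eq
      have h1 := card_dvd_of_le hle
      rw [card_map_of_injective (subtype_injective _)] at h1
      refine h1.trans ?_
      have h2 := syl_mul (nd _ inf_le_right) (hPC i)
      obtain ⟨m, hm⟩ : 25 ∣ Nat.card (normalizer (P : Set Γ) ⊓ (centralizer {ι (e25 i)} ⊓ H) :
          Subgroup Γ) := hPM.2 ▸ card_dvd_of_le (le_inf le_normalizer (hPC i).1)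
      have h3 := hC i
      have h4 : 0 < Nat.card (centralizer {ι (e25 i)} ⊓ H : Subgroup Γ) := Nat.card_pos
      rw [h6, hm] at h2
      rw [hm]
      have : m = 1 ∨ m = 2 := by omega
      rcases this with rfl | rfl <;> norm_num
  have hn1 := syl_mul (nd M hMH) hPM
  have hn2 := syl_mod (nd M hMH) hPM
  have hn3 : (Syl M).ncard = 12096 ∨ (Syl M).ncard = 2016 := by
    obtain ⟨m, hm⟩ : 25 ∣ Nat.card (normalizer (P : Set Γ) ⊓ M : Subgroup Γ) :=
      hPM.2 ▸ card_dvd_of_le (le_inf le_normalizer hP)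
    rw [hm] at hN hn1
    rw [hM] at hn1
    have h48 : m ∣ 48 := Nat.dvd_of_mul_dvd_mul_left (by norm_num : 0 < 25) hN
    have := Nat.le_of_dvd (by norm_num) h48
    interval_cases m <;> omega
  -- the subgroups meeting `P` trivially
  have hT : Nat.card P ∣ 1 * {Q | Q ∈ Syl M ∧ Q ⊓ P = ⊥}.ncard := by
    refine card_dvd_mul_ncard ((MulAut.conj (G := Γ)).comp P.subtype) 1 _ _
      (syl_finite.subset fun Q hQ => hQ.1) rfl ?_ ?_
    · rintro g Q ⟨hQ, hQ'⟩
      refine ⟨syl_smul hQ (hP g.2), ?_⟩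
      have e : MulAut.conj (g : Γ) • P = P :=
        H4.conj_smul_eq_iff_mem_normalizer.2 (le_normalizer g.2)
      show MulAut.conj (g : Γ) • Q ⊓ P = ⊥
      calc _ = MulAut.conj (g : Γ) • Q ⊓ MulAut.conj (g : Γ) • P := by rw [e]
        _ = ⊥ := by rw [← smul_inf, hQ', smul_bot]
    · rintro Q ⟨hQ, hQ'⟩
      rw [Nat.dvd_one, card_eq_one, eq_bot_iff]
      rintro ⟨_, a, rfl⟩ hg
      have hg' : ι a ∈ normalizer (Q : Set Γ) := H4.conj_smul_eq_iff_mem_normalizer.1 hg
      have h1 := syl_mem_of_norm (nd M hMH) hQ (hP ⟨a, rfl⟩) (by rw [← map_pow, e25_pow, map_one])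
        hg'
      have h2 : ι a ∈ Q ⊓ P := ⟨h1, a, rfl⟩
      rw [hQ'] at h2
      exact Subtype.ext h2
  rw [hPM.2, one_mul] at hT
  -- double counting
  have hS : ∀ i, Syl (centralizer {ι (e25 i)} ⊓ M) = {Q | Q ∈ Syl M ∧ ι (e25 i) ∈ Q} := by
    intro i
    ext Q
    constructor
    · intro hQ
      refine ⟨⟨hQ.1.trans inf_le_right, hQ.2⟩, ?_⟩
      obtain ⟨g, hg, rfl⟩ := syl_conj (nd _ (inf_le_right.trans hMH)) (hPCM i) hQ
      have : g * ι (e25 i) = ι (e25 i) * g := mem_centralizer_singleton_iff.1 hg.1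
      rw [H4.mem_conj_smul, mul_assoc, ← this, inv_mul_cancel_left]
      exact ⟨_, rfl⟩
    · rintro ⟨hQ, hz⟩
      refine ⟨le_inf (fun y hy => ?_) hQ.1, hQ.2⟩
      obtain ⟨g, -, rfl⟩ := syl_conj (nd M hMH) hPM hQ
      obtain ⟨a, ha⟩ := H4.mem_conj_smul.1 hy
      obtain ⟨b, hb⟩ := H4.mem_conj_smul.1 hz
      have : ι a * ι b = ι b * ι a := by rw [← map_mul, ← map_mul, mul_comm]
      rw [ha, hb] at this
      rw [mem_centralizer_singleton_iff]
      refine mul_right_cancel (b := g) ?_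
      simpa [mul_assoc] using this
  set s := (syl_finite (X := M)).toFinset with hs
  have hw : ∀ Q ∈ s, (Finset.univ.filter fun i => ι (e25 i) ∈ Q).card +
      (if Q ⊓ P = ⊥ then 1 else 0) = 1 + if Q = P then 5 else 0 := by
    intro Q hQ
    have hQ' : Q ∈ Syl M := by simpa [hs] using hQ
    by_cases h1 : Q = P
    · subst h1
      have hne : ¬ P ⊓ P = ⊥ := by
        rw [inf_idem]
        intro e
        have := hPM.2
        rw [e, card_bot] at this
        omega
      have hall : ∀ i, ι (e25 i) ∈ P := fun i => ⟨_, rfl⟩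
      simp only [hall, Finset.filter_true, if_neg hne, if_true]
      rfl
    rw [if_neg h1]
    by_cases h2 : Q ⊓ P = ⊥
    · rw [if_pos h2, Finset.filter_false_of_mem]
      · rfl
      · intro i _ hi
        have : ι (e25 i) ∈ Q ⊓ P := ⟨hi, _, rfl⟩
        rw [h2, mem_bot, map_eq_one_iff _ hι] at this
        exact e25_ne i this
    rw [if_neg h2, add_zero, add_zero, Finset.card_eq_one]
    obtain ⟨⟨_, hy, a, rfl⟩, hy1⟩ := ne_bot_iff_exists_ne_one.1 h2
    have ha' : a ≠ 1 := by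
      rintro rfl
      exact hy1 (Subtype.ext (map_one ι))
    obtain ⟨i, k, k', e1, e2⟩ := e25_cover a ha'
    have hi : ι (e25 i) ∈ Q := by
      rw [e1, map_pow]
      exact pow_mem hy _
    refine ⟨i, Finset.eq_singleton_iff_unique_mem.2 ⟨by simpa using hi, fun j hj => ?_⟩⟩
    by_contra hij
    have hj' : ι (e25 j) ∈ Q := by simpa using hj
    have hle : P ≤ Q := by
      rintro _ ⟨b, rfl⟩
      obtain ⟨k, l, rfl⟩ := e25_span j i hij b
      rw [map_mul, map_pow, map_pow]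
      exact mul_mem (pow_mem hj' _) (pow_mem hi _)
    haveI : Finite Q := Finite.of_injective _ (inclusion_injective hQ'.1)
    exact h1 (eq_of_le_of_card_ge hle (by rw [hPM.2, hQ'.2])).symm
  have hsum := Finset.sum_congr rfl hw
  rw [Finset.sum_add_distrib, Finset.sum_add_distrib, Finset.sum_ite_eq' s P,
    if_pos (by simpa [hs] using hPM), Finset.sum_boole, Finset.sum_const, smul_eq_mul, mul_one]
    at hsum
  have e1 : s.card = (Syl M).ncard := by rw [hs, Set.ncard_eq_toFinset_card _ syl_finite]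
  have e2 : (s.filter fun Q => Q ⊓ P = ⊥).card = {Q | Q ∈ Syl M ∧ Q ⊓ P = ⊥}.ncard := by
    rw [← Set.ncard_coe_finset]
    congr 1
    ext Q
    simp [hs]
  have e3 : ∑ Q ∈ s, (Finset.univ.filter fun i => ι (e25 i) ∈ Q).card =
      ∑ i, (Syl (centralizer {ι (e25 i)} ⊓ M)).ncard := by
    simp only [Finset.card_filter]
    rw [Finset.sum_comm]
    refine Finset.sum_congr rfl fun i _ => ?_
    rw [hS, ← Finset.card_filter, ← Set.ncard_coe_finset]
    congr 1
    ext Q
    simp [hs]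
  have e4 : ∑ i, (Syl (centralizer {ι (e25 i)} ⊓ M)).ncard = 6 + 5 * (Finset.univ.filter
      fun i => (Syl (centralizer {ι (e25 i)} ⊓ M)).ncard = 6).card := by
    rw [Finset.card_filter, Finset.mul_sum]
    have : ∀ n : ℕ, 6 + n = ∑ _i : Fin 6, 1 + n := by simp
    rw [this, ← Finset.sum_add_distrib]
    refine Finset.sum_congr rfl fun i _ => ?_
    rcases h16 i with e | e <;> simp [e]
  rw [e1, Nat.cast_id, e2, e3, e4] at hsum
  obtain ⟨m, hm⟩ := hT
  omega

end main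
end H95
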