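import Cfsg.Agent.H45.MSpec4

/-! Recognition of `M₂₄` by its order: three cases for the prime `11`. -/

set_option autoImplicit false
set_option maxRecDepth 100000

namespace H95.M24
open Cfsg H87 H45.MO H45.MN H45.M24 Subgroup

universe u

/-- the admissible centralizer orders -/
def cs (e v m : ℕ) : List ℕ := (dvs 244823040).filter fun c => c % 23 != 0 &&
  !([24640, 73920, 295680, 887040, 3548160, 10644480].contains c) &&
  (dvs (11 * e * v)).any fun k => k % m == 0 && c % k == 0 && (c / k) % 11 == 1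

theorem mem_cs {e v m c k : ℕ} (h0 : 11 * e * v ≠ 0) (hc : c ∣ 244823040) (h23 : (c % 23 == 0) ≠ true)
    (hl : c ∉ [24640, 73920, 295680, 887040, 3548160, 10644480])
    (h1 : k ∣ 11 * e * v) (h2 : m ∣ k) (h3 : k ∣ c) (h4 : c / k % 11 = 1) : c ∈ cs e v m := by
  simp only [cs, List.mem_filter, List.any_eq_true, Bool.and_eq_true, beq_iff_eq, bne_iff_ne,
    Bool.not_eq_true', List.contains_eq_mem, decide_eq_false_iff_not]
  exact ⟨mem_dvs (by norm_num) hc, ⟨by simpa using h23, hl⟩, k, mem_dvs h0 h1,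
    ⟨Nat.mod_eq_zero_of_dvd h2, Nat.mod_eq_zero_of_dvd h3⟩, h4⟩

theorem casn : ((cas 244823040 11).all fun x => (x.2 != (5, 2) || x.1 == 2225664) &&
    (x.2 != (5, 24) || x.1 == 185472) && (x.2 != (10, 12) || x.1 == 185472)) = true := by
  decide +kernel

/-- the search -/
noncomputable def sr (n v m : ℕ) : Bool := (cs 5 v m).all fun c => degs 244823040 11 n 5
  (fun d => big 11 v d && r23 d && hasC 244823040 [5, 7, 11, 23] 11 c d) fun D =>
    colsF 244823040 [5, 7, 11, 23] 11 5 v D c (fun _ _ => true) 0 fun _ => false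

theorem sA : sr 2225664 2 110 = true := by decide +kernel

theorem sB : sr 185472 24 440 = true := by decide +kernel

theorem sC : ((cs 10 12 440).all fun c => (dvs (185472 * 10)).all fun a =>
    (a % 11 != 1 && a % 11 != 10) || Nat.blt 244823040 (a * a) ||
    !(big 11 12 a && r23 a && hasC 244823040 [5, 7, 11, 23] 11 c a) ||
      ((a % 11 != 1 || a % 23 == 0 || a % 23 == 1 || (c == 15840 && a == 3840)) &&
        (a % 11 != 10 || a % 23 == 0 || a % 23 == 22))) = true := by
  decide +kernel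

theorem sD : cand 244823040 [5, 7, 11, 23] 11 15840 3840 = [-120] := by decide +kernel

theorem sum01 (D : List ℤ) (h : ∀ d ∈ D, d % 23 = 0 ∨ d % 23 = 1) :
    ∃ k : ℕ, k ≤ D.length ∧ D.sum % 23 = k % 23 := by
  induction D with
  | nil => exact ⟨0, le_rfl, rfl⟩
  | cons d D ih =>
    obtain ⟨k, h1, h2⟩ := ih fun x hx => h x (List.mem_cons_of_mem _ hx)
    rw [List.sum_cons, List.length_cons]
    rcases h d List.mem_cons_self with e | e
    · exact ⟨k, by omega, by omega⟩
    · exact ⟨k + 1, by omega, by omega⟩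

theorem shift (U : List ℤ) :
    (U.map fun u => (u - 13) ^ 2).sum = ss U - 26 * U.sum + 169 * U.length := by
  induction U with
  | nil => simp [ss]
  | cons u U ih =>
    have hs : ss (u :: U) = s2 u + ss U := rfl
    rw [List.map_cons, List.sum_cons, ih, hs, List.sum_cons, List.length_cons]
    push_cast
    rw [s2_cast]
    ring

theorem exists_of_forall₂ {R : ℤ → ℤ → Prop} {U D : List ℤ} (h : List.Forall₂ R U D) {d : ℤ}
    (hd : d ∈ D) : ∃ u ∈ U, R u d := by
  induction h with
  | nil => simp at hd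
  | cons h1 _ ih =>
    rcases List.mem_cons.1 hd with rfl | hd
    · exact ⟨_, List.mem_cons_self, h1⟩
    · obtain ⟨u, h2, h3⟩ := ih hd
      exact ⟨u, List.mem_cons_of_mem _ h2, h3⟩

theorem ten {c : ℕ} (hc : c ∈ cs 10 12 440) {D U : List ℤ}
    (H : Dg 244823040 11 185472 10
      (fun a => big 11 12 a && r23 a && hasC 244823040 [5, 7, 11, 23] 11 c a) D)
    (K : Cl 244823040 [5, 7, 11, 23] 11 10 12 D c U) : False := by
  have h0 := List.all_eq_true.1 (List.all_eq_true.1 sC c hc)
  have key : ∀ d ∈ -(1 + D.sum) :: D, (d % 23 = 0 ∨ d % 23 = 1) ∨ (c = 15840 ∧ d = 3840) := by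
    intro d hd
    have h1 : d.natAbs ∣ 185472 * 10 ∧ (11 : ℤ) ∣ d - 1 ∧ d.natAbs * d.natAbs ≤ 244823040 ∧
        (big 11 12 d.natAbs && r23 d.natAbs && hasC 244823040 [5, 7, 11, 23] 11 c d.natAbs) = true := by
      have hs := H.sum
      rcases List.mem_cons.1 hd with rfl | hd
      · rw [Int.natAbs_neg]
        have := H.md
        exact ⟨H.dv, by omega, show s2 (1 + D.sum) ≤ _ by omega, H.fl⟩
      · obtain ⟨a, b, -, f⟩ := H.mem d hd
        have := s2_le_ss hd
        exact ⟨a, b, show s2 d ≤ _ by omega, f⟩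
    have h2 := h0 _ (mem_dvs (by norm_num) h1.1)
    obtain ⟨-, h3, h4, h5⟩ := h1
    rw [h5] at h2
    simp only [Bool.and_eq_true, Bool.or_eq_true, bne_iff_ne, beq_iff_eq, Nat.blt_eq, Bool.not_true,
      Bool.false_eq_true, or_false] at h2
    omega
  have hl := H.len
  by_cases h : c = 15840 ∧ (3840 : ℤ) ∈ -(1 + D.sum) :: D
  · obtain ⟨rfl, h⟩ := h
    have hF : List.Forall₂ (fun u d => ok 244823040 [5, 7, 11, 23] 11 15840 d u = true)
        (-(1 + U.sum) :: U) (-(1 + D.sum) :: D) := .cons (by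
      rw [← neg_one_mul (1 + D.sum), ← neg_one_mul (1 + U.sum), ok_sign (Or.inr rfl)]
      exact K.okE) K.okU
    have hs : ss (-(1 + U.sum) :: U) ≤ 15839 := by
      have := K.sum
      have e : ss (-(1 + U.sum) :: U) = s2 (-(1 + U.sum)) + ss U := rfl
      rw [e, ← neg_one_mul, s2_sign (Or.inr rfl)]
      omega
    obtain ⟨u, h1, h2⟩ := exists_of_forall₂ hF h
    have h3 := mem_cand h2 ((s2_le_ss h1).trans (by omega))
    rw [sD, List.mem_singleton] at h3
    subst h3
    have h4 := List.single_le_sum (l := (-(1 + U.sum) :: U).map fun u => (u - 13) ^ 2)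
      (List.forall_mem_map.2 fun u _ => sq_nonneg _) _ (List.mem_map_of_mem h1)
    have h5 := K.okU.length_eq
    rw [shift, List.sum_cons, List.length_cons] at h4
    push_cast at h4
    omega
  · obtain ⟨k, h1, h2⟩ := sum01 _ fun d hd => (key d hd).resolve_right fun e => h ⟨e.1, e.2 ▸ hd⟩
    rw [List.length_cons] at h1
    rw [List.sum_cons] at h2
    omega

theorem jobP2c : JobP2c.{u} := by
  intro hg h27 G _ _ _ hG hA e v hB hm
  have hna : ¬ IsMulCommutative G := nonabelian_of_card_not_prime (by rw [hG]; norm_num)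
  have := Fact.mk (by norm_num : Nat.Prime 7)
  obtain ⟨n7, e7, v7, L7, E7, s7, C⟩ := exists_bk hna (p := 7) (m := 34974720) (by norm_num) hG
    (by norm_num)
  obtain ⟨m, hm'⟩ : ∃ m, (e, v, m) ∈ [(5, 2, 110), (5, 24, 440), (10, 12, 440)] := by
    simp only [List.mem_cons, Prod.mk.injEq, List.not_mem_nil, or_false] at hm
    rcases hm with ⟨rfl, rfl⟩ | ⟨rfl, rfl⟩ | ⟨rfl, rfl⟩
    exacts [⟨110, by simp⟩, ⟨440, by simp⟩, ⟨440, by simp⟩]
  obtain ⟨a, ha, k, k1, k2, k3, k4⟩ := hg G e v m hm' hB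
  obtain ⟨n, L, E, s, B⟩ := hB
  obtain ⟨n', L', E', s', A⟩ := id hA
  simp only [List.mem_cons, Prod.mk.injEq, List.not_mem_nil, or_false] at hm'
  have h11 : ¬ 11 ∣ v7 := fun h => by
    have := C.dvd_v B (by norm_num) h
    omega
  have hc : cc a ∈ cs e v m := mem_cs (by rcases hm' with h | h | h <;> simp [h])
    (hG ▸ card_subgroup_dvd_card _) (A.ndv_c (by norm_num) ha)
    (h27 G hG hA e7 v7 ⟨n7, L7, E7, s7, C⟩ h11 a ha) k1 k2 k3 k4
  have ha2 := H83.mul_self_of_orderOf_two ha
  have K : Cl 244823040 [5, 7, 11, 23] 11 e v (cl s L 1) (cc a) (cl s L a) :=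
    hG ▸ B.col _ (by rw [hG]; simp; norm_num) a ha
  have H : Dg 244823040 11 n e (fun d => big 11 v d && r23 d &&
      hasC 244823040 [5, 7, 11, 23] 11 (cc a) d) (cl s L 1) := by
    have := B.deg (fun d => big 11 v d && r23 d &&
      hasC 244823040 [5, 7, 11, 23] 11 (cc a) d) fun χ h => by
        simp only [B.big' h, r23, A.r23, B.hasC (by norm_num) ha2 K h, Bool.and_self]
    rwa [hG] at this
  have hn := List.all_eq_true.1 casn _ (hG ▸ B.mem)
  have fin : ∀ {n0 v0 m0 : ℕ}, sr n0 v0 m0 = true → n = n0 → e = 5 → v = v0 → m = m0 → False := by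
    rintro _ _ _ h rfl rfl rfl rfl
    have h4 := degs_spec (by norm_num) B.ne0 H (List.all_eq_true.1 h _ hc)
    simpa using B.colsF (W := []) (by norm_num) ha2 K (by simp) (fun _ _ _ _ => rfl) h4
  rcases hm' with ⟨rfl, rfl, rfl⟩ | ⟨rfl, rfl, rfl⟩ | ⟨rfl, rfl, rfl⟩
  · exact fin sA (by simpa using hn) rfl rfl rfl
  · exact fin sB (by simpa using hn) rfl rfl rfl
  · obtain rfl : n = 185472 := by simpa using hn
    exact ten hc H K

end H95.M24
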