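import Cfsg.Agent.H95.O8B

/-! `JobC1` of `H47.O8Sp` (blueprint `LOCAL3C.md`, §5.13). -/

set_option autoImplicit false
set_option maxRecDepth 100000
open Cfsg Subgroup H14 H98 H56.L3 H42.L3 H42.MC H26.MC H47.O8
open H47.MC hiding mT mR mS vy vz Loc NZ
open scoped Matrix commutatorElement

namespace H95.O8

universe u

variable {G : Type u} [Group G] [Finite G] {d : Dat G} (h : Loc d) {g : G} {N : Subgroup G}
  (hN : N.Normal) (h3 : N.index = 3) (h1 : One d) (cu : CU d) (cy : CY d)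
include h hN h3 h1 cu cy

/-- `Σ (S₃ × S₃ × S₃)` is strongly `3`-embedded in `C_N(t)` -/
theorem se {x : G} (hx : x ∈ H0 h) (ho : orderOf x = 3) (hg : g ∈ Ce d.t ⊓ N)
    (hy : g * x * g⁻¹ ∈ H0 h) : g ∈ H0 h :=
  se_ab (syl_D h hN h3 h1) h.D_cn (H0_le h hN h3)
    (fun _ hk => BN_H0 h hN h3 h1 ⟨h.nr_D hk.2, hk.1.1⟩ hk.1.2)
    (fun a ha a1 k hk => by
      obtain ⟨x, hx, rfl⟩ := h.mem_D.1 ha
      exact H0_of h hN h3 h1 hk.1 (cen_D h cu cy hx (fun e => a1 (by rw [e, v_zero h.co]))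
        ⟨hk.1.1, hk.2⟩)) hx ho hg hy

theorem Sg_normal (ex : Ex d) : Ce d.t ⊓ N ≤ nr d.Sg := by
  obtain ⟨F, hF, hk, hs⟩ := exists_F h ex
  have hi : d.i ∈ d.RR 0 := Base.i_mem
  have key : ∀ p : S33 →* S3, Function.Surjective p → ∃ M : Subgroup G, M ≤ Ce d.t ⊓ N ∧
      Ce d.t ⊓ N ≤ nr M ∧ d.i ∈ M ∧ ∀ a, a ^ 3 = 1 → β h a ∈ M → p a = 1 := fun p hp => by
    obtain ⟨M, m1, m2, m3, m4⟩ := bs_sub (H0_le h hN h3) (p.comp F) (hp.comp hs)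
      (fun x hx ho g hg => se h hN h3 h1 cu cy hx ho hg) (v := d.i)
      (H0_le h hN h3 (mem_sup_right (RR_le d 0 hi))) (by rw [h.ii, h.tt])
      (by rw [h.ii]; exact inf_le_left) fun g hg x e => by
        rw [MonoidHom.comp_apply, (hk x).2 (sq_t h ex x.2 (by
          rw [← e, conj_mul, h.ii, mem_Ce'.1 hg.1])), map_one, orderOf_one]
        decide
    refine ⟨M, m1, m2, m3, fun a ha e => by_contra fun e' => m4 ⟨_, β_H0 h a⟩ ?_ e⟩
    rw [MonoidHom.comp_apply, hF _ a (by simp)]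
    exact orderOf_eq_prime (by rw [← map_pow, ha, map_one]) e'
  obtain ⟨A, a1, a2, a3, a4⟩ := key (MonoidHom.fst _ _) Prod.fst_surjective
  obtain ⟨B, b1, b2, b3, b4⟩ := key ((MonoidHom.fst _ _).comp (MonoidHom.snd _ _))
    (Prod.fst_surjective.comp Prod.snd_surjective)
  obtain ⟨C, c1, c2, c3, c4⟩ := key ((MonoidHom.snd _ _).comp (MonoidHom.snd _ _))
    (Prod.snd_surjective.comp Prod.snd_surjective)
  have n1 : A ⊓ B ⊓ C ≤ Ce d.t ⊓ N := inf_le_right.trans c1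
  have n2 : Ce d.t ⊓ N ≤ nr (A ⊓ B ⊓ C) := le_normalizer_inf (le_normalizer_inf a2 b2) c2
  have n3 := (D_le h hN h3).trans n2
  have n4 : A ⊓ B ⊓ C ≤ d.Sg := h.sg cu _ _ (n1.trans inf_le_left)
    (coprime_of_inf (syl_D h hN h3 h1) n1 n3 (eq_bot_iff.2 fun x hx => by
      obtain ⟨a, ha, rfl⟩ := D_β h hx.1
      rw [show a = 1 from Prod.ext (a4 a ha hx.2.1.1) (Prod.ext (b4 a ha hx.2.1.2) (c4 a ha hx.2.2)),
        map_one]
      exact one_mem _)) n3 fun k => inf_le_right.trans (RR_le d k)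
  have n5 : d.R ≤ A ⊓ B ⊓ C := h.fr.irr 0 _ (uu_T 0) (uu_zz 0 0) _ (n3 (h.u_D 0)) _
    ⟨hi, ⟨a3, b3⟩, c3⟩ (h.not_zt h.ii)
  rwa [← n4.antisymm (Sg_le fun k => RR_eq d k ▸ cj_le_of_le n5 (n2 ⟨h.σ_t k, mem_N' hN h3
    (mul_eq_one_iff_inv_eq.2 (h.σ_inv k))⟩))]

theorem ct (s33 : JobS33.{u}) (ex : Ex d) : CT d N := fun g hg => by
  have hn := Sg_normal h hN h3 h1 cu cy ex
  have := normal_subgroupOf_of_le_normalizer hn
  let γ := (β h).codRestrict (Ce d.t ⊓ N) fun a => H0_le h hN h3 (β_H0 h a)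
  let π := QuotientGroup.mk' (d.Sg.subgroupOf (Ce d.t ⊓ N))
  have hπ : ∀ x y, π x = π y ↔ x.1⁻¹ * y.1 ∈ d.Sg := fun x y => QuotientGroup.eq
  have h4 := s33 _ (π.comp γ) ((injective_iff_map_eq_one _).2 fun a e =>
    β_Sg h ex ((QuotientGroup.eq_one_iff (γ a)).1 e)) fun a a' y a3 a1 e => by
      obtain ⟨y, rfl⟩ := QuotientGroup.mk'_surjective _ y
      have e1 : π (y * γ a * y⁻¹) = π (γ a') := by rw [map_mul, map_mul, map_inv]; exact e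
      have e2 := se h hN h3 h1 cu cy (β_H0 h a)
        ((orderOf_injective _ (β_inj h) a).trans (orderOf_eq_prime a3 a1)) y.2
        ((mem_H0 h).2 ⟨a', _, (hπ _ _).1 e1.symm, (mul_inv_cancel_left _ _).symm⟩)
      obtain ⟨b, σ, hσ, e3⟩ := (mem_H0 h).1 e2
      exact ⟨b, (hπ (γ b) y).2 (by rw [e3]; simpa [γ] using hσ)⟩
  obtain ⟨a, e⟩ := h4.ge (mem_top (π ⟨g, hg⟩))
  refine ⟨_, conj_mem_of_mem_normalizer (range_nr h ⟨a, rfl⟩) ((hπ _ _).1 e), ?_⟩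
  convert (β_B h a).1 using 1
  simp [γ, mul_assoc]

omit h hN h3 h1 cu cy [Finite G] in
theorem jobC1 : JobC1.{u} := fun s33 _ _ _ _ _ h _ _ h1 cu _ cy ex hN h3 =>
  ct h hN h3 h1 cu cy s33 ex

end H95.O8
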