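import Cfsg.Agent.H95.D4Fm
import Cfsg.Agent.H53.PGLin

/-! A simple group with a `D₄` frame is generated by `C(z)` and an opposite point. -/

set_option autoImplicit false

namespace H95.D4

open Cfsg H78 H1.LX H38.Lx Subgroup

universe u

variable {G : Type*} [Group G] [Finite G] {z t : G}

def Fr (z : G) : Prop := ∃ κ p lam, Fm z κ p lam

theorem Fr.conj (h : Fr z) {e : G} (he : Cj z e) : Fr e := by
  obtain ⟨κ, p, lam, F⟩ := h
  obtain ⟨g, rfl⟩ := he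
  exact ⟨_, _, _, F.conj g⟩

omit [Finite G] in
theorem Fr.lx (h : Fr z) : LX (O2C z) z := let ⟨_, _, _, F⟩ := h; F.lx

omit [Finite G] in
theorem Fr.sq (h : Fr z) {d : G} (hd : Cj z d) : d * d = 1 := let ⟨_, _, _, F⟩ := h; F.sq hd

theorem Fr.symm (h : Fr z) {a b : G} (ha : Cj z a) (hb : Cj z b) (hab : a ∈ O2C b) : b ∈ O2C a := by
  obtain ⟨g, rfl⟩ := cj_of hb ha
  exact (h.conj hb).lx.symm_O2C hab

/-- A polar pair. -/
structure Pol (z t : G) : Prop where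
  fr : Fr z
  cj : Cj z t
  comm : t * z = z * t
  nm : t ∉ O2C z

namespace Pol

variable (P : Pol z t)
include P

theorem symm : Pol t z :=
  ⟨P.fr.conj P.cj, cj_symm P.cj, P.comm.symm, fun h => P.nm (P.fr.symm (cj_refl z) P.cj h)⟩

theorem adapt : ∃ κ p lam k, Fm z κ p lam ∧ lam (s3 k) = t := by
  obtain ⟨κ, p, lam, F⟩ := P.fr
  obtain ⟨a, k, ha, e⟩ := F.classify P.cj P.comm P.nm
  have := F.conj a
  rw [ha, mul_inv_cancel_right] at this
  exact ⟨_, _, _, k, this, e.symm⟩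

omit [Finite G] in
theorem ne : t ≠ z := fun e => P.nm (e ▸ P.fr.lx.z_mem)

omit [Finite G] in
theorem zz : z * z = 1 := P.fr.lx.z_sq

omit [Finite G] in
theorem cz {u : G} (hu : u ∈ O2C z ⊓ O2C t) : u * z = z * u := (P.fr.lx.z_comm u hu.1).symm

theorem ct {u : G} (hu : u ∈ O2C z ⊓ O2C t) : u * t = t * u := (P.symm.fr.lx.z_comm u hu.2).symm

theorem uu {u : G} (hu : u ∈ O2C z ⊓ O2C t) : u * u = 1 :=
  (P.fr.lx.sq u hu.1).resolve_right fun e => by
    rcases P.symm.fr.lx.sq u hu.2 with e' | e'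
    · exact P.fr.lx.z_ne (e.symm.trans e')
    · exact P.ne (e'.symm.trans e)

theorem cu {u w : G} (hu : u ∈ O2C z ⊓ O2C t) (hw : w ∈ O2C z ⊓ O2C t) : u * w = w * u := by
  rw [← inv_eq_of_mul_eq_one_left (P.uu (mul_mem hu hw)), mul_inv_rev,
    inv_eq_of_mul_eq_one_left (P.uu hu), inv_eq_of_mul_eq_one_left (P.uu hw)]

theorem ss : z * t * (z * t) = 1 := by
  rw [mul_assoc, ← mul_assoc t, P.comm, mul_assoc, P.symm.zz, mul_one, P.zz]

theorem cj_uz {u : G} (hu : u ∈ O2C z ⊓ O2C t) : Cj z (u * z) ↔ u = 1 ∨ Cj z u := by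
  obtain ⟨κ, p, lam, F⟩ := P.fr
  constructor
  · intro h
    refine or_iff_not_imp_left.2 fun h1 => ?_
    have := F.col (mul_mem hu.1 F.xs.z_mem) h (by simpa using h1)
    rwa [mul_assoc, F.zz, mul_one] at this
  · rintro (rfl | h)
    · rw [one_mul]; exact cj_refl z
    · exact F.col hu.1 h fun e => P.symm.nm (e ▸ hu.2)

theorem cj_ut {u : G} (hu : u ∈ O2C z ⊓ O2C t) : Cj z (u * t) ↔ u = 1 ∨ Cj z u := by
  rw [← cj_iff P.cj, ← cj_iff P.cj]
  exact P.symm.cj_uz ⟨hu.2, hu.1⟩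

theorem cj_us {u : G} (hu : u ∈ O2C z ⊓ O2C t) : Cj z (u * (z * t)) ↔ ¬ (u = 1 ∨ Cj z u) := by
  rw [← P.cj_ut hu, ← P.comm, ← mul_assoc]
  obtain ⟨κ, p, lam, k, F, e⟩ := P.adapt
  have := F.cj_or (t := u * t) (k := k) (Commute.mul_left (P.cz hu) P.comm).eq
    (by rw [mul_assoc, ← mul_assoc t, ← P.ct hu, mul_assoc, P.symm.zz, mul_one, P.uu hu])
    (by rw [F.mul _ _ (P.cz hu) P.comm, (F.ker u (P.cz hu)).2 hu.1, one_mul, ← e, F.kap])
  tauto

theorem ns : ¬ Cj z (z * t) := by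
  simpa using P.cj_us (one_mem _)

theorem s_ne : z * t ≠ 1 := fun e =>
  P.ne (by rw [eq_inv_of_mul_eq_one_right e, inv_eq_of_mul_eq_one_left P.zz])

theorem f1Q {δ : G} (h1 : Cj z δ) (h2 : Cj z (δ * (z * t))) (hQ : δ ∈ O2C z)
    (ht : δ * t = t * δ) : ∃ u ∈ O2C z ⊓ O2C t, (u = 1 ∨ Cj z u) ∧ δ = u * z := by
  obtain ⟨κ, p, lam, k, F, e⟩ := P.adapt
  obtain ⟨u, hu, e'⟩ := F.mem_W hQ (F.fix_of_comm (k := k) (e ▸ ht.symm))
  rw [e] at hu
  rcases e' with rfl | rfl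
  · exact absurd (.inr h1) ((P.cj_us hu).1 h2)
  · exact ⟨u, hu, (P.cj_uz hu).1 h1, rfl⟩

theorem f1a {δ : G} (h1 : Cj z δ) (h2 : Cj z (δ * (z * t))) (hz : δ * z = z * δ)
    (ht : δ * t = t * δ) :
    ∃ u ∈ O2C z ⊓ O2C t, (u = 1 ∨ Cj z u) ∧ (δ = u * z ∨ δ = u * t) := by
  by_cases hQ : δ ∈ O2C z
  · obtain ⟨u, hu, h3, h4⟩ := P.f1Q h1 h2 hQ ht
    exact ⟨u, hu, h3, .inl h4⟩
  have sz : Commute (z * t) z := (Commute.refl z).mul_left P.comm
  have st : Commute (z * t) t := Commute.mul_left P.comm.symm (Commute.refl t)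
  have hQ' : δ * (z * t) ∈ O2C z := by
    by_contra hQ'
    obtain ⟨κ, p, lam, k, F, e⟩ := P.adapt
    obtain ⟨j, i, e1⟩ := F.kap_tr h1 hz hQ
    obtain ⟨j', i', e2⟩ := F.kap_tr h2 (Commute.mul_left hz sz).eq hQ'
    rw [F.mul _ _ hz sz.eq, F.mul _ _ rfl P.comm, (F.ker z rfl).2 F.xs.z_mem, one_mul, e1, ← e,
      F.kap] at e2
    exact tr_mul _ _ _ _ _ e2
  obtain ⟨u, hu, h3, h4⟩ := P.f1Q h2 (by rwa [mul_assoc, P.ss, mul_one]) hQ'
    (Commute.mul_left ht st).eq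
  refine ⟨u, hu, h3, .inr ?_⟩
  calc δ = δ * (z * t) * (z * t) := by rw [mul_assoc, P.ss, mul_one]
    _ = _ := by rw [h4, mul_assoc, ← mul_assoc z, P.zz, one_mul]

/-- The points of `Q_z ∩ Q_t`. -/
theorem nine_pts : ∃ (X : Type) (_ : Fintype X) (e : X → G), Fintype.card X = 9 ∧
    Function.Injective e ∧ ∀ a, a ∈ Set.range e ↔ a ∈ O2C z ⊓ O2C t ∧ Cj z a := by
  obtain ⟨κ, p, lam, k, F, e⟩ := P.adapt
  refine ⟨{x : X3 // co k x = 0}, inferInstance, fun x => p x, card_nine k, fun x y h => ?_,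
    fun a => ⟨?_, fun ⟨h1, h2⟩ => ?_⟩⟩
  · exact Subtype.ext (chi_inj _ _ (congrFun (by rw [← F.bt_p, ← F.bt_p]; exact congrArg _ h)))
  · rintro ⟨x, rfl⟩
    exact ⟨⟨F.mem x, e ▸ F.p_mem x.2⟩, (F.fu_p x).1⟩
  · have hne : a ≠ z := fun e => P.symm.nm (e ▸ h1.2)
    obtain ⟨x, hx⟩ := F.pure_of_cj h1.1 h2 hne
    have h3 : co k x = 0 := co_of_fix k x (hx ▸ F.fix_of_comm (e ▸ (P.ct h1).symm))
    refine ⟨⟨x, h3⟩, ((F.eq_of_bt h1.1 (F.mem x) (hx.trans (F.bt_p x).symm)).resolve_right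
      fun e' => P.symm.nm ?_).symm⟩
    exact (mul_mem_cancel_left (e ▸ F.p_mem h3)).1 (e' ▸ h1.2)

/-- `z t` seen from a point `a` of `Q_z ∩ Q_t` has rank two. -/
theorem rank {a : G} {κ : G → S33} {p : X3 → G} {lam : S33 →* G} (F : Fm a κ p lam)
    (ha : a ∈ O2C z ⊓ O2C t) (h : Cj z a) : z ∈ O2C a ∧ t ∈ O2C a ∧ ∃ x y, bt p z = chi x ∧
      bt p t = chi y ∧ ¬ Opp x y ∧ ¬ ((∀ w, chi x w + chi y w = 0) ∨
        ∃ v, ∀ w, chi x w + chi y w = chi v w) := by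
  have h1 := P.fr.symm h (cj_refl z) ha.1
  have h2 := P.fr.symm h P.cj ha.2
  obtain ⟨x, hx⟩ := F.pure_of_cj h1 (cj_symm h) fun e => P.symm.nm (e ▸ ha.2)
  obtain ⟨y, hy⟩ := F.pure_of_cj h2 (cj_of h P.cj) fun e => P.nm (e ▸ ha.1)
  have e : bt p (z * t) = chi x + chi y := by rw [F.bt_mul h1 h2, hx, hy]
  refine ⟨h1, h2, x, y, hx, hy, fun ho => ?_, ?_⟩
  · have h3 : cf z (p y) = 1 := (congrFun hx y).trans (if_pos ho)
    have h4 := cf_eq_zero.2 P.comm.symm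
    rcases F.eq_of_bt h2 (F.mem y) (hy.trans (F.bt_p y).symm) with e | e <;> rw [e] at h4
    · exact zero_ne_one (h4.symm.trans h3)
    · rw [F.xs.cf_mul_z_right (F.mem y) h1] at h4
      exact zero_ne_one (h4.symm.trans h3)
  · rintro (h3 | ⟨v, h3⟩)
    · rcases F.gen _ (mul_mem h1 h2) (e.trans (funext h3)) with e' | e'
      exacts [P.s_ne e', P.ns (e' ▸ h)]
    · exact P.ns (cj_trans h (F.cj_of_pure (mul_mem h1 h2) ⟨v, e.trans (funext h3)⟩))

theorem f1b {δ : G} (h1 : Cj z δ) (hz : δ * z * δ⁻¹ = t) : False := by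
  have dd := P.fr.sq h1
  have c2 : ∀ x, δ * (δ * x * δ⁻¹) * δ⁻¹ = x := fun x => by
    rw [inv_eq_of_mul_eq_one_left dd, ← mul_assoc, ← mul_assoc, dd, one_mul, mul_assoc, dd, mul_one]
  have ht : δ * t * δ⁻¹ = z := by rw [← hz, c2]
  obtain ⟨X, _, e, h2, h3, h4⟩ := P.nine_pts
  have h5 : ∀ x, ∃ y, e y = δ * e x * δ⁻¹ := fun x => by
    obtain ⟨k1, k2⟩ := (h4 _).1 ⟨x, rfl⟩
    exact (h4 _).2 ⟨⟨ht ▸ conj_mem_O2C δ k1.2, hz ▸ conj_mem_O2C δ k1.1⟩, cj_conj k2 δ⟩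
  choose σ hσ using h5
  have h6 : Function.Involutive σ := fun x => h3 (by rw [hσ, hσ, c2])
  have : Fact (Nat.Prime 2) := ⟨Nat.prime_two⟩
  obtain ⟨x, hx⟩ := Equiv.Perm.exists_fixed_point_of_prime (p := 2) (n := 1) (σ := h6.toPerm σ)
    (by rw [h2]; norm_num) (Equiv.ext fun x => h6 x)
  obtain ⟨k1, k2⟩ := (h4 _).1 ⟨x, rfl⟩
  have h7 : δ * e x = e x * δ := by
    have := hσ x
    rw [show σ x = x from hx] at this
    exact mul_inv_eq_iff_eq_mul.1 this.symm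
  by_cases hQ : δ ∈ O2C (e x)
  · have hX := (P.fr.conj k2).lx
    rcases hX.conj_eq_or (P.fr.symm k2 (cj_refl z) k1.1) hQ with e' | e' <;> rw [hz] at e'
    · exact P.ne e'
    · exact P.ns (by rw [e', ← mul_assoc, P.zz, one_mul]; exact k2)
  · obtain ⟨κ, p, lam, k, F, e'⟩ := (Pol.mk (P.fr.conj k2) (cj_of k2 h1) h7 hQ).adapt
    obtain ⟨-, -, a, b, k3, k4, -, k5⟩ := P.rank F k1 k2
    have k6 : ∀ w, chi b w = chi a (act3 (s3 k) w) := fun w => by
      rw [← k3, ← k4, ← hz, ← e', ← F.bt_lam (s3 k) z, act_s3]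
    simp only [k6] at k5
    exact k5 (chi_add_s3 k a)

theorem f1 {δ : G} (h1 : Cj z δ) (h2 : Cj z (δ * (z * t))) (hs : δ * (z * t) = z * t * δ)
    (hz : δ * z * δ⁻¹ = z ∨ δ * z * δ⁻¹ = z * (z * t)) :
    ∃ u ∈ O2C z ⊓ O2C t, (u = 1 ∨ Cj z u) ∧ (δ = u * z ∨ δ = u * t) := by
  rcases hz with hz | hz
  · replace hz := mul_inv_eq_iff_eq_mul.1 hz
    refine P.f1a h1 h2 hz (mul_left_cancel (a := z) ?_)
    rw [← mul_assoc, ← hz, mul_assoc, hs, mul_assoc]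
  · exact (P.f1b h1 (by rw [hz, ← mul_assoc, P.zz, one_mul])).elim

theorem f2 {δ a : G} (ha : a ∈ O2C z ⊓ O2C t) (h : Cj z a) (h1 : Cj z δ)
    (h2 : Cj z (δ * (z * t))) (hs : δ * (z * t) = z * t * δ) (hc : δ * a = a * δ) :
    δ * z = z * δ := by
  have na : ¬ Cj z (a * (z * t)) := fun h' => (P.cj_us ha).1 h' (.inr h)
  by_cases hQ : δ ∈ O2C a
  · obtain ⟨κ, p, lam, F⟩ := P.fr.conj h
    obtain ⟨k1, k2, x, y, k3, k4, k5, k6⟩ := P.rank F ha h
    obtain ⟨u, hu⟩ := F.pure_of_cj hQ (cj_of h h1) fun e => na (e ▸ h2)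
    obtain ⟨w, hw⟩ := F.pure_of_cj (mul_mem hQ (mul_mem k1 k2)) (cj_of h h2) fun e => na (by
      rw [← e, mul_assoc, P.ss, mul_one]; exact h1)
    rw [F.bt_mul hQ (mul_mem k1 k2), F.bt_mul k1 k2, hu, k3, k4] at hw
    have k7 : cf δ (p x) = 0 :=
      (congrFun hu x).trans (if_neg fun ho => k6 (f2a x y u k5 ho ⟨w, congrFun hw⟩))
    rcases F.eq_of_bt k1 (F.mem x) (k3.trans (F.bt_p x).symm) with e | e <;> rw [e, ← cf_eq_zero]
    · exact k7
    · rwa [F.xs.cf_mul_z_right (F.mem x) hQ]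
  · have P' := Pol.mk (P.fr.conj h) (cj_of h h1) hc hQ
    obtain ⟨κ, p, lam, k, F, e⟩ := P'.adapt
    obtain ⟨k1, k2, x, y, k3, k4, k5, k6⟩ := P.rank F ha h
    have k7 := F.fix_of_comm (k := k) (q := z * t) (e ▸ hs)
    rw [F.bt_mul k1 k2, k3, k4] at k7
    obtain ⟨u, hu, e'⟩ := F.mem_W (k := k) k1 (k3 ▸ (f2b k x y k5 k7).resolve_right k6)
    rw [e] at hu
    rcases e' with e' | e' <;> rw [e']
    · exact (P'.ct hu).symm
    · exact (Commute.mul_right (P'.ct hu).symm hc).eq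

theorem l9 {w : G} (hw : w ∈ O2C z ⊓ O2C t)
    (h : ∀ a ∈ O2C z ⊓ O2C t, Cj z a → Cj z (w * a)) : w = 1 := by
  obtain ⟨κ, p, lam, k, F, e⟩ := P.adapt
  have := nine (k := k) (F.inV w hw.1) (F.fix_of_comm (e ▸ (P.ct hw).symm)) fun x hx => by
    have hp : p x ∈ O2C z ⊓ O2C t := ⟨F.mem x, e ▸ F.p_mem hx⟩
    rw [← F.bt_p, ← F.bt_mul hw.1 hp.1]
    exact F.pure_of_cj (mul_mem hw hp).1 (h _ hp (F.fu_p x).1)
      fun e => P.symm.nm (e ▸ (mul_mem hw hp).2)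
  exact (F.gen w hw.1 this).resolve_right fun e => P.symm.nm (e ▸ hw.2)

end Pol

theorem Fr.pol (h : Fr z) {s v : G} (hs : ¬ Cj z s) (hs1 : s ≠ 1) (h1 : Cj z v)
    (h2 : Cj z (v * s)) (hc : v * s = s * v) : Pol v (v * s) ∧ v * (v * s) = s := by
  have e : v * (v * s) = s := by rw [← mul_assoc, h.sq h1, one_mul]
  refine ⟨⟨h.conj h1, cj_of h1 h2, by rw [mul_assoc, ← hc], fun hQ => hs ?_⟩, e⟩
  obtain ⟨κ, p, lam, F⟩ := h.conj h1
  have := F.col hQ (cj_of h1 h2) (by simpa using hs1)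
  rw [mul_assoc, ← hc, e] at this
  exact cj_trans h1 this

theorem Pol.main (P : Pol z t) {M : Subgroup G} (hH : cen z ≤ M)
    (hM : ∀ f, Cj z f → f ∈ M → cen f ≤ M) {v : G} (h1 : Cj z v) (h2 : Cj z (v * (z * t)))
    (hc : v * (z * t) = z * t * v) : v ∈ M := by
  by_contra hv
  set s := z * t with hs
  have ss : s * s = 1 := P.ss
  have sM : s ∈ M := hH (mem_cen.2 ((Commute.refl z).mul_left P.comm).eq)
  have nc : ∀ f, Cj z f → f ∈ M → v * f ≠ f * v := fun f k1 k2 k3 => hv (hM f k1 k2 (mem_cen.2 k3))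
  have us : ∀ u ∈ O2C z ⊓ O2C t, u * s = s * u := fun u hu =>
    (Commute.mul_right (P.cz hu) (P.ct hu)).eq
  have uM : ∀ u ∈ O2C z ⊓ O2C t, u ∈ M := fun u hu => hH (mem_cen.2 (P.cz hu))
  have zM : z ∈ M := hH (mem_cen.2 rfl)
  have zs : z * s = s * z := ((Commute.refl z).mul_right P.comm.symm).eq
  -- no point of `M` is fixed by `v` modulo `s`
  have nf : ∀ f, Cj z f → f ∈ M → f * s = s * f →
      ¬ (v * f * v⁻¹ = f ∨ v * f * v⁻¹ = f * s) := fun f k1 k2 k3 k4 => by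
    by_cases k5 : Cj z (f * s)
    · obtain ⟨P', e⟩ := P.fr.pol P.ns P.s_ne k1 k5 k3
      obtain ⟨u, hu, -, e' | e'⟩ := P'.f1 (δ := v) (cj_of k1 h1) (by rw [e]; exact cj_of k1 h2)
        (by rw [e]; exact hc) (by rw [e]; exact k4)
      · exact nc f k1 k2 (e' ▸ (Commute.mul_left (P'.cz hu) (Commute.refl f)).eq)
      · exact nc f k1 k2 (e' ▸ (Commute.mul_left (P'.cz hu) P'.comm).eq)
    · exact nc f k1 k2 (mul_inv_eq_iff_eq_mul.1 (k4.resolve_right fun e => k5 (e ▸ cj_conj k1 v)))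
  haveI : ((zpowers s).subgroupOf (cen s)).Normal := ⟨fun n hn c => by
    rw [mem_subgroupOf] at hn ⊢
    have : (c : G) * n = n * c := by
      rcases (mem_zpowers_invol ss _).1 hn with e | e <;> rw [e]
      exacts [by simp, mem_cen.1 c.2]
    rw [coe_mul, coe_mul, this, coe_inv, mul_inv_cancel_right]
    exact hn⟩
  let π := QuotientGroup.mk' ((zpowers s).subgroupOf (cen s))
  have hπ : ∀ x y : cen s, π x = π y → (y : G) = x ∨ (y : G) = x * s := fun x y h => by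
    have := QuotientGroup.eq.1 h
    rw [mem_subgroupOf, mem_zpowers_invol ss] at this
    exact this.imp (fun e => (inv_mul_eq_one.1 e).symm) fun e => inv_mul_eq_iff_eq_mul.1 e
  let v' : cen s := ⟨v, mem_cen.2 hc⟩
  have dl : ∀ x c : cen s, π c * π v' * (π c)⁻¹ = π x → Cj z x ∧ Cj z (x * s) := fun x c h => by
    rw [← map_inv, ← map_mul, ← map_mul] at h
    have k1 : Cj z (c * v * (c : G)⁻¹) := cj_conj h1 c
    have k2 : Cj z (c * v * (c : G)⁻¹ * s) := by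
      have := cj_conj h2 c
      rwa [← mul_assoc, mul_assoc _ s, ← (Commute.inv_left (mem_cen.1 c.2)).eq, ← mul_assoc] at this
    rcases hπ _ _ h with e | e <;> rw [e]
    · exact ⟨k1, k2⟩
    · exact ⟨k2, by rw [mul_assoc, ss, mul_one]; exact k1⟩
  -- the element attached to a point of `Q_z ∩ Q_t`
  have key : ∀ a ∈ O2C z ⊓ O2C t, Cj z a → ∃ w ∈ O2C z ⊓ O2C t, w ≠ 1 ∧ Cj z (w * a) ∧
      (v * (w * z) * v⁻¹ = w * z ∨ v * (w * z) * v⁻¹ = w * z * s) := fun a ha ca => by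
    have na : ¬ Cj z (a * s) := fun h' => (P.cj_us ha).1 h' (.inr ca)
    let a' : cen s := ⟨a, mem_cen.2 (us a ha)⟩
    have aa : π a' * π a' = 1 := by
      rw [← map_mul, show a' * a' = 1 from Subtype.ext (P.uu ha), map_one]
    have vv : π v' * π v' = 1 := by
      rw [← map_mul, show v' * v' = 1 from Subtype.ext (P.fr.sq h1), map_one]
    rcases H53.Pnt.dihedral aa vv with ⟨j, e⟩ | ⟨k, e1, e2, e3, j, e⟩
    · rw [← map_mul, ← map_pow] at e
      exact absurd (dl a' _ e).2 na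
    rw [← map_mul, ← map_pow] at e1 e2 e3
    rw [← map_mul π a' v', ← map_pow, ← map_pow] at e
    set w := (a' * v') ^ k with hw
    have ws : (w : G) * s = s * w := mem_cen.1 w.2
    have w1 : ¬ ((w : G) = 1 ∨ (w : G) = s) := fun h => e1 ((QuotientGroup.eq_one_iff w).2
      ((mem_zpowers_invol ss _).2 h))
    have wa : (w : G) * a = a * w := by
      have : π a' = π (w * a' * w⁻¹) := by
        rw [map_mul, map_mul, e2, map_inv, mul_inv_cancel_right]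
      exact mul_inv_eq_iff_eq_mul.1 ((hπ _ _ this).resolve_right fun e => na (e ▸ cj_conj ca w))
    have wM : (w : G) ∈ M := hM a ca (uM a ha) (mem_cen.2 wa)
    have wv : v * w * v⁻¹ = w ∨ v * w * v⁻¹ = w * s := hπ w (v' * w * v'⁻¹) (by
      rw [map_mul, map_mul, ← e3, map_inv, mul_inv_cancel_right])
    rcases e with e | e
    · exfalso
      obtain ⟨d1, d2⟩ : Cj z (w * v) ∧ Cj z (w * v * s) := dl (w * v') _ (e.trans (map_mul π _ _).symm)
      obtain ⟨P', e'⟩ := P.fr.pol P.ns P.s_ne h1 h2 hc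
      have wv' : w * v * v * (w * v)⁻¹ = v ∨ w * v * v * (w * v)⁻¹ = v * s := by
        have := hπ v' (w * v' * w⁻¹) (by rw [map_mul, map_mul, e3, map_inv, mul_inv_cancel_right])
        rwa [show (w : G) * v * v * (w * v)⁻¹ = w * v * (w : G)⁻¹ by group]
      obtain ⟨u, hu, k1, k2⟩ := P'.f1 (δ := w * v) (cj_of h1 d1) (by rw [e']; exact cj_of h1 d2)
        (by rw [e']; exact mem_cen.1 (w * v').2) (by rw [e']; exact wv')
      have k3 : (w : G) = u ∨ (w : G) = u * s := k2.imp mul_right_cancel fun e =>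
        mul_right_cancel (b := v) (e.trans (by rw [← hs, hc, mul_assoc u]))
      refine nc u (cj_trans h1 (k1.resolve_left fun e => w1 (by simpa [e] using k3))) ?_
        (P'.cz hu).symm
      rcases k3 with e | e
      · exact e ▸ wM
      · exact (mul_mem_cancel_right sM).1 (e ▸ wM)
    · obtain ⟨d1, d2⟩ : Cj z (w * a) ∧ Cj z (w * a * s) := dl (w * a') _ (e.trans (map_mul π _ _).symm)
      have ds : (w : G) * a * s = s * (w * a) := mem_cen.1 (w * a').2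
      have dz := P.f2 ha ca d1 d2 ds (Commute.mul_left wa (Commute.refl a)).eq
      obtain ⟨u, hu, k1, k2⟩ := P.f1 d1 d2 ds (.inl (mul_inv_eq_iff_eq_mul.2 dz))
      have hua := mul_mem hu ha
      have k3 : (w : G) = u * a * z ∨ (w : G) = u * a * z * s := by
        refine k2.imp (fun e => mul_right_cancel (b := a) ?_) fun e => mul_right_cancel (b := a) ?_
        · rw [e, mul_assoc (u * a), ← P.cz ha, ← mul_assoc, mul_assoc u, P.uu ha, mul_one]
        · rw [e, mul_assoc (u * a), hs, ← mul_assoc z, P.zz, one_mul, mul_assoc (u * a), ← P.ct ha,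
            ← mul_assoc, mul_assoc u, P.uu ha, mul_one]
      have k4 : v * (u * a * z) * v⁻¹ = u * a * z ∨ v * (u * a * z) * v⁻¹ = u * a * z * s := by
        rcases k3 with e | e
        · exact e ▸ wv
        · rw [e, show v * (u * a * z * s) * v⁻¹ = v * (u * a * z) * v⁻¹ * s by
            rw [mul_assoc _ v⁻¹, (Commute.inv_left hc).eq]; group] at wv
          exact wv.imp mul_right_cancel mul_right_cancel
      have k5 : ¬ (u * a = 1 ∨ Cj z (u * a)) := fun h => nf _ ((P.cj_uz hua).2 h)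
        (mul_mem (uM _ hua) zM) (Commute.mul_left (us _ hua) zs).eq k4
      have k6 : u * a * a = u := by rw [mul_assoc, P.uu ha, mul_one]
      refine ⟨u * a, hua, fun e => k5 (.inl e), ?_, k4⟩
      rw [k6]
      exact k1.resolve_left fun e => k5 (.inr (by rwa [e, one_mul]))
  obtain ⟨X, _, e, k1, -, k2⟩ := P.nine_pts
  obtain ⟨x⟩ : Nonempty X := Fintype.card_pos_iff.1 (by omega)
  obtain ⟨w, hw, w1, -, w2⟩ := key _ ((k2 _).1 ⟨x, rfl⟩).1 ((k2 _).1 ⟨x, rfl⟩).2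
  refine w1 (P.l9 hw fun a ha ca => ?_)
  obtain ⟨w', hw', -, k3, k4⟩ := key a ha ca
  have hr := mul_mem hw hw'
  have k5 : w * z * (w' * z) = w * w' := by
    rw [mul_assoc, ← mul_assoc z, ← P.cz hw', mul_assoc, P.zz, mul_one]
  have k6 : v * (w * w') * v⁻¹ = w * w' ∨ v * (w * w') * v⁻¹ = w * w' * s := by
    have c : s * (w' * z) = w' * z * s := (Commute.mul_right (us _ hw').symm zs.symm).eq
    rw [← k5, ← conj_mul]
    rcases w2 with e | e <;> rcases k4 with e' | e' <;> rw [e, e']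
    · exact .inl rfl
    · exact .inr (by group)
    · exact .inr (by rw [mul_assoc, c]; group)
    · exact .inl (by rw [mul_assoc, ← mul_assoc s, c, mul_assoc _ s, ss, mul_one])
  have k7 : w * w' = 1 := by
    by_contra k7
    by_cases k8 : Cj z (w * w')
    · exact nf _ k8 (uM _ hr) (us _ hr) k6
    · refine nf _ ((P.cj_us hr).2 (not_or.2 ⟨k7, k8⟩)) (mul_mem (uM _ hr) sM)
        (Commute.mul_left (us _ hr) (Commute.refl s)).eq ?_
      rw [show v * (w * w' * s) * v⁻¹ = v * (w * w') * v⁻¹ * s by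
        rw [mul_assoc _ v⁻¹, (Commute.inv_left hc).eq]; group]
      exact k6.imp (fun e => by rw [e]) fun e => by rw [e]
  rwa [eq_inv_of_mul_eq_one_left k7, inv_eq_of_mul_eq_one_left (P.uu hw')]

theorem jobD4As : JobD4As.{u} := by
  intro hA G _ _ _ z y κ p lam F₀
  have F := fm_of_frame F₀
  have h : Fr z := ⟨_, _, _, F⟩
  have : Fact (Nat.Prime 2) := ⟨Nat.prime_two⟩
  set M := cen z ⊔ zpowers y with hMd
  by_contra hM
  have hH : cen z ≤ M := le_sup_left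
  have hQ : O2C z ≤ cen z := fun q hq => mem_cen.2 (F.cz hq)
  have zM : z ∈ M := hH (mem_cen.2 rfl)
  have yM : y ∈ M := mem_sup_right (mem_zpowers y)
  let CM : G → Prop := fun d => ∃ m ∈ M, m * z * m⁻¹ = d
  have cm : ∀ {d m : G}, CM d → m ∈ M → CM (m * d * m⁻¹) := by
    rintro _ m ⟨k, hk, rfl⟩ hm
    exact ⟨m * k, mul_mem hm hk, by group⟩
  have pz : ∀ x, ∃ q ∈ M, q * p x * q⁻¹ = p x * z := fun x =>
    let ⟨q, hq, e⟩ := F.xs.exists_conj_eq (F.mem x) (F.ne_one (F.fu_p x).1) (F.fu_p x).2.1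
    ⟨q, hH (hQ hq), e⟩
  have p0 : CM (p (0, 0, 0)) := by
    obtain ⟨h1, h2⟩ := F₀.z2
    have c0 := (F.fu_p (0, 0, 0)).1
    have nM := mul_mem (mul_mem zM yM) zM
    have e := ((h.conj c0).lx.conj_eq_or (h.symm c0 (cj_refl z) (F.mem _)) h1).resolve_left
      fun e => h2 (mul_inv_eq_iff_eq_mul.1 e)
    obtain ⟨q, hq, e'⟩ := pz (0, 0, 0)
    have := cm ⟨_, mul_mem (mul_mem nM (hH (hQ (F.mem _)))) nM, e⟩ (inv_mem hq)
    rwa [← F.cz (F.mem _), ← e', show q⁻¹ * (q * p (0, 0, 0) * q⁻¹) * q⁻¹⁻¹ = p (0, 0, 0) by group]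
      at this
  have cQ : ∀ d ∈ O2C z, Cj z d → CM d := fun d hd c => by
    by_cases e : d = z
    · exact ⟨1, one_mem _, by simp [e]⟩
    obtain ⟨x, e'⟩ := (F.fu d).1 ⟨c, e, hd⟩
    have := cm p0 (hH (mem_cen.2 (F.lamz (gx x))))
    rw [F.equi, gx_act] at this
    obtain ⟨q, hq, e''⟩ := pz x
    rcases e' with rfl | rfl
    · exact this
    · exact e'' ▸ cm this hq
  have cH : ∀ d, d * z = z * d → Cj z d → CM d := fun d hd c => by
    by_cases e : d ∈ O2C z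
    · exact cQ d e c
    obtain ⟨a, k, ha, rfl⟩ := F.classify c hd e
    refine cm ?_ (hH (mem_cen.2 ha))
    have h1 := h.symm (F.fu_p _).1 (F.cjd k) (F.md k)
    obtain ⟨m, hm, e'⟩ := p0
    rw [← e', mem_O2C_conj] at h1
    simpa [mul_assoc] using cm (cQ _ h1 (by simpa using cj_conj (F.cjd k) m⁻¹)) hm
  have cM : ∀ d ∈ M, Cj z d → CM d := fun d hd c => by
    obtain ⟨S, hS⟩ := (F.xs.isPGroup.comap_subtype (K := M)).exists_le_sylow
    obtain ⟨T, hT⟩ := (IsPGroup.of_card (p := 2) (n := 1) (G := zpowers (⟨d, hd⟩ : M)) (by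
      rw [Nat.card_zpowers, ← orderOf_coe, orderOf_eq_two (F.ne_one c) (F.sq c)]; rfl)).exists_le_sylow
    obtain ⟨m, rfl⟩ := MulAction.exists_smul_eq M T S
    have h1 : m * ⟨d, hd⟩ * m⁻¹ ∈ (m • T : Sylow 2 M) :=
      smul_mem_pointwise_smul _ (MulAut.conj m) _ (hT (mem_zpowers _))
    have h2 := F.lx.comm_z_of_isPGroup ((m • T).isPGroup'.map M.subtype)
      (fun q hq => ⟨⟨q, hH (hQ hq)⟩, hS hq, rfl⟩) (mem_map_of_mem _ h1)
    simpa [mul_assoc] using cm (cH _ h2 (cj_conj c m)) (inv_mem m.2)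
  have h2 : ∀ g : G, g * z * g⁻¹ ∈ M → g ∈ M := fun g hg => by
    obtain ⟨m, hm, e⟩ := cM _ hg ⟨g, rfl⟩
    refine (mul_mem_cancel_left (inv_mem hm)).1 (hH (mem_cen.2 ?_))
    calc m⁻¹ * g * z = m⁻¹ * (g * z * g⁻¹) * g := by group
      _ = _ := by rw [← e]; group
  have h3 : ∀ f, Cj z f → f ∈ M → cen f ≤ M := fun f c hf g hg => by
    obtain ⟨m, hm, rfl⟩ := cM f hf c
    refine (mul_mem_cancel_right hm).1 (h2 _ ?_)
    rwa [show g * m * z * (g * m)⁻¹ = g * (m * z * m⁻¹) * g⁻¹ by group, mem_cen.1 hg,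
      mul_inv_cancel_right]
  obtain ⟨S, hS⟩ := F.xs.isPGroup.exists_le_sylow
  obtain ⟨H, hH'⟩ := hA M hM z F.xs.orderOf_z zM
    ⟨S, hS F.xs.z_mem, fun s hs => F.lx.comm_z_of_isPGroup S.isPGroup' hS hs⟩ h2
    fun g hg hne => by
      by_cases e : g * z * g⁻¹ ∈ O2C z
      · rw [hg.eq]
        exact h3 _ (F.col e ⟨g, rfl⟩ hne) (mul_mem (hH (hQ e)) zM)
      · have P : Pol z (g * z * g⁻¹) := ⟨h, ⟨g, rfl⟩, hg.eq.symm, e⟩
        intro c hc
        have hc' := mem_cen.1 hc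
        refine h2 c (P.main hH h3 ⟨c, rfl⟩ ?_ ?_)
        · have := cj_conj P.cj c
          rwa [show c * (g * z * g⁻¹) * c⁻¹ = c * z * c⁻¹ * (c * (z * (g * z * g⁻¹)) * c⁻¹) by
            rw [conj_mul, ← mul_assoc z, F.zz, one_mul], hc', mul_inv_cancel_right] at this
        · have := comm_conj c ((Commute.refl z).mul_right hg).eq
          rwa [hc', mul_inv_cancel_right] at this
  have P : Pol z (lam (s3 0)) := ⟨h, F.cjd 0, F.lamz _, F.lam_not_mem (s3_ne 0)⟩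
  exact P.ns (isConj_iff.1 (H88.se_isConj hH' F.xs.orderOf_z (orderOf_eq_two P.s_ne P.ss)))

end H95.D4
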