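import Cfsg.Agent.H95.O8B
import Cfsg.Agent.H78.XSMap
import Cfsg.Agent.S3345

/-! `JobF1` of `H47.O8Sp` (blueprint `LOCAL3C.md`, §5.14). -/

set_option autoImplicit false
set_option maxRecDepth 100000
open Cfsg Subgroup H14 H98 H56.L3 H42.L3 H42.MC H26.MC H47.O8
open H47.MC hiding mT mR mS vy vz Loc NZ
open scoped Matrix commutatorElement

namespace H95.O8

universe u

/-- a rotation carrying `c₂` to `u₁` -/
def mH : Mat := !![1, 0, 0, 0; 0, -1, 0, 0; 0, 0, -1, 0; 0, 0, 0, 1]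

variable {G : Type u} [Group G] [Finite G] {d : Dat G} (h : Loc d) {g : G} {N : Subgroup G}
include h

omit [Finite G] in
theorem ex_H : ∃ k, k * k = 1 ∧ k * d.t * k⁻¹ = d.τ 0 ∧ k * d.v vu * k⁻¹ = d.v (uu 0) := by
  have hi : Iso mH := by decide +kernel
  obtain ⟨k, hk⟩ := h.exR mH hi (hi.rot (by decide +kernel))
  exact ⟨k, h.sq hk (by decide +kernel), h.conj hk h.ht (h.hτ 0) (by decide +kernel),
    by rw [hk.1, show mH *ᵥ vu = uu 0 by decide +kernel]⟩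

variable (hN : N.Normal) (h3 : N.index = 3) (h1 : One d)
include hN h3 h1

theorem res_N : res 2 N = N := by
  have hn : ∀ g : G, g ∈ nr (res 2 N) := fun g =>
    normalizer_le_normalizer_res N (by rw [normalizer_eq_top]; trivial)
  have c3 : ∀ g ∈ N, ∀ k : ℕ, g ^ 3 ^ k = 1 → g ∈ res 2 N := fun g hg k e =>
    mem_res_of_coprime hg (Nat.Coprime.coprime_dvd_left (orderOf_dvd_of_pow_eq_one e)
      (Nat.Coprime.pow_left k (by decide)))
  have cv : ∀ x, d.v x ∈ res 2 N := fun x => c3 _ (v_N h hN h3 x) 1 (v_cube h.co x)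
  have ci : d.i ∈ res 2 N := by
    have := mul_mem (cv vb) (conj_mem_of_mem_normalizer (hn d.j) (inv_mem (cv vb)))
    rwa [← mul_assoc, ← mul_assoc, h.bj, mul_inv_cancel_right] at this
  have ct : d.t ∈ res 2 N := h.ii ▸ mul_mem ci ci
  have cτ : ∀ k, d.τ k ∈ res 2 N := by
    obtain ⟨k, -, e, -⟩ := ex_H h
    have c0 := e ▸ conj_mem_of_mem_normalizer (hn k) ct
    have c1 := h.q1_τ 0 ▸ conj_mem_of_mem_normalizer (hn d.q1) c0
    have c2 := h.q1_τ (0 + 1) ▸ conj_mem_of_mem_normalizer (hn d.q1) c1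
    intro k
    fin_cases k
    exacts [c0, c1, c2]
  have key : ∀ g ∈ N, g ∈ Nr d.J → g ∈ res 2 N := fun g hg hg' => by
    obtain ⟨x, k, M, hk, hM, rfl⟩ := h.hat_nr hg'
    obtain ⟨k', hk', e⟩ := rot_ind (P := fun M => ∃ k, Hat d k M ∧ k ∈ res 2 N ⊔ zpowers d.q1)
      (fun _ _ ⟨a, a1, a2⟩ ⟨b, b1, b2⟩ => ⟨_, a1.mul b1, mul_mem a2 b2⟩)
      ⟨_, h.h1, mem_sup_right (mem_zpowers _)⟩
      ⟨_, h.h2, mem_sup_left (c3 _ (q2_N h hN h3) 1 h.q2_cube)⟩ ⟨_, h.ht, mem_sup_left ct⟩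
      (fun k => ⟨_, h.hτ k, mem_sup_left (cτ k)⟩) M hM (h1 _ _ hk.1)
    obtain rfl := h.uniq hk hk' rfl
    obtain ⟨n, hn', a, ha, rfl⟩ := (mem_sup_right_norm fun g _ => hn g).1 e
    obtain ⟨m, rfl⟩ := (Submonoid.mem_powers_iff _ _).1 (mem_powers_iff_mem_zpowers.2 ha)
    rw [q1_pow h hN h3 ((Subgroup.mul_mem_cancel_left _ (res_le N hn')).1
      ((Subgroup.mul_mem_cancel_left _ (v_N h hN h3 x)).1 hg)), mul_one]
    exact mul_mem (cv x) hn'
  refine (res_le N).antisymm fun g hg => ?_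
  obtain ⟨P, hP, hJ⟩ := exists_isSyl_le (J_three h.co) (fun x hx => by
    obtain ⟨x, rfl⟩ := (h.mem x).1 hx
    exact cv x : d.J ≤ res 2 N)
  obtain ⟨a, ha, n, hn', rfl⟩ := hP.frattini_mem (hn g)
  refine mul_mem (key a ((Subgroup.mul_mem_cancel_right _ (res_le N hn')).1 hg) ?_) hn'
  exact cj_eq_self_iff.1 (cj_eq h.co h.wc hP.isPGroup hJ (cj_le_of_le hJ ha))

omit h1 in
theorem not_odd (ht : d.t ∈ N) :
    ¬ ∀ g : N, g * ⟨d.t, ht⟩ * g⁻¹ * (⟨d.t, ht⟩ : N)⁻¹ ∈ oddCore N := fun e => by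
  have : Fact (Nat.Prime 2) := ⟨Nat.prime_two⟩
  have hn : N ≤ nr ((oddCore N).map N.subtype) := le_normalizer_map_subtype _
  have c1 : d.v vu ∈ (oddCore N).map N.subtype := by
    refine mem_of_sq (k := 1) (v_cube h.co _) ⟨_, e ⟨_, v_N h hN h3 vu⟩, ?_⟩
    change d.v vu * d.t * (d.v vu)⁻¹ * d.t⁻¹ = _
    rw [mul_assoc, mul_assoc, ← mul_assoc d.t, ← conj_inv, h.t_u, inv_inv]
  obtain ⟨k, k2, -, e'⟩ := ex_H h
  have c2 := e' ▸ conj_mem_of_mem_normalizer (hn (mem_N' hN h3 k2)) c1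
  have hi : d.i ∈ d.RR 0 := Base.i_mem
  obtain ⟨a, b⟩ := h.comm_R (uu_T 0) (uu_zz 0 0) hi (h.not_zt h.ii)
  have c3 := mul_mem c2 (conj_mem_of_mem_normalizer (hn (Sg_N h hN h3 (RR_le d 0 hi))) (inv_mem c2))
  rw [← mul_assoc, ← mul_assoc] at c3
  have c4 := orderOf_dvd_natCard _ c3
  rw [card_map_of_injective (subtype_injective _)] at c4
  have c5 : (orderOf _).Coprime 4 := Nat.Coprime.pow_right 2
    ((H2.coprime_card_pPrimeCore 2 N).coprime_dvd_left c4)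
  exact b (orderOf_eq_one_iff.1 (c5.eq_one_of_dvd (orderOf_dvd_of_pow_eq_one (h.RR_four a))) ▸
    one_mem _)

theorem con1 (sg : SG d) (ex : Ex d) (ct : CT d N) : Con1 G := by
  have : Fact (Nat.Prime 2) := ⟨Nat.prime_two⟩
  have ht : d.t ∈ N := mem_N' hN h3 h.tt
  have hY : Ce d.t ⊓ N ≤ H0 h := fun g hg => H0_of h hN h3 h1 hg (ct g hg)
  have hS : d.Sg ≤ Ce d.t ⊓ N := le_sup_right.trans (H0_le h hN h3)
  have h2 : IsPGroup 2 d.Sg := IsPGroup.of_card (n := 9) ex.card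
  have o2 : pCoreOf 2 (Ce d.t ⊓ N) = d.Sg := le_antisymm
    (sg _ _ ((pCoreOf_le _).trans inf_le_left) (by
      obtain ⟨n, hn⟩ := IsPGroup.iff_card.1 (isPGroup_pCoreOf (p := 2) (Ce d.t ⊓ N))
      rw [hn]; exact Nat.Coprime.pow_left n (by decide))
      (le_normalizer_pCoreOf_of_le (D_le h hN h3)) fun k => inf_le_right.trans (RR_le d k))
    (le_pCoreOf h2 hS (hY.trans (H0_nr h)))
  have cn : N ⊓ Cn d.Sg ≤ d.Sg := by
    have c1 : N ⊓ Cn d.Sg ≤ Ce d.t ⊓ N := fun g hg => ⟨mem_Ce.2 (hg.2 _ h.t_Sg).symm, hg.1⟩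
    have c2 : d.D ≤ nr (N ⊓ Cn d.Sg) := le_normalizer_inf (by rw [normalizer_eq_top]; exact le_top)
      (le_normalizer_centralizer (Loc.D_B.trans ex.nB))
    refine sg _ _ (c1.trans inf_le_left) (coprime_of_inf (syl_D h hN h3 h1) c1 c2
      (eq_bot_iff.2 fun x hx => ?_)) c2 fun k => inf_le_right.trans (RR_le d k)
    obtain ⟨a, -, rfl⟩ := D_β h hx.1
    rw [β_zt h (ex.faith _ (β_B h a) fun σ hσ => by rw [← hx.2.2 σ hσ]; simp), map_one]
    exact one_mem _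
  set C := centralizer ({⟨d.t, ht⟩} : Set N) with hC
  have hm : ∀ x : N, x ∈ C ↔ x.1 ∈ Ce d.t := fun x => by
    rw [hC, mem_Ce, mem_Ce, Subtype.ext_iff]; rfl
  let j : C →* G := N.subtype.comp C.subtype
  have hj : Function.Injective j := (subtype_injective _).comp (subtype_injective _)
  have hr : (⊤ : Subgroup C).map j = Ce d.t ⊓ N := by
    ext g
    exact ⟨by rintro ⟨x, -, rfl⟩; exact ⟨(hm _).1 x.2, x.1.2⟩,
      fun hg => ⟨⟨⟨g, hg.2⟩, (hm _).2 hg.1⟩, trivial, rfl⟩⟩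
  have o3 : (pCore 2 C).map j = d.Sg := by
    rw [← pCoreOf_top, map_pCoreOf_of_injective hj, hr, o2]
  have o4 : ∀ x, x ∈ pCore 2 C ↔ j x ∈ d.Sg := fun x => by rw [← o3, mem_map_iff_mem hj]
  have hcc : centralizer (((pCore 2 C).map C.subtype : Subgroup N) : Set N) ≤
      (pCore 2 C).map C.subtype := fun x hx => by
    have c1 : x.1 ∈ d.Sg := cn ⟨x.2, fun σ hσ => by
      obtain ⟨y, hy, rfl⟩ := o3.ge hσ
      exact congrArg Subtype.val (hx _ ⟨y, hy, rfl⟩)⟩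
    exact ⟨⟨x, (hm x).2 (hS c1).1⟩, (o4 _).2 c1, rfl⟩
  have hF : generalizedFittingSubgroup C = pCore 2 C :=
    fstar_eq_pCore_iff_centralizer.2 fun x hx => (mem_map_iff_mem (subtype_injective C)).1
      (hcc (map_le_centralizer_map C.subtype (H := zpowers x) (zpowers_le.2 hx)
        ⟨x, mem_zpowers x, rfl⟩))
  have ε : pCore 2 C ≃* d.Sg := (equivMapOfInjective _ _ hj).trans (MulEquiv.subgroupCongr o3)
  obtain ⟨F, -, hk, hs⟩ := exists_F h ex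
  let Φ : C →* S33 := F.comp (j.codRestrict _ fun x => hY (hr.le ⟨x, trivial, rfl⟩))
  have hΦ : Function.Surjective Φ := fun a => by
    obtain ⟨y, rfl⟩ := hs a
    obtain ⟨x, -, e⟩ := hr.ge (H0_le h hN h3 y.2)
    exact ⟨x, congrArg F (Subtype.ext e)⟩
  have hker : pCore 2 C = Φ.ker := Subgroup.ext fun x => (o4 x).trans
    (hk ⟨j x, hY (hr.le ⟨x, trivial, rfl⟩)⟩).symm
  refine ⟨N, hN, (Cfsg.Agent.S3345.result (G := N) ?_ ⟨d.t, ht⟩
    (orderOf_eq_prime (Subtype.ext (by simpa [pow_two] using h.tt))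
      fun e => h.t_ne (congrArg Subtype.val e)) C hC
    (hF ▸ H78.isExtraspecial_of_equiv ε.symm ex.extra) (by rw [hF, Nat.card_congr ε.toEquiv, ex.card]; rfl)
    ((QuotientGroup.quotientMulEquivOfEq hker).trans
      (QuotientGroup.quotientKerEquivOfSurjective Φ hΦ)) hcc).resolve_left (not_odd h hN h3 ht),
    eq_bot_iff.2 fun g hg => ?_, h3⟩
  · rw [← res_subgroupOf, res_N h hN h3 h1, subgroupOf_self]
  · obtain ⟨x, rfl⟩ := (h.mem g).1 (h.cJ (centralizer_anti (J_N h hN h3) hg))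
    rw [h.v_ι (hg _ (mem_N' hN h3 h.ιι)).symm, v_zero h.co]
    exact one_mem _

omit h hN h3 h1 [Finite G] in
theorem jobF1 : JobF1.{u} := fun _ _ _ _ _ h _ _ h1 sg ex hN h3 ct => con1 h hN h3 h1 sg ex ct

end H95.O8
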