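import Cfsg.Agent.H53.C6Spec
import Cfsg.Agent.S0215
import Cfsg.Agent.H42.OddOrder
import Cfsg.Agent.H4.HallBasic
import Cfsg.Agent.H1.CoprimeGen
import Cfsg.Agent.H98.Coprime

/-! Tower C6P: job END. -/

set_option autoImplicit false
set_option linter.unusedSectionVars false

namespace H95.C6

open Subgroup H98

universe u

/-- the end game modulo scalars -/
theorem endgame {H : Type*} [Group H] [Finite H] {r : ℕ} (hr : r.Prime) (h2 : r ≠ 2) {t x d p φ : H}
    {A : Subgroup H} (hA : A = closure {x, d}) (xr : x ^ r = 1) (dx : Commute d x) (nc : ¬ IsCyclic A)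
    (tt : t * t = 1) (td : t * d * t⁻¹ = d⁻¹) (ui : ∀ g, Commute g t → g * g = 1 → g = 1 ∨ g = t)
    (cen : ∀ g, Commute g d → g ^ r = 1) (self : ∀ g, Commute g d → Commute g x → g ∈ A)
    (pd : Commute p d) (px : p * x * p⁻¹ = d ^ 2 * x) (φx : φ * x * φ⁻¹ = d) : A.Normal := by
  have := Fact.mk hr
  have dr := cen d rfl
  have xA : x ∈ A := hA ▸ subset_closure (.inl rfl)
  have dA : d ∈ A := hA ▸ subset_closure (.inr rfl)
  have nf : ∀ a ∈ A, ∃ j n : ℕ, a = d ^ j * x ^ n := fun a ha => by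
    rw [hA, ← mem_toSubmonoid, closure_toSubmonoid_of_finite] at ha
    induction ha using Submonoid.closure_induction with
    | mem a ha => rcases ha with rfl | rfl; exacts [⟨0, 1, by simp⟩, ⟨1, 0, by simp⟩]
    | one => exact ⟨0, 0, by simp⟩
    | mul _ _ _ _ h1 h3 =>
      obtain ⟨j, n, rfl⟩ := h1
      obtain ⟨k, m, rfl⟩ := h3
      exact ⟨j + k, n + m, by rw [pow_add, pow_add, (dx.symm.pow_pow n k).mul_mul_mul_comm]⟩
  have ab : ∀ a ∈ A, ∀ b ∈ A, Commute a b := fun a ha b hb => by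
    obtain ⟨j, n, rfl⟩ := nf a ha
    obtain ⟨k, m, rfl⟩ := nf b hb
    exact (((Commute.refl d).pow_pow j k).mul_right (dx.pow_pow j m)).mul_left
      ((dx.symm.pow_pow n k).mul_right ((Commute.refl x).pow_pow n m))
  have ex : ∀ a ∈ A, a ^ r = 1 := fun a ha => cen a (ab a ha d dA)
  have gen : ∀ {a : H} {n : ℕ}, a ^ r = 1 → ¬ r ∣ n → ∃ k, (a ^ n) ^ k = a := fun {a n} ha hn =>
    exists_pow_eq_self_of_coprime (((Nat.Prime.coprime_iff_not_dvd hr).2 hn).symm.coprime_dvd_right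
      (orderOf_dvd_of_pow_eq_one ha))
  have cj : ∀ a ∈ A, a ≠ 1 → ∃ g k, (g * a * g⁻¹) ^ k = d := fun a ha a1 => by
    obtain ⟨j, n, rfl⟩ := nf a ha
    by_cases hn : r ∣ n
    · obtain ⟨n, rfl⟩ := hn
      rw [pow_mul, xr, one_pow, mul_one] at a1 ⊢
      obtain ⟨k, e⟩ := gen (n := j) dr fun ⟨c, e⟩ => a1 (by rw [e, pow_mul, dr, one_pow])
      exact ⟨1, k, by simpa using e⟩
    have pm : ∀ m : ℕ, p ^ m * x * (p ^ m)⁻¹ = d ^ (2 * m) * x := fun m => by
      induction m with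
      | zero => simp
      | succ m ih =>
        calc _ = p * (p ^ m * x * (p ^ m)⁻¹) * p⁻¹ := by rw [pow_succ']; group
          _ = d ^ (2 * m) * (p * x * p⁻¹) := by rw [ih, ← mul_assoc, (pd.pow_right _).eq]; group
          _ = _ := by rw [px, ← mul_assoc, ← pow_add]; rfl
    obtain ⟨k, e⟩ := gen (n := 2 * n) dr fun h =>
      (hr.dvd_mul.1 h).elim (fun h => h2 ((Nat.prime_dvd_prime_iff_eq hr Nat.prime_two).1 h)) hn
    obtain ⟨l, e'⟩ := gen xr hn
    refine ⟨φ * p ^ (k * (j * (r - 1))), l, ?_⟩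
    have : p ^ (k * (j * (r - 1))) * (d ^ j * x ^ n) * (p ^ (k * (j * (r - 1))))⁻¹ = x ^ n := by
      rw [← conj_mul, (pd.pow_pow _ j).eq, mul_inv_cancel_right, ← conj_pow, pm,
        (dx.pow_left _).mul_pow, ← pow_mul, show 2 * (k * (j * (r - 1))) * n = 2 * n * k * (j * (r - 1)) by ring,
        pow_mul d (2 * n * k), pow_mul d (2 * n), e, ← mul_assoc, ← pow_add, ← mul_one_add, Nat.add_sub_cancel' hr.one_le,
        mul_comm j, pow_mul, dr, one_pow, one_mul]
    calc _ = (φ * (p ^ (k * (j * (r - 1))) * (d ^ j * x ^ n) * (p ^ (k * (j * (r - 1))))⁻¹) * φ⁻¹) ^ l := by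
          congr 1; group
      _ = d := by rw [this, conj_pow, e', φx]
  have d2 : d * d ≠ 1 := fun e => nc <| by
    obtain ⟨k, e'⟩ := gen (n := 2) dr fun h => h2 ((Nat.prime_dvd_prime_iff_eq hr Nat.prime_two).1 h)
    rw [pow_two, e, one_pow] at e'
    rw [hA, (conj_eq_one_iff.1 (φx.trans e'.symm) : x = 1), ← e']
    rw [Set.pair_eq_singleton, closure_singleton_one]
    infer_instance
  have t1 : t ≠ 1 := fun e => d2 (by rw [e] at td; simpa [eq_inv_iff_mul_eq_one] using td)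
  obtain ⟨S, hS, tS⟩ := exists_isSyl_le (isPGroup_zpowers (p := 2) (x := t) (k := 1) (by rwa [pow_one, pow_two]))
    le_top
  have ct : ∀ s ∈ S, Commute s t := by
    obtain ⟨z, hz⟩ := exists_prime_orderOf_dvd_card' (G := ↥(S ⊓ centralizer (S : Set H))) 2
      ((hS.isPGroup.to_le inf_le_left).card_eq_or_dvd.resolve_left (by
        rw [card_eq_one]
        exact inf_centralizer_ne_bot hS.isPGroup hS.isPGroup le_normalizer fun e =>
          t1 (mem_bot.1 (e.le (tS (mem_zpowers t))))))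
    rw [← orderOf_coe] at hz
    rcases ui z (z.2.2 t (tS (mem_zpowers t))).symm (by rw [← pow_two, ← hz, pow_orderOf_eq_one]) with e | e
    · rw [e] at hz; simp at hz
    · exact fun s hs => e ▸ z.2.2 s hs
  obtain ⟨O, hO, oO, cO⟩ := Cfsg.Agent.S0215.result hS.toSylowTop t
    (orderOf_eq_prime (by rwa [pow_two]) t1) (tS (mem_zpowers t)) fun g hg =>
      (ui _ (ct _ hg) (by rw [conj_mul, tt]; simp)).resolve_left fun e => t1 (conj_eq_one_iff.1 e)
  have := H42.odd_order oO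
  obtain ⟨E, l, hE, E1, -, hl, ac, el, -⟩ := H4.exists_minimal_normal_elemab O fun e => d2 (by
    have := cO d
    rwa [e, td, mem_bot, ← mul_inv_rev, inv_eq_one] at this)
  have pA : IsPGroup r A := isPGroup_iff_forall.2 fun a ha => ⟨1, by rw [pow_one, ex a ha]⟩
  have := Fact.mk hl
  have pE : IsPGroup l E := isPGroup_iff_forall.2 fun a ha => ⟨1, by rw [pow_one, el a ha]⟩
  obtain rfl : l = r := by
    by_contra n
    have : IsMulCommutative A := ⟨⟨fun a b => Subtype.ext (ab _ a.2 _ b.2)⟩⟩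
    refine E1 (eq_bot_iff.2 (H1.le_of_noncyclic_centralizer_le nc le_normalizer_of_normal
      (IsPGroup.coprime_card_of_ne r l (Ne.symm n) _ _ pA pE) ⊥ fun a ha a1 e he => ?_))
    obtain ⟨g, k, e'⟩ := cj a ha a1
    have := cen (g * e * g⁻¹) (e' ▸ (Commute.map (mem_centralizer_singleton_iff.1 he.2)
      (MulAut.conj g)).pow_right k)
    rw [conj_pow, conj_eq_one_iff] at this
    exact orderOf_eq_one_iff.1 (Nat.eq_one_of_dvd_coprimes ((Nat.coprime_primes hl hr).2 n)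
      (orderOf_dvd_of_pow_eq_one (el e he.1)) (orderOf_dvd_of_pow_eq_one this))
  obtain ⟨⟨e, he⟩, e1⟩ := ne_bot_iff_exists_ne_one.1
    (inf_centralizer_ne_bot pE pA le_normalizer_of_normal E1)
  obtain ⟨g, k, e'⟩ := cj e (self e (he.2 d dA).symm (he.2 x xA).symm) fun h => e1 (Subtype.ext h)
  have dE : d ∈ E := e' ▸ pow_mem (hE.conj_mem e he.1 g) k
  have xE : x ∈ E := by simpa [← φx, mul_assoc] using hE.conj_mem d dE φ⁻¹
  have c : ∀ a ∈ E, ∀ b ∈ E, Commute a b := fun a ha b hb =>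
    congrArg Subtype.val (ac.is_comm.comm ⟨a, ha⟩ ⟨b, hb⟩)
  rwa [show A = E from le_antisymm (hA ▸ (closure_le E).2 (by rintro _ (rfl | rfl); exacts [xE, dE]))
    fun a ha => self a (c a ha d dE) (c a ha x xE)]

open Matrix hiding mul_inv_rev
open Cfsg.Geo H25 Equiv H53.C6

variable {F : Type u} [Field F] {r : ℕ} [NeZero r] {ω μ : Fˣ} {G : Subgroup (GL (ZMod r) F)}
  {g a : GL (ZMod r) F}

theorem sc_inj (h : sc (ZMod r) μ = 1) : μ = 1 := by
  rw [← dg_const, ← map_one dg] at h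
  exact congrFun (dg_inj h) 0

theorem root (h : g * a * g⁻¹ = sc _ μ * a) (ha : a ^ r = 1) : μ ^ r = 1 := sc_inj (r := r) (by
  have := congrArg (· ^ r) h
  simp only [conj_pow, ha, (show Commute (sc _ μ) a from sc_comm μ a).mul_pow] at this
  rw [map_pow]; simpa using this.symm)

theorem of_comm (h : g * a * (a * g)⁻¹ ∈ scalars (ZMod r) F) : ∃ μ, g * a * g⁻¹ = sc _ μ * a :=
  (mem_scalars_iff'.1 h).imp fun μ e => by rw [← e]; group

theorem const [Fact r.Prime] {β : Type*} {u : ZMod r → β} {n : ZMod r} (hn : n ≠ 0)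
    (h : ∀ i, u (i + n) = u i) (i : ZMod r) : u i = u 0 := by
  have : ∀ k : ℕ, u (k * n) = u 0 := fun k => by
    induction k with
    | zero => simp
    | succ k ih => rw [Nat.cast_succ, add_mul, one_mul, h, ih]
  simpa [hn] using this (i * n⁻¹).val

theorem xx_r : xx F r ^ r = 1 := by rw [xx_pow]; simp [af_one]

theorem d_r (h : orderOf ω = r) : dp r ω 1 ^ r = 1 := by
  rw [dp_pow h, ← map_one dg]; congr 1; ext1; simp

theorem diag (h : orderOf ω = r) (c : Commute g (dp r ω 1)) : ∃ v, g = dg v :=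
  exists_dg fun i j n => eq_zero_of_comm_dg c (by simpa [w_inj h] using n)

theorem mono (h : orderOf ω = r) (e : g * dp r ω 1 * g⁻¹ = sc _ μ * dp r ω 1) :
    ∃ v n, g = dg v * pm (af 1 n) := by
  obtain ⟨k, rfl⟩ := exists_w h (root e (d_r h))
  refine ⟨_, -k, (exists_dg_pm _ fun i j n => ?_).choose_spec⟩
  have := congrArg (fun g : GL (ZMod r) F => g.val i j) (mul_inv_eq_iff_eq_mul.1 e)
  simp only [← dg_const, ← map_mul, dp, Units.val_mul, dg_val, mul_diagonal, diagonal_mul, Pi.mul_apply,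
    ← w_add h, pow_one] at this
  refine (mul_eq_zero.1 (show g.val i j * (w ω j - w ω (k + i)) = 0 by linear_combination this)).resolve_right
    fun z => n ?_
  simp [(w_inj h).1 (Units.ext (sub_eq_zero.1 z))]

theorem pow_Z [Fact r.Prime] (h : orderOf ω = r) (rd : RD G) (hg : g ∈ G)
    (e : g * dp r ω 1 * g⁻¹ = sc _ μ * dp r ω 1) : g ^ r ∈ scalars (ZMod r) F := by
  have c : ∀ m : ℕ, g ^ m * dp r ω 1 * (g ^ m)⁻¹ = sc _ (μ ^ m) * dp r ω 1 := fun m => by
    induction m with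
    | zero => simp
    | succ m ih =>
      calc _ = g * (g ^ m * dp r ω 1 * (g ^ m)⁻¹) * g⁻¹ := by rw [pow_succ']; group
        _ = sc _ (μ ^ m) * (g * dp r ω 1 * g⁻¹) := by rw [ih, ← mul_assoc, ← sc_comm]; group
        _ = _ := by rw [e, ← mul_assoc, ← map_mul, pow_succ]
  obtain ⟨v, n, rfl⟩ := mono h e
  by_cases hn : n = 0
  · rw [hn, af_one, map_one, mul_one] at hg ⊢
    rw [← map_pow]
    exact dg_mem_scalars.2 ⟨_, fun i => rd v hg i 0⟩
  obtain ⟨u, hu⟩ := diag h (mul_inv_eq_iff_eq_mul.1 ((c r).trans (by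
    rw [root e (d_r h), map_one, one_mul])))
  rw [hu]
  refine dg_mem_scalars.2 ⟨_, const hn fun i => by_contra fun z => ?_⟩
  have := eq_zero_of_comm_dg (g := dg v * pm (af 1 n)) (hu ▸ (Commute.refl _).pow_right r) z
  rw [dg_pm_apply] at this
  simp at this

theorem self_Z [Fact r.Prime] (h : orderOf ω = r) {ν : Fˣ} (e : g * dp r ω 1 * g⁻¹ = sc _ μ * dp r ω 1)
    (e' : g * xx F r * g⁻¹ = sc _ ν * xx F r) :
    ∃ j n : ℕ, g * (dp r ω 1 ^ j * xx F r ^ n)⁻¹ ∈ scalars (ZMod r) F := by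
  obtain ⟨k, rfl⟩ := exists_w h (root e' xx_r)
  obtain ⟨v, n, rfl⟩ := mono h e
  rw [pm_af, hh_one, mul_one] at e' ⊢
  refine ⟨k.val, n.val, ?_⟩
  rw [mul_inv_rev, ← mul_assoc, mul_inv_cancel_right, dp_pow h, ← map_inv, ← map_mul]
  refine dg_mem_scalars.2 ⟨_, const one_ne_zero fun i => ?_⟩
  have : dg v * xx F r * (dg v)⁻¹ = sc _ (w ω k) * xx F r := by rw [← e']; group
  have := congrArg (fun g : GL (ZMod r) F => g.val (i + 1) i) this
  simp only [dg_conj_apply, ← dg_const, xx, dg_pm_apply, pm_apply, af_apply, Units.val_one, one_mul,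
    if_true, mul_one] at this
  simp [mul_add, w_add h, show v (i + 1) = w ω k * v i from
    Units.ext ((mul_inv_eq_iff_eq_mul₀ (v i).ne_zero).1 this), mul_assoc, mul_left_comm]

theorem comm_t [hp : Fact r.Prime] (hr : r ≠ 2) (e : g * tt F r * g⁻¹ = sc _ μ * tt F r) : Commute g (tt F r) := by
  have t : (tt F r).val.trace = 1 := by
    have : ∀ i : ZMod r, i = -i ↔ i = 0 := fun i => by
      rw [eq_neg_iff_add_eq_zero, ← two_mul, mul_eq_zero]
      exact or_iff_right fun e => hr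
        ((Nat.prime_dvd_prime_iff_eq hp.out Nat.prime_two).1 ((ZMod.natCast_eq_zero_iff 2 r).1 e))
    simp [trace, tt_apply, this]
  have := congrArg (fun g : GL (ZMod r) F => g.val.trace) e
  simp only [Units.val_mul, trace_units_conj, coe_sc, smul_mul_assoc, one_mul, trace_smul, t] at this
  rw [show μ = 1 from Units.ext (by simpa using this.symm), map_one, one_mul] at e
  exact mul_inv_eq_iff_eq_mul.1 e

theorem jobEND : JobEND.{u} := by
  intro F _ _ r _ ω G hf hb rd ui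
  have := Fact.mk hf.prime
  have h := hf.ord
  have r2 : r ≠ 2 := by rcases hf.hr with rfl | rfl <;> decide
  let π : G →* G ⧸ (scalars (ZMod r) F).subgroupOf G := QuotientGroup.mk' _
  have sj : Function.Surjective π := QuotientGroup.mk'_surjective _
  have k1 : ∀ {g : G}, π g = 1 ↔ g.1 ∈ scalars (ZMod r) F := fun {g} => QuotientGroup.eq_one_iff g
  have k2 : ∀ {g g' : G}, π g = π g' ↔ g.1 * g'.1⁻¹ ∈ scalars (ZMod r) F := fun {g g'} => by
    rw [← mul_inv_eq_one, ← map_inv, ← map_mul, k1]; rfl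
  have k3 : ∀ {g a : G}, Commute (π g) (π a) → ∃ μ, g.1 * a.1 * g.1⁻¹ = sc _ μ * a.1 := fun c =>
    of_comm (k2.1 ((map_mul π _ _).trans (c.eq.trans (map_mul π _ _).symm)))
  have k4 : ∀ {g a b : G} {μ}, g.1 * a.1 * g.1⁻¹ = sc _ μ * b.1 → π g * π a * (π g)⁻¹ = π b :=
    fun {g a b μ} e => by
      rw [← map_inv, ← map_mul, ← map_mul]
      exact k2.2 (by rw [coe_mul, coe_mul, coe_inv, e, mul_inv_cancel_right]; exact sc_mem μ)
  let x : G := ⟨_, hb.xx⟩
  let d : G := ⟨_, hb.d⟩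
  have RG : (closure {x, d}).map G.subtype = R6 r ω := by
    rw [MonoidHom.map_closure, Set.image_pair]; rfl
  have φx : Ph r ω * xx F r * (Ph r ω)⁻¹ = dp r ω 1 := mul_inv_eq_iff_eq_mul.2 (Ph_xx h)
  have nc : ¬ IsCyclic ((closure {x, d}).map π) := fun c => by
    have := commutative_of_cyclic_center_quotient (π.subgroupMap (closure {x, d}))
      (fun a ha => mem_center_iff.2 fun b => Subtype.ext (Subtype.ext
        (comm_of_mem_scalars (k1.1 (congrArg Subtype.val ha)) _).symm))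
      ⟨x, subset_closure (.inl rfl)⟩ ⟨d, subset_closure (.inr rfl)⟩
    have e := xx_conj_dp h
    rw [show xx F r * dp r ω 1 = dp r ω 1 * xx F r from congrArg Subtype.val (congrArg Subtype.val this),
      mul_inv_cancel_right, right_eq_mul] at e
    rw [inv_eq_one.1 (sc_inj e), orderOf_one] at h
    exact hf.prime.one_lt.ne h
  have td : π ⟨_, hb.tt⟩ * π d * (π ⟨_, hb.tt⟩)⁻¹ = (π d)⁻¹ := by
    rw [← map_inv π d]
    refine k4 (μ := 1) ?_
    change pm _ * dg _ * (pm _)⁻¹ = _ * (dg _)⁻¹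
    rw [pm_conj_dg, map_one, one_mul, ← map_inv]
    congr 1
    ext1 i
    simp [w_neg h]
  have px : π ⟨_, hb.p⟩ * π x * (π ⟨_, hb.p⟩)⁻¹ = π d ^ 2 * π x := by
    rw [← map_pow, ← map_mul π (d ^ 2)]
    refine k4 (μ := ω⁻¹) ?_
    change dg _ * pm _ * (dg _)⁻¹ = _ * (dp r ω 1 ^ 2 * pm _)
    rw [← map_inv, mul_assoc, pm_mul_dg, ← mul_assoc, ← map_mul, dp_pow h, ← mul_assoc, ← dg_const,
      ← map_mul]
    congr 2
    ext1 i
    simp only [Pi.mul_apply, Pi.inv_apply, ← w_sub h, af_inv_apply]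
    rw [← w_one h, ← w_neg h, w_one h, ← w_add h]
    congr 1
    simp; ring
  have N := endgame (t := π ⟨_, hb.tt⟩) (x := π x) (d := π d) (p := π ⟨_, hb.p⟩) (φ := π ⟨_, hb.ph⟩)
    (A := (closure {x, d}).map π) hf.prime r2 (by rw [MonoidHom.map_closure, Set.image_pair])
    (by rw [← map_pow, show x ^ r = 1 from Subtype.ext xx_r, map_one])
    (mul_inv_eq_iff_eq_mul.1 (k4 (g := x) (a := d) (b := d) (xx_conj_dp h))).symm nc
    (by rw [← map_mul, k1, coe_mul, tt_mul_tt]; exact one_mem _) td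
    (fun g c e => by
      obtain ⟨g, rfl⟩ := sj g
      obtain ⟨μ, c⟩ := k3 c
      refine (ui g g.2 (comm_t r2 c) (k1.1 ((map_mul π _ _).trans e))).imp k1.2 fun z => k2.2 ?_
      rwa [inv_eq_of_mul_eq_one_right tt_mul_tt])
    (fun g c => by
      obtain ⟨g, rfl⟩ := sj g
      obtain ⟨μ, c⟩ := k3 c
      rw [← map_pow]
      exact k1.2 (pow_Z h rd g.2 c))
    (fun g c c' => by
      obtain ⟨g, rfl⟩ := sj g
      obtain ⟨μ, c⟩ := k3 c
      obtain ⟨ν, c'⟩ := k3 c'
      obtain ⟨j, n, e⟩ := self_Z h c c'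
      exact ⟨d ^ j * x ^ n, mul_mem (pow_mem (subset_closure (.inr rfl)) j)
        (pow_mem (subset_closure (.inl rfl)) n), (k2.2 e).symm⟩)
    (Commute.map (show Commute (⟨_, hb.p⟩ : G) d from Subtype.ext ((Commute.all _ _).map dg).eq) π) px
    (k4 (g := ⟨_, hb.ph⟩) (a := x) (b := d) (μ := 1) (by rw [map_one, one_mul]; exact φx))
  have xS : xx F r ∈ specialLinear (ZMod r) F := by
    obtain ⟨m, hm⟩ := hf.prime.odd_of_ne_two r2
    have a : GeneralLinearGroup.det (xx F r) ^ 2 = 1 := Units.ext (by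
      rw [Units.val_pow_eq_pow_val, GeneralLinearGroup.val_det_apply, xx, det_pm, ← Int.cast_pow,
        ← Units.val_pow_eq_pow_val, Int.units_sq]; simp)
    have b := congrArg GeneralLinearGroup.det (xx_r (F := F) (r := r))
    rw [map_pow, map_one] at b
    change GeneralLinearGroup.det (xx F r) = 1
    generalize GeneralLinearGroup.det (xx F r) = c at a b
    rwa [hm, pow_succ, pow_mul, a, one_pow, one_mul] at b
  have nS : (specialLinear (ZMod r) F).Normal := MonoidHom.normal_ker _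
  have RS : R6 r ω ≤ specialLinear (ZMod r) F := (closure_le _).2 (by
    rintro _ (rfl | rfl)
    exacts [xS, φx ▸ nS.conj_mem _ xS _])
  have xR : xx F r ∈ R6 r ω := subset_closure (.inl rfl)
  have dR : dp r ω 1 ∈ R6 r ω := subset_closure (.inr rfl)
  have wR : sc _ ω ∈ R6 r ω := by
    have := mul_mem (mul_mem xR dR) (inv_mem xR)
    rwa [xx_conj_dp h, mul_mem_cancel_right dR, map_inv, inv_mem_iff] at this
  refine fun g hg => mem_normalizer_of_cj_le ?_
  rintro _ ⟨ρ, hρ, rfl⟩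
  obtain ⟨ρ, h1, rfl⟩ := RG.ge hρ
  obtain ⟨ρ', h2, e⟩ := N.conj_mem _ ⟨ρ, h1, rfl⟩ (π ⟨g, hg⟩)
  rw [← map_inv, ← map_mul, ← map_mul] at e
  have h3 : ρ'.1 ∈ R6 r ω := RG.le ⟨ρ', h2, rfl⟩
  obtain ⟨μ, e⟩ := mem_scalars_iff'.1 (k2.1 e.symm)
  have h4 : sc _ μ ∈ specialLinear (ZMod r) F := e ▸ mul_mem (nS.conj_mem _ (RS hρ) g) (inv_mem (RS h3))
  obtain ⟨k, rfl⟩ := exists_w h (c := μ) (Units.ext (by simpa [mem_specialLinear, coe_sc] using h4))
  change (⟨g, hg⟩ * ρ * ⟨g, hg⟩⁻¹ : G).1 ∈ _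
  rw [mul_inv_eq_iff_eq_mul.1 e, w, map_pow]
  exact mul_mem (pow_mem wR k.val) h3

end H95.C6
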