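import Cfsg.Agent.H57.U2CSpec
import Cfsg.Agent.H98.YMin
import Cfsg.Agent.H48.DP3Kit

/-! # S3275, chapter U2F: slot XM -/

set_option autoImplicit false

namespace H95.U2cXM

open Subgroup Cfsg H98 H48.DP H57.DPC H48.DP2 H96.U2I H57.U2C
open scoped commutatorElement

universe u

/-- A 2-group normalised by an element of order 3 on a section of order at most 4. -/
theorem act4 {G : Type u} [Group G] [Finite G] {W I Q : Subgroup G} {x : G} (hW : IsPGroup 2 W)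
    (hQ : IsPGroup 2 Q) (hI : I ≤ W) (WI : W ≤ No I) (QW : Q ≤ No W) (QI : Q ≤ No I)
    (xW : x ∈ No W) (xI : x ∈ No I) (xQ : x ∈ No Q) (x3 : orderOf x = 3)
    (h4 : I.relIndex W ≤ 4) (hc : ∀ c ∈ Q, ⁅c, x⁆ = 1 → c ∈ Ce W) : ⁅W, Q⁆ ≤ I := by
  haveI : Fact (Nat.Prime 2) := ⟨Nat.prime_two⟩
  haveI : Fact (Nat.Prime 3) := ⟨Nat.prime_three⟩
  have hWQ : ⁅W, Q⁆ ≤ W := commutator_le_left' QW
  have hNW : ⁅W, Q⁆ ⊔ I ≤ W := sup_le hWQ hI
  by_cases h1 : W ≤ ⁅W, Q⁆ ⊔ I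
  · exact hWQ.trans (le_of_le_commutator_sup hW hQ QW WI QI h1)
  by_cases h2 : ⁅W, Q⁆ ⊔ I ≤ I
  · exact le_sup_left.trans h2
  have z : ∀ {A : Subgroup G}, x ∈ A → zpowers x ≤ A := fun h => (zpowers_le (G := G)).2 h
  have xN : x ∈ No (⁅W, Q⁆ ⊔ I) :=
    le_normalizer_sup (le_normalizer_commutator (z xW) (z xQ)) (z xI) (mem_zpowers x)
  have hIN : I ≤ ⁅W, Q⁆ ⊔ I := le_sup_right
  generalize ⁅W, Q⁆ ⊔ I = N at hNW h1 h2 xN hIN
  have e := relIndex_mul_relIndex I N W hIN hNW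
  have a0 := relIndex_ne_zero' I N
  have b0 := relIndex_ne_zero' N W
  have a1 : I.relIndex N ≠ 1 := fun h => h2 (relIndex_eq_one.1 h)
  have b1 : N.relIndex W ≠ 1 := fun h => h1 (relIndex_eq_one.1 h)
  have a2 : 2 ≤ I.relIndex N := by omega
  have b2 : 2 ≤ N.relIndex W := by omega
  have a3 : I.relIndex N ≤ 2 := by nlinarith
  have b3 : N.relIndex W ≤ 2 := by nlinarith
  have s1 := mem_stab_of_idx b3 xW xN
  have s2 := mem_stab_of_idx a3 xN xI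
  have s3 : x ∈ stab W I := by
    refine mem_stab.2 ⟨xI, fun v hv => ?_⟩
    obtain ⟨n, hn, hnv⟩ := cop_dec (hW.to_le hNW) x3 s1 hv
    have h := mem_C1.1 hnv
    have e' : ⁅v, x⁆ = ⁅n⁻¹, x⁆ := by
      calc ⁅v, x⁆ = n⁻¹ * (n * v * x) * (n * v)⁻¹ * n * x⁻¹ := by
            rw [commutatorElement_def]; group
        _ = n⁻¹ * (x * (n * v)) * (n * v)⁻¹ * n * x⁻¹ := by rw [h]
        _ = _ := by rw [commutatorElement_def]; group
    rw [e']
    exact (mem_stab.1 s2).2 _ (N.inv_mem hn)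
  refine (le_stab_iff.1 fun q hq => ?_).2
  obtain ⟨n, hn, c, hc', rfl⟩ := exists_commutator_mul_centralizer (p := 3) (A := zpowers x)
    (K := Q) (isPGroup_zpowers (k := 1) (by simpa using pow_three_of x3))
    (not_dvd_card_of_isPGroup_ne Nat.prime_three (by decide) hQ) (z xQ) hq
  refine mul_mem (((commutator_mono le_rfl (z s3)).trans
    (commutator_le_right' (le_normalizer_stab QW QI))) hn) (mem_stab.2 ⟨QI hc'.1, fun v hv => ?_⟩)
  have h := mem_Ce.1 (hc c hc'.1 (commutatorElement_eq_one_iff_mul_comm.2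
    (mem_Ce.1 hc'.2 x (mem_zpowers x)).symm)) v hv
  rw [commutatorElement_eq_one_iff_mul_comm.2 h]
  exact one_mem _

theorem jobXM : JobXM.{u} := by
  intro kk G _ _ M Q T R Q₀ E y t x z xd xa w hwD w2 hwO
  haveI : Fact (Nat.Prime 2) := ⟨Nat.prime_two⟩
  classical
  have kq := xd.kq
  obtain ⟨-, k2, -, k4, k5, k6, -⟩ := kk G T Q₀ _ kq
  have zp : ∀ {A : Subgroup G}, x ∈ A → zpowers x ≤ A := fun h => (zpowers_le (G := G)).2 h
  have lh := xa.lt.h1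
  have hxP : x ∈ T ⊔ zpowers x := mem_sup_right (mem_zpowers x)
  have hxF : x ∈ E ⊔ zpowers x := mem_sup_right (mem_zpowers x)
  have hwP : w ∈ O2 (T ⊔ zpowers x) := lh.le hwD
  have hwT : w ∈ T := lh.s3.o2_le hwP
  have hwi : w⁻¹ = w := inv_eq_of_mul_eq_one_right w2
  have hxw : ⁅x, w⁆ ∈ Q₀ := by
    refine k4.le ⟨lh.s3.o2_le ?_, (sup_le_sup_left le_sup_right Q₀ : Q₀ ⊔ zpowers x ≤ _) ?_⟩
    · rw [commutatorElement_def]
      exact mul_mem (conj_mem_of_mem_normalizer (self_le_normalizer_pCoreOf _ hxP) hwP)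
        (inv_mem hwP)
    · have e : ⁅x, w⁆ = x * (w * x⁻¹ * w⁻¹) := by rw [commutatorElement_def]; group
      have hx : x ∈ Q₀ ⊔ zpowers x := mem_sup_right (mem_zpowers x)
      rw [e]
      exact mul_mem hx (conj_mem_of_mem_normalizer (xd.kx hwT) (inv_mem hx))
  have hex : ∃ e ∈ E, ⁅e, w⁆ ∉ Q₀ := by
    by_contra h
    push Not at h
    refine hwO (k6 w hwT fun f hf => ?_)
    obtain ⟨e, he, a, ha, rfl⟩ := (mem_sup_left_norm (N := zpowers x)
      (le_normalizer_of_le_centralizer (le_centralizer_iff.1 (zp (mem_Ce.2 fun a ha =>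
        (mem_C1.1 (xd.Ex ha)).symm))))).1 hf
    have ha' : ⁅a, w⁆ ∈ Q₀ := by
      have h1 : ⁅zpowers w, zpowers x⁆ ≤ Q₀ := by
        refine (le_stab_iff.1 (zp (mem_stab.2 ⟨kq.FQ hxF, fun c hc => ?_⟩))).2
        rcases mem_zpowers_iff_mem_range_orderOf.1 hc |> Finset.mem_image.1 with ⟨n, hn, rfl⟩
        have h2 : orderOf w ≤ 2 := orderOf_le_of_pow_eq_one two_pos (by rw [pow_two, w2])
        have h3 : n < 2 := lt_of_lt_of_le (Finset.mem_range.1 hn) h2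
        interval_cases n
        · simp
        · rw [pow_one, ← commutatorElement_inv]
          exact inv_mem hxw
      rw [← commutatorElement_inv]
      exact inv_mem (h1 (commutator_mem_commutator (mem_zpowers w) ha))
    have e' : ⁅e * a, w⁆ = e * ⁅a, w⁆ * e⁻¹ * ⁅e, w⁆ := by
      simp only [commutatorElement_def]; group
    rw [e']
    exact mul_mem (conj_mem_of_mem_normalizer (kq.FQ (mem_sup_left he)) ha') (h e he)
  obtain ⟨e, he, hew⟩ := hex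
  have heK : e ∈ T ⊔ (E ⊔ zpowers x) := mem_sup_right (mem_sup_left he)
  refine ⟨e⁻¹, inv_mem heK, fun h4 => ?_⟩
  rw [inv_inv] at h4
  have hkK : e * w * e⁻¹ ∈ T ⊔ (E ⊔ zpowers x) :=
    mul_mem (mul_mem heK (mem_sup_left hwT)) (inv_mem heK)
  have hg : ⁅e, w⁆ ∈ Q₀ ⊔ (E ⊔ zpowers x) := by
    have e' : ⁅e, w⁆ = e * (w * e⁻¹ * w⁻¹) := by rw [commutatorElement_def]; group
    have he' : e ∈ Q₀ ⊔ (E ⊔ zpowers x) := mem_sup_right (mem_sup_left he)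
    rw [e']
    exact mul_mem he' (conj_mem_of_mem_normalizer (kq.TF hwT) (inv_mem he'))
  have hNK : Q₀ ⊔ (E ⊔ zpowers x) ≤ T ⊔ (E ⊔ zpowers x) := sup_le_sup_right kq.le _
  have hKM : T ⊔ (E ⊔ zpowers x) ≤ M := sup_le xd.TM xd.FM
  have syl : IsSyl 2 Q₀ (Q₀ ⊔ (E ⊔ zpowers x)) := by
    have h := k2.inf_of_le_normalizer hNK kq.TF
    rwa [k4] at h
  obtain ⟨e₀, he₀, o3⟩ : ∃ e₀ ∈ zpowers (⁅e, w⁆ ^ 2), orderOf e₀ = 3 := by
    by_contra h
    push Not at h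
    have h1 := k5 _ ((zpowers_le (G := G)).2 (hNK (pow_mem hg 2))) h
    obtain ⟨n, hn⟩ := isPGroup_iff_forall.1 h1 _ (mem_zpowers _)
    have h2 : IsPGroup 2 (zpowers ⁅e, w⁆) :=
      isPGroup_zpowers (k := n + 1) (by rw [pow_succ', pow_mul, hn])
    have h3 : zpowers ⁅e, w⁆ ≤ Q₀ ⊔ (E ⊔ zpowers x) := (zpowers_le (G := G)).2 hg
    exact hew (syl.le_of_le_normalizer' h2 h3 (h3.trans (sup_le le_normalizer kq.FQ))
      (mem_zpowers _))
  have he₀M : e₀ ∈ M := (zpowers_le (G := G)).2 (hKM (hNK (pow_mem hg 2))) he₀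
  have hLW := le_normalizer_ncl (Lx T x y) (zpowers z)
  have hWD := xa.WD
  have hDW := xa.DW
  obtain ⟨q, hq, v, hv, -, hqv⟩ := xa.fg
  generalize ncl (Lx T x y) (zpowers z) = W at h4 hLW hWD hDW hv
  generalize hk : e * w * e⁻¹ = k at h4 hkK
  have hk2 : k⁻¹ = k := by
    rw [← hk]
    calc (e * w * e⁻¹)⁻¹ = e * w⁻¹ * e⁻¹ := by group
      _ = _ := by rw [hwi]
  have hcI : ⁅e, w⁆ ^ 2 ∈ Ce (cj k W ⊓ W) := by
    have e' : ⁅e, w⁆ ^ 2 = k * w * k⁻¹ * w := by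
      rw [hk2, ← hk, commutatorElement_def, hwi, pow_two]; group
    rw [e']
    refine mul_mem (centralizer_anti inf_le_left ?_) (centralizer_anti inf_le_right (hDW hwD))
    rw [← cj_centralizer]
    exact conj_mem_cj (hDW hwD)
  have he₀I : e₀ ∈ Ce (cj k W ⊓ W) := (zpowers_le (G := G)).2 hcI he₀
  have hJW : Q₀ ⊔ zpowers x ≤ No W :=
    ((sup_le_sup_right kq.le _).trans lh.leL).trans hLW
  have hKJ : T ⊔ (E ⊔ zpowers x) ≤ No (Q₀ ⊔ zpowers x) :=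
    sup_le xd.kx (sup_le (le_normalizer_sup (le_sup_left.trans kq.FQ)
      (le_normalizer_of_le_centralizer (le_centralizer_iff.1 (zp (mem_Ce.2 fun a ha =>
        (mem_C1.1 (xd.Ex ha)).symm))))) (le_normalizer_of_le le_sup_right))
  have hJI : Q₀ ⊔ zpowers x ≤ No (cj k W ⊓ W) := by
    refine le_normalizer_inf ?_ hJW
    rw [← cj_normalizer, ← cj_eq_self (hKJ hkK)]
    exact cj_mono k hJW
  have hQJ : Q ≤ Q₀ ⊔ zpowers x := xd.QQ.trans le_sup_left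
  have hxJ : x ∈ Q₀ ⊔ zpowers x := mem_sup_right (mem_zpowers x)
  have hQ2 : IsPGroup 2 Q := kq.T2.to_le xd.QT
  have hxM : x ∈ M := xd.FM hxF
  have hQP : Q ≤ O2 (T ⊔ zpowers x) := le_pCoreOf hQ2 (xd.QT.trans le_sup_left)
    ((sup_le xd.TM (zp hxM)).trans xd.MQ)
  have key := act4 ((isPGroup_pCoreOf _).to_le hWD) hQ2 (inf_le_right : cj k W ⊓ W ≤ W)
    (le_normalizer_of_le_centralizer ((hWD.trans hDW).trans (centralizer_anti inf_le_right)))
    (hQJ.trans hJW) (hQJ.trans hJI) (hJW hxJ) (hJI hxJ) (xd.MQ hxM) xd.x3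
    (by rwa [inf_relIndex_right]) fun c hc h =>
      hDW (lh.fpf x hxP xd.x3 c (hQP hc) (by rw [h]; exact one_mem _))
  have hu : ⁅q, v⁆ ∈ cj k W ⊓ W := by
    rw [← commutatorElement_inv]
    exact inv_mem (key (commutator_mem_commutator hv hq))
  have h5 := mem_cj.1 (hqv (mem_C1.2 (mem_Ce.1 he₀I _ hu)))
  exact xd.yM (inv_mem_iff.1 (xd.ti e₀ y⁻¹ o3 he₀M (by rwa [inv_inv])))

end H95.U2cXM
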