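import Cfsg.Agent.H67.SAW0
import Cfsg.Agent.H63.A8Def

/-! A8S: `J8W0`, `J8WU` (clone of `H67/SAW0` with a sharper count). -/

set_option autoImplicit false
set_option linter.unusedSectionVars false

namespace H95.A8W

open H64.SG (O2 Syl Cz Cs Ns cjs Is2 Inv2 UF IsO2 fx mem_Cs mem_Cz mem_fx is2_of_sq
  isPGroup_iff_is2)
open H57 H98 Subgroup H67.SA H63.A8
open scoped commutatorElement

universe u

variable {n : ℕ} {F : Type} [Field F] [Finite F] [CharP F 2] {G : Type u} [Group G] [Finite G]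
  {e e' e₁ e₂ : SLn n F →* G} {g t : G} {β : Au n F}

theorem cen8 (hp : Par8 n F) {a : SLn n F} (ha : a ∈ center (SLn n F)) : a = 1 := by
  obtain ⟨r, hr, h⟩ := Matrix.SpecialLinearGroup.mem_center_iff.1 ha
  rcases hp.fld r with rfl | rfl
  · simp at hr
  · exact Subtype.ext (by rw [← h]; simp)

theorem pair (hn : 2 ≤ n) {s : G} (c : CW e t e₁ e₂) {β₁ β₂ : Au n F} (i1 : Ind e₁ s β₁)
    (i2 : Ind e₂ s β₂) {P₁ P₂ : Subgroup (SLn n F)} (p1 : P₁ ≤ fx β₁) (p2 : IsPGroup 2 P₁)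
    (q1 : P₂ ≤ fx β₂) (q2 : IsPGroup 2 P₂) : ∃ P ≤ Cz s, P ≤ G12 e₁ e₂ ∧ IsPGroup 2 P ∧
      Nat.card P = Nat.card P₁ * Nat.card P₂ := by
  refine ⟨P₁.map e₁ ⊔ P₂.map e₂, sup_le ?_ ?_, sup_le_sup (map_le_range _ _) (map_le_range _ _),
    ?_, c.card_sup hn p2 q2⟩
  · rintro _ ⟨a, ha, rfl⟩; exact mem_Cz.2 (i1.comm (p1 ha))
  · rintro _ ⟨a, ha, rfl⟩; exact mem_Cz.2 (i2.comm (q1 ha))
  · exact (p2.map e₁).to_sup_of_normal_left' (q2.map e₂) (((map_le_range _ _).trans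
      c.le_Cs).trans ((Cs_range_le _).trans (H64.SG.Cs_le_Ns _)))

theorem both (hp : Par8 n F) (hY : FY n F) {s : G} (c : CW e t e₁ e₂) (hs : s * s = 1)
    (ae : AE e' s) {β₁ β₂ : Au n F} (i1 : Ind e₁ s β₁) (i2 : Ind e₂ s β₂)
    {P₁ P₂ : Subgroup (SLn n F)} (p1 : P₁ ≤ fx β₁) (p2 : IsPGroup 2 P₁)
    (p3 : Nat.card F ^ bg n ≤ Nat.card P₁) (q1 : P₂ ≤ fx β₂) (q2 : IsPGroup 2 P₂)
    (q3 : Nat.card F ^ bg n ≤ Nat.card P₂) : False := by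
  have hn := hp.two_le
  have sz : ∀ P ≤ Cz s, IsPGroup 2 P → Nat.card P ≤ 256 := fun P h1 h2 => by
    have := ae.sz P h1 h2
    rwa [hp.two, show NN n = 6 by rw [hp.three]; rfl] at this
  rw [hp.two, show bg n = 4 by rw [hp.three]; rfl] at p3 q3
  by_cases h : s ∈ G12 e₁ e₂
  · obtain ⟨a, b, rfl⟩ := c.mem_G12.1 h
    rw [c.mul_mul] at hs
    obtain ⟨A, a1, a2, a3⟩ := hY.b32 a (cen8 hp (c.center hn hs).1)
    obtain ⟨B, b1, b2, b3⟩ := hY.b32 b (cen8 hp (c.center hn hs).2)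
    obtain ⟨P, h1, -, h2, h3⟩ := pair hn c (c.ind₁ a b) (c.ind₂ a b)
      (H64.SG.fx_conj a ▸ a1) a2 (H64.SG.fx_conj b ▸ b1) b2
    have := sz P h1 h2
    nlinarith
  · obtain ⟨P, h1, h0, h2, h3⟩ := pair hn c i1 i2 p1 p2 q1 q2
    have z1 : zpowers s ≤ Cz s := zpowers_le.2 (mem_Cz.2 rfl)
    have z2 : IsPGroup 2 (zpowers s) := isPGroup_iff_is2.2 fun y ⟨k, hk⟩ => is2_of_sq (by
      rw [← hk, ← zpow_add, ← two_mul, zpow_mul, zpow_two, hs, one_zpow])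
    have z3 := sz (P ⊔ zpowers s) (sup_le h1 z1) (h2.to_sup_of_normal_left' z2 (zpowers_le.2
      (H64.SG.Cs_le_Ns _ fun y hy => (mem_Cz.1 (h1 hy)).symm)))
    have z4 := eq_of_le_of_card_ge (le_sup_left : P ≤ P ⊔ zpowers s) (by nlinarith)
    exact h (h0 (z4.ge (mem_sup_right (mem_zpowers s))))

theorem chg (hn : 2 ≤ n) (hAB : J8AB.{u}) (hp : Par8 n F) (c : CW e t e₁ e₂) (h : CE e t)
    (h1 : cjs (g * t * g⁻¹) e₁.range = e₂.range) : ∃ e', e'.range = cjs g e.range ∧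
      CE e' (g * t * g⁻¹) ∧ CW e' (g * t * g⁻¹) e₁ (H67.SA.cje (g * t * g⁻¹) e₁) := by
  have h2 := h.cje g
  generalize g * t * g⁻¹ = s at *
  have h3 : ∀ a b, e₁ a * H67.SA.cje s e₁ b = H67.SA.cje s e₁ b * e₁ a := fun a b =>
    c.le_Cs (h1 ▸ range_cje (g := s) (e := e₁) ▸ ⟨b, rfl⟩) _ ⟨a, rfl⟩
  let e' := (e₁.noncommCoprod (H67.SA.cje s e₁) h3).comp ((MonoidHom.id _).prod (MonoidHom.id _))
  have c' : CW e' s e₁ (H67.SA.cje s e₁) := ⟨c.ker, h3, fun _ => rfl, fun _ => rfl⟩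
  have h4 : e'.ker ≤ Subgroup.center (SLn n F) := fun a ha => (c'.center hn ha).1
  have h5 := range_eq_of_le hn h2.ker h4 (((hAB n F hp G _ _).1 h2.b0).pf _ (by
    rintro _ ⟨a, rfl⟩
    rw [mem_Cz, ← mul_inv_eq_iff_eq_mul, c'.diag, ← conj_mul, c'.sw, (c'.symm h2.inv.1).sw, h3])
    (range_perfect hn))
  exact ⟨e', h5.trans range_cje, h2.of_range h4 h5, c'⟩

theorem jobW0 (hAB : J8AB.{u}) : J8W0.{u} := by
  intro n F _ _ _ hp G _ _ e t e₁ e₂ h c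
  have hn := hp.two_le
  have t1 : t ∈ Ns (G12 e₁ e₂) := two_top (e₁ := e₁) (e₂ := e₂) ▸ c.t_mem_Ns h.inv.1 ⊤
  have ne : t ∉ Ns e₁.range := fun h1 => c.ne hn (by rw [← c.cjs_range]; exact (cj_eq_self h1).le)
  refine ⟨h.odd_of (centralizer_le (c.IG_eq hn h.toB1 ▸ le_IG))
    (normalizer_le_normalizer_centralizer _ t1) fun h1 => ne (H64.SG.Cs_le_Ns _
      (centralizer_anti le_sup_left h1)), ne, fun m hm => ?_, fun s hs h1 => ?_, fun g hg => ?_⟩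
  · have key : ∀ f : SLn n F →* G, f.ker ≤ center (SLn n F) → f.range ≤ G12 e₁ e₂ →
        G12 e₁ e₂ ≤ Ns f.range → Nat.card f.range = Nat.card e₁.range →
        cjs m f.range = e₁.range ∨ cjs m f.range = e₂.range := fun f f1 f2 f3 f4 => by
      have f5 : G12 e₁ e₂ ≤ Ns (cjs m f.range) := by
        rw [← H64.SG.cj_Ns]; exact (cj_eq_self hm).ge.trans (cj_mono m f3)
      have f6 : cjs m f.range ≤ G12 e₁ e₂ := (cj_mono m f2).trans (cj_eq_self hm).le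
      have k : ∀ f' : SLn n F →* G, f'.ker ≤ center (SLn n F) → f'.range ≤ G12 e₁ e₂ →
          G12 e₁ e₂ ≤ Ns f'.range → Nat.card f'.range = Nat.card e₁.range →
          cjs m f.range ≠ f'.range → cjs m f.range ≤ Cs f'.range := fun f' a1 a2 a3 a4 a5 v hv => by
        rcases normal_range hn a1 (a2.trans f5) with h1 | h1
        · refine mem_Cs_of_cm hn a1 (a3 (f6 hv)) fun s => h1 (mem_inf.2 ⟨?_, mul_mem
            (conj_mem_of_mem_normalizer (a3 (f6 hv)) ⟨s, rfl⟩) (inv_mem ⟨s, rfl⟩)⟩)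
          have := mul_mem hv (conj_mem_of_mem_normalizer (f5 (a2 ⟨s, rfl⟩)) (inv_mem hv))
          simpa only [mul_assoc] using this
        · exact absurd (eq_of_le_of_card_ge h1 (by rw [card_cjs, f4, a4])).symm a5
      by_contra h1
      push Not at h1
      have h2 : cjs m f.range ≤ Cs (G12 e₁ e₂) := by
        rw [Cs, centralizer_sup]
        exact le_inf (k e₁ c.ker le_sup_left c.G12_le_Ns rfl h1.1)
          (k e₂ c.ker₂ le_sup_right c.G12_le_Ns' (by rw [← c.cjs_range, card_cjs]) h1.2)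
      have h3 := hom_eq_one hn (cje m f) (fun a b => h2 (conj_mem_cjs.2 ⟨b, rfl⟩) _
        (f6 (conj_mem_cjs.2 ⟨a, rfl⟩))) (x 0 (la n) 1)
      exact (inv2_x0 hn f1).2 (by simpa [cje_apply] using h3)
    have h3 : cjs m e₁.range ≠ cjs m e₂.range := fun h3 =>
      c.ne hn (map_injective (MulAut.conj m).injective h3).ge
    rcases key e₁ c.ker le_sup_left c.G12_le_Ns rfl with h1 | h1 <;>
      rcases key e₂ c.ker₂ le_sup_right c.G12_le_Ns' (by rw [← c.cjs_range, card_cjs]) with h2 | h2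
    · exact absurd (h1.trans h2.symm) h3
    · exact Or.inl ⟨cj_eq_self_iff.1 h1, cj_eq_self_iff.1 h2⟩
    · exact Or.inr ⟨h1, h2⟩
    · exact absurd (h1.trans h2.symm) h3
  · obtain ⟨g, rfl⟩ := isConj_iff.1 hs
    obtain ⟨e', -, h2⟩ := chg hn hAB hp c h h1
    exact ⟨e', h2⟩
  · obtain ⟨e', h1, h2, h3⟩ := chg hn hAB hp c h hg
    have h4 := cjs_IG_le (t := t) (L := e.range) g
    rw [← h1, h3.IG_eq hn h2.toB1, c.IG_eq hn h.toB1, G12, G12, range_cje, hg] at h4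
    exact mem_normalizer_of_cj_le h4

theorem jobWU (hAB : J8AB.{u}) (hCU : J8CU.{u}) (hA : J8FA) (hH : J8FH) (hY : J8FY) :
    J8WU.{u} := by
  intro n F _ _ _ hp G _ _ e t e₁ e₂ h c w
  have hn := hp.two_le
  have t1 : t ∈ Ns (G12 e₁ e₂) := two_top (e₁ := e₁) (e₂ := e₂) ▸ c.t_mem_Ns h.inv.1 ⊤
  have sw : ∀ s ∈ Ns (G12 e₁ e₂), IsConj t s → cjs s e₁.range = e₂.range := fun s hs h1 => by
    refine ((w.pm s hs).resolve_left fun ⟨h2, h3⟩ => ?_).1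
    obtain ⟨g, rfl⟩ := isConj_iff.1 h1
    have h4 := h.cje g
    obtain ⟨ab, ae⟩ := hAB n F hp G (cje g e) (g * t * g⁻¹)
    obtain ⟨β₁, i1⟩ := exists_ind hn c.ker h2
    obtain ⟨β₂, i2⟩ := exists_ind hn c.ker₂ h3
    obtain ⟨a1, a2⟩ := hH n F hp β₁ (i1.sq hn c.ker h4.inv.1)
    obtain ⟨b1, b2⟩ := hH n F hp β₂ (i2.sq hn c.ker₂ h4.inv.1)
    rcases a2 with ⟨P₁, p1, p2, p3⟩ | a2
    · rcases b2 with ⟨P₂, q1, q2, q3⟩ | b2
      · exact both hp (hY n F hp) c h4.inv.1 (ae h4) i1 i2 p1 p2 p3 q1 q2 q3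
      · exact wu1 hn (c.symm h.inv.1) h4 (ab h4.b0) (ae h4) i2 i1 a1 b2
    · exact wu1 hn c h4 (ab h4.b0) (ae h4) i1 i2 b1 a2
  have le : e.range ≤ G12 e₁ e₂ := c.IG_eq hn h.toB1 ▸ le_IG
  have eg := hCU n F hp G e t (G12 e₁ e₂) h.toB1 ⟨⟨⟨h.inv, t1, fun g hg =>
    w.ufs g (sw _ hg (isConj_iff.2 ⟨g, rfl⟩))⟩, le, w.odd, fun g hg =>
      isConj_iff.2 ⟨e₁ g, by rw [c.conj_t hg, h.comm]⟩⟩, fun l l1 l2 m m1 m2 => ?_, fun o o1 o2 => ?_⟩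
  · exact ⟨eg, w.ne, w.pm, w.chg, w.ufs, sw⟩
  · have p0 := isP_UU.to_le (Ml_le_UU (n := n) (F := F) l)
    have key : ∀ m ∈ Ns e₁.range, m ∈ Ns e₂.range → m ∈ Cs ((Ml n F l).map e) →
        (Is2 (cm m t) → cm m t ∈ (Ml n F l).map e) ∧ m * m ∈ Cs (G12 e₁ e₂) := fun m a1 a2 a3 => by
      obtain ⟨β₁, i1⟩ := exists_ind hn c.ker a1
      obtain ⟨β₂, i2⟩ := exists_ind hn c.ker₂ a2
      have k : ∀ u ∈ Ml n F l, β₁ u = u ∧ β₂ u = u := fun u hu => by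
        have u2 := isPGroup_iff_is2.1 p0 u hu
        refine c.inj2 hn (u2.map β₁.toMonoidHom) (u2.map β₂.toMonoidHom) u2 u2 ?_
        change e₁ (β₁ u) * e₂ (β₂ u) = _
        rw [← i1, ← i2, conj_mul, ← c.diag, ← a3 _ ⟨u, hu, rfl⟩, mul_inv_cancel_right]
      obtain ⟨ζ₁, z1, rfl⟩ := mem_cI.1 ((hA n F hp).ctM l l1 l2 β₁ fun u hu => (k u hu).1)
      obtain ⟨ζ₂, z2, rfl⟩ := mem_cI.1 ((hA n F hp).ctM l l1 l2 β₂ fun u hu => (k u hu).2)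
      have k1 : m * (e₁ ζ₁ * e₂ ζ₂)⁻¹ ∈ Cs (G12 e₁ e₂) := by
        rw [Cs, centralizer_sup]
        exact ⟨ind_one_iff.1 (by simpa using i1.mul (c.ind₁ ζ₁ ζ₂).inv),
          ind_one_iff.1 (by simpa using i2.mul (c.ind₂ ζ₁ ζ₂).inv)⟩
      have k0 : e₁ ζ₁ * e₂ ζ₂ ∈ G12 e₁ e₂ := c.mem_G12.2 ⟨_, _, rfl⟩
      have k2 : e₁ ζ₁ * e₂ ζ₂ * (e₁ ζ₁ * e₂ ζ₂) = 1 := by rw [c.mul_mul, sq_Ml z1, sq_Ml z2]; simp
      have k3 : cm (e₁ ζ₁ * e₂ ζ₂) t = e (ζ₁ * ζ₂) := by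
        rw [cm, inv_eq_of_mul_eq_one_right k2, mul_assoc, mul_assoc, ← mul_assoc t, ← conj_mul, c.sw,
          (c.symm h.inv.1).sw, ← c.comm, c.mul_mul, c.diag, Ml_le_Cs l z1 _ z2]
      obtain ⟨k, rfl⟩ : ∃ k, m = k * (e₁ ζ₁ * e₂ ζ₂) := ⟨m * _⁻¹, (inv_mul_cancel_right _ _).symm⟩
      rw [mul_inv_cancel_right] at k1
      refine ⟨fun k4 => ?_, ?_⟩
      · rw [cm_eq_of_odd w.odd (normalizer_le_normalizer_centralizer _ t1) k1 (k3 ▸ fun a ha =>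
          (ha _ (le ⟨_, rfl⟩)).symm) (k3 ▸ (isPGroup_iff_is2.1 p0 _ (mul_mem z1 z2)).map e) k4, k3]
        exact ⟨_, mul_mem z1 z2, rfl⟩
      · rw [mul_assoc, ← mul_assoc (e₁ ζ₁ * e₂ ζ₂), k1 _ k0, mul_assoc k, k2, mul_one]
        exact mul_mem k1 k1
    rcases w.pm m m1 with ⟨a1, a2⟩ | ⟨a1, a2⟩
    · exact ⟨(key m a1 a2 m2).1, H64.SG.mem_of_sq_mem (key m a1 a2 m2).2⟩
    · refine ⟨cm_mul_t (t := t) m ▸ (key (m * t) (cj_eq_self_iff.1 ?_) (cj_eq_self_iff.1 ?_)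
        (mul_mem m2 (Cs_range_le _ h.cen))).1, fun ho => absurd ?_ (c.ne hn)⟩
      · rw [← cj_cj]; exact (congrArg _ c.cjs_range).trans a2
      · rw [← cj_cj]; exact (congrArg _ (c.symm h.inv.1).cjs_range).trans a1
      · have : m ∈ Ns e₁.range := H64.SG.mem_of_sq_mem (cj_eq_self_iff.1 (by
          rw [← cj_cj]; exact (congrArg _ a1).trans a2)) ho
        exact a1.ge.trans (cj_eq_self this).le
  · have z1 := o2 (e₁ (x 0 (la n) 1)) (le_normalizer (mem_sup_left ⟨_, rfl⟩)) (by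
      rintro _ ⟨u, hu, rfl⟩
      rw [c.diag, mul_assoc, ← c.comm, ← mul_assoc, ← map_mul, ← UU_le_Cs hu _ (x_mem_ZZ 1), map_mul,
        mul_assoc])
    have i1 : ∀ a, Ind e₁ (e a) (MulAut.conj a) := fun a => c.diag a ▸ c.ind₁ a a
    have : ((Cz o).comap e₁).Normal := ⟨fun a ha b => by
      change e₁ (MulAut.conj b a) ∈ Cz o
      rw [← i1]
      exact mul_mem (mul_mem (mem_Cz.2 (o1 _ ⟨b, rfl⟩).symm) ha) (inv_mem (mem_Cz.2 (o1 _ ⟨b, rfl⟩).symm))⟩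
    have z2 : e₁.range ≤ Cz o := by
      rcases normal_le_center_or hn ((Cz o).comap e₁) with h1 | h1
      · refine absurd ((x_mem_center (zero_ne_la (by omega))).1 (inv_mem_iff.1
          (mem_center_of_cm hn fun a => h1 ?_))) (one_ne_zero (α := F))
        have k1 : (e₁ (x 0 (la n) 1))⁻¹ * e a * e₁ (x 0 (la n) 1) ∈ Cz o := mem_Cz.2 (by
          have := z1 _ ⟨a, rfl⟩
          calc _ = (e₁ (x 0 (la n) 1))⁻¹ * (e₁ (x 0 (la n) 1) * o * (e₁ (x 0 (la n) 1))⁻¹ * e a) *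
                e₁ (x 0 (la n) 1) := by group
            _ = _ := by rw [← this]; group)
        have k2 := mul_mem k1 (inv_mem (mem_Cz.2 (o1 _ ⟨a, rfl⟩).symm))
        change e₁ _ ∈ Cz o
        rw [← c.cm₁, map_inv, cm, inv_inv]; exact k2
      · rintro _ ⟨a, rfl⟩; exact (h1 ▸ mem_top a : a ∈ (Cz o).comap e₁)
    refine H64.SG.Cs_le_Ns _ fun a ha => (mem_Cz.1 (sup_le z2 ?_ ha)).symm
    rintro _ ⟨a, rfl⟩
    exact (mul_mem_cancel_left (z2 ⟨a, rfl⟩)).1 (c.diag a ▸ mem_Cz.2 (o1 _ ⟨a, rfl⟩).symm)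

end H95.A8W
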