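/- S3129, wreath endgame: the slots WU, W3, WE (ports of `H86/WRWU`, `H86/WRWE`). -/
import Cfsg.Agent.H67.SWDef
import Cfsg.Agent.H86.SAWE
import Cfsg.Agent.H81.W2O

set_option autoImplicit false
set_option linter.unusedSectionVars false

namespace H95.SW

open H64.SG (O2 Syl Cz Cs Ns cjs Is2 Inv2 UF IsO2 fx mem_Cs mem_Cz mem_fx is2_of_sq)
open H67.SA (St cI cm mem_cjs conj_mem_cjs cm_eq_one)
open H86.SAWE (exists_step nor_of)
open H67.SW (JobSW JobWU JobW1 JobN2 JobNK JobNU JobW3 JobWE)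
open H86.WR hiding JobSW JobWU JobW1 JobNU JobW3 JobWE jobWU jobW3
open H59.SO hiding JobWU JobW3 JobWE
open Subgroup Function H98
open scoped commutatorElement

universe u

theorem jobWU : JobWU.{u} := by
  intro hSW X _ _ U D A w G _ _ e t h e₁ e₂ c
  have w0 := H67.SW.w0 X U D A w G e t h e₁ e₂ c
  have sw := hSW X U D A w G e t h e₁ e₂ c
  have uf : UF (Ns (G12 e₁ e₂)) t := ⟨h.inv, t_mem c h.inv.1, fun g hg =>
    w0.ufs g (sw _ hg (isConj_iff.2 ⟨g, rfl⟩))⟩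
  have tx : ∀ g, g * g = 1 → IsConj t (t * e g) := fun g hg =>
    isConj_iff.2 ⟨e₁ g, by rw [c.conj_t hg, h.comm]⟩
  let V : Fin 3 → Subgroup X := ![U, D, A]
  have v1 : ∀ j, V j ≤ U ∧ U ≤ Ns (V j) := fun j => by
    fin_cases j
    exacts [⟨le_rfl, le_normalizer⟩, ⟨w.leU (.inl rfl), le_normalizer.trans (w.nor (.inl rfl))⟩,
      ⟨w.leU (.inr rfl), le_normalizer.trans (w.nor (.inr rfl))⟩]
  let S : Fin 3 → Set G := fun j => e '' {v | v * v = 1 ∧ v ∈ Ns (V j)}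
  have s1 : ∀ j, ∀ p ∈ Ns (V j), ∀ u ∈ U, e (p * u * p⁻¹) ∈ closure (S j) := fun j p hp u hu => by
    have : closure {x | x * x = 1 ∧ ∃ N ≤ U, x ∈ N ∧ St U ≤ St N ∧ ⁅⁅N, N⁆, N⁆ = ⊥} ≤
        (closure (S j)).comap (e.comp (MulAut.conj p).toMonoidHom) :=
      (closure_le _).2 fun x ⟨h1, N, h2, h3, _⟩ =>
        subset_closure ⟨p * x * p⁻¹, ⟨by rw [conj_mul, h1]; simp,
          mul_mem (mul_mem hp ((v1 j).2 (h2 h3))) (inv_mem hp)⟩, rfl⟩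
    exact this (w.cl hu)
  obtain ⟨z, -, z0, z1⟩ := w.exZ
  have key := H64.SG.jobK9 uf (Cs (G12 e₁ e₂)) e.range 0 (fun j => (V j).map e) S w0.odd
    (H64.SG.Cs_le_Ns _) (c.range_le.trans le_normalizer) h.range_le
    (c.range_le.trans fun a ha b hb => (hb a ha).symm) (fun j => map_mono (v1 j).1)
    (map_le_range _ _) (w.syl.2.1.map e) (by
      rintro j _ ⟨v, hv, rfl⟩
      exact ⟨⟨v, rfl⟩, by rw [← map_mul, hv.1, map_one], map_mem_Ns hv.2, tx v hv.1⟩)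
    (by rintro j _ ⟨u, hu, rfl⟩; simpa using s1 j 1 (one_mem _) u hu) (by
      rintro _ ⟨a, rfl⟩
      have : closure {g | ∃ u ∈ U, ∃ p, (p ∈ Ns D ∨ p ∈ Ns A) ∧ g = p * u * p⁻¹} ≤
          (closure (⋃ j, S j)).comap e := (closure_le _).2 (by
        rintro _ ⟨u, hu, p, hp | hp, rfl⟩
        · exact closure_mono (Set.subset_iUnion S 1) (s1 1 p hp u hu)
        · exact closure_mono (Set.subset_iUnion S 2) (s1 2 p hp u hu))
      exact this (w.top.ge (mem_top a)))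
    (fun j m m1 m2 => by
      fin_cases j
      · have := cM w.ns c h.toB1 w0 le_rfl (w.ct D (.inl rfl)) m1
          (centralizer_le (map_mono (w.leU (.inl rfl))) m2)
        exact ⟨fun k => map_mono (w.leU (.inl rfl)) (this.1 k), this.2⟩
      · exact cM w.ns c h.toB1 w0 le_rfl (w.ct D (.inl rfl)) m1 m2
      · exact cM w.ns c h.toB1 w0 le_rfl (w.ct A (.inr rfl)) m1 m2)
    fun o o1 o2 => H64.SG.Cs_le_Ns _ (gen w.ns c z0 z1 o1 o2)
  exact ⟨⟨uf, c.range_le, w0.odd, tx⟩, w0.ne, w0.pm, w0.chg, w0.ufs, key 1, key 2, sw⟩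

theorem jobW3 : JobW3.{u} := by
  intro X _ _ U D A w G _ _ e t b e₁ e₂ c g y y1 y0
  have tt := b.inv.1
  have ti := b.inv_eq
  have yy := w.sq y y1
  have e1 : e₁ y * e₁ y = 1 := by rw [← map_mul, yy, map_one]
  have dd : e₁ y * t * (e₁ y * t) = e₁ y * e₂ y := by rw [← c.sw, ti]; group
  have d4 : Is2 (e₁ y * t) := H64.SG.Is2.of_pow (k := 1) (by
    rw [pow_one, pow_two, dd]
    exact is2_of_sq (by rw [c.mul_mul, yy, map_one, map_one, mul_one]))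
  have di : t * (e₁ y * t) * t⁻¹ = (e₁ y * t)⁻¹ := by
    rw [mul_inv_rev, ti, inv_eq_of_mul_eq_one_right e1, mul_assoc, mul_assoc, tt, mul_one]
  have dM : e₁ y * t ∈ Ns (G12 e₁ e₂) :=
    mul_mem (le_normalizer (mem_sup_left ⟨y, rfl⟩)) g.uf.mem
  have nsw : ∀ m ∈ Cz (e₁ y * t), m ∈ Ns e₁.range → m ∈ Ns e₂.range → cm m t = 1 ∧
      m * e₁ y * m⁻¹ = e₁ y ∧ m * e₂ y * m⁻¹ = e₂ y := fun m hm n1 n2 => by
    have h1 : m * (e₁ y * t) * m⁻¹ = e₁ y * t := by rw [← mem_Cz.1 hm, mul_inv_cancel_right]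
    have h2 := fix_both w.ns c n1 n2 (a := y) (b := y) (by rw [← dd, ← conj_mul, h1])
    refine ⟨?_, h2⟩
    rw [← conj_mul, h2.1, mul_right_inj] at h1
    rw [cm, h1, mul_inv_cancel]
  have s1 : cjs (e₁ y * t) e₁.range = e₂.range := (cj_cj _ _ _).symm.trans
    ((congrArg _ c.cjs_range).trans (cj_eq_self (c.G12_le_Ns' (mem_sup_left ⟨y, rfl⟩))))
  have s2 : cjs (e₁ y * t) e₂.range = e₁.range := (cj_cj _ _ _).symm.trans
    ((congrArg _ (c.symm tt).cjs_range).trans (cj_eq_self (le_normalizer ⟨y, rfl⟩)))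
  have ec : ∀ u ∈ Cz y, e u ∈ Cz (e₁ y * t) := fun u hu => mem_Cz.2 (by
    rw [mul_assoc, b.comm u, ← mul_assoc, ← mul_assoc, c.diag, ← mul_assoc, ← map_mul, mem_Cz.1 hu,
      map_mul, mul_assoc (e₁ u), c.comm y u, ← mul_assoc])
  generalize e₁ y * t = d at d4 di dM nsw s1 s2 ec
  have tN : t ∈ Ns (zpowers d) := mem_normalizer_of_cj_le (by
    rintro _ ⟨a, ha, rfl⟩
    obtain ⟨j, rfl⟩ := mem_zpowers_iff.1 ha
    change t * _ * t⁻¹ ∈ _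
    rw [← conj_zpow, di]
    exact zpow_mem (inv_mem (mem_zpowers _)) j)
  have cz : Cs (zpowers d) = Cz d := by
    ext m; rw [H64.SG.mem_Cs_zpowers, mem_Cz]
  have cN : Cz d ≤ Ns (zpowers d) := cz ▸ H64.SG.Cs_le_Ns _
  have tC : t ∈ Ns (Cz d) := cz ▸ normalizer_le_normalizer_centralizer _ tN
  have dec : ∀ h ∈ Cz d ⊔ zpowers t, h ∈ Cz d ∨ h * t ∈ Cz d := fun h hh =>
    (H67.SA.mem_sup_zp tC tt).1 hh
  have hodd : ∀ h ∈ Cz d ⊔ zpowers t, Odd (orderOf h) → h ∈ Cz d := fun h hh ho => by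
    refine H64.SG.mem_of_sq_mem ?_ ho
    rcases dec h hh with k | k
    · exact mul_mem k k
    · have := mul_mem k (conj_mem_of_mem_normalizer tC k)
      rwa [show h * t * (t * (h * t) * t⁻¹) = h * (t * t) * h by group, tt, mul_one] at this
  have hc : ∀ m ∈ Cz d, m ∈ Ns (G12 e₁ e₂) → cm m t ∈ zpowers d := fun m hm mM => by
    rcases g.pm m mM with h1 | h1
    · rw [(nsw m hm h1.1 h1.2).1]; exact one_mem _
    · have h2 := (nsw (m * d) (mul_mem hm (mem_Cz.2 rfl))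
        (cj_eq_self_iff.1 (by rw [← cj_cj]; exact (congrArg (cjs m) s1).trans h1.2))
        (cj_eq_self_iff.1 (by rw [← cj_cj]; exact (congrArg (cjs m) s2).trans h1.1))).1
      have h3 : cm d t ∈ zpowers d := by
        rw [show cm d t = d * (t * d * t⁻¹)⁻¹ by unfold cm; group, di]
        exact mul_mem (mem_zpowers _) (inv_mem (inv_mem (mem_zpowers _)))
      rw [show cm (m * d) t = m * cm d t * m⁻¹ * cm m t by unfold cm; group,
        mul_eq_one_iff_inv_eq] at h2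
      rw [← h2]
      exact inv_mem (conj_mem_of_mem_normalizer (cN hm) h3)
  have eM : ∀ u, e u ∈ Ns (G12 e₁ e₂) := fun u => le_normalizer (g.le ⟨u, rfl⟩)
  have eH : ∀ u ∈ Cz y, e u ∈ Ns (Cz d ⊔ zpowers t) := fun u hu =>
    le_normalizer (mem_sup_left (ec u hu))
  have Dy : D ≤ Cz y := fun u hu => mem_Cz.2 (w.abD hu y y1)
  refine le_trans le_sup_left (H67.SA.jobK10 g.uf (IsConj.refl t) g.uf.mem (Cz d ⊔ zpowers t)
    (zpowers d) (mem_sup_right (mem_zpowers t)) (le_sup_of_le_left (zpowers_le.2 (mem_Cz.2 rfl)))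
    (sup_le cN (zpowers_le.2 tN)) d4.zpowers (fun h h1 h2 => cz ▸ hodd h h1 h2)
    (fun m hm mM => ?_) (D.map e) ?_ (by rw [closure_eq]; exact g.cuD) fun O o1 o2 o3 v hv o ho => ?_)
  · rcases dec m hm with k | k
    · exact hc m k mM
    · exact H67.SA.cm_mul_t (t := t) m ▸ hc _ k (mul_mem mM g.uf.mem)
  · rintro _ ⟨u, hu, rfl⟩
    exact ⟨by rw [← map_mul, w.sq u hu, map_one], eM u, eH u (Dy hu), b.comm u, g.tx u (w.sq u hu)⟩
  · obtain ⟨u, hu, rfl⟩ := hv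
    have od := fun a (ha : a ∈ O) => H64.SG.odd_orderOf_of_mem o2 ha
    have fx : ∀ a ∈ O, a * e₁ y * a⁻¹ = e₁ y ∧ a * e₂ y * a⁻¹ = e₂ y := fun a ha =>
      (nsw a (hodd a (o1 ha).1 (od a ha)) (odd_nor g.toW0 (o1 ha).2 (od a ha)).1
        (odd_nor g.toW0 (o1 ha).2 (od a ha)).2).2
    have key : ∀ f₁ f₂ : X →* G, CW e t f₁ f₂ → (∀ a ∈ O, a * f₁ y * a⁻¹ = f₁ y) →
        ∀ a b, f₁ a * f₂ b ∈ O → a = 1 := fun f₁ f₂ c' hf a b hab => by
      let O₁ : Subgroup X :=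
        { carrier := {a | ∃ b, f₁ a * f₂ b ∈ O}
          one_mem' := ⟨1, by simp⟩
          mul_mem' := fun ⟨b, h1⟩ ⟨b', h2⟩ => ⟨b * b', c'.mul_mul _ _ _ _ ▸ mul_mem h1 h2⟩
          inv_mem' := fun {a} ⟨b, h1⟩ => ⟨b⁻¹, by
            rw [map_inv, map_inv, ← mul_inv_rev, ← c'.comm]; exact inv_mem h1⟩ }
      refine mem_bot.1 ((w.oc y ⟨yy, y0⟩ O₁ (fun a ⟨b, h1⟩ => mem_Cz.2 ?_)
        (H64.SG.odd_card_of_forall fun a ⟨b, h1⟩ => ?_) fun p hp => mem_normalizer_of_cj_le ?_).le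
        ⟨b, hab⟩)
      · exact (mul_inv_eq_iff_eq_mul.1 (((c'.ind₁ a b).eq_iff c'.inj).1 (hf _ h1))).symm
      · exact H64.SG.odd_orderOf_of_pow (od _ h1) (w.ns.cen _ (by
          rw [map_pow]; exact (c'.ind₁ a b).pow_eq_one c'.inj (pow_orderOf_eq_one _)))
      · rintro _ ⟨a, ⟨b, h1⟩, rfl⟩
        refine ⟨p * b * p⁻¹, ?_⟩
        have := conj_mem_of_mem_normalizer (o3 ⟨eH p hp, eM p⟩) h1
        rwa [← conj_mul, ind_e₁ c', ind_e₂ c'] at this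
    have h1 : cm o (e u) ∈ O := by
      rw [show cm o (e u) = o * (e u * o⁻¹ * (e u)⁻¹) by unfold cm; group]
      exact mul_mem ho (conj_mem_of_mem_normalizer (o3 ⟨eH u (Dy hu), eM u⟩) (inv_mem ho))
    obtain ⟨a, a', h2⟩ := c.mem_G12.1 (mul_mem (conj_mem_of_mem_normalizer (o1 ho).2
      (g.le ⟨u, rfl⟩)) (inv_mem (g.le ⟨u, rfl⟩)) : cm o (e u) ∈ G12 e₁ e₂)
    rw [cm, h2] at h1
    rw [key e₁ e₂ c (fun a ha => (fx a ha).1) a a' h1, key e₂ e₁ (c.symm tt)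
      (fun a ha => (fx a ha).2) a' a (c.comm a a' ▸ h1), map_one, map_one, mul_one] at h2
    exact mem_Cz.2 (cm_eq_one.1 h2).symm

theorem jobWE : JobWE.{u} := by
  intro hSW hWU hW1 hN2 hNK hNU hW3 X _ _ U D A f G _ _ e t b e₁ e₂ c
  replace hWU := hWU hSW
  have g := hWU X U D A f G e t b e₁ e₂ c
  by_contra hM
  have hU := H64.SG.syl_iff.1 (c.syl_two f.syl)
  obtain ⟨S, hS, hUS⟩ := exists_isSyl_le hU.isPGroup (hU.le.trans le_normalizer)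
  have SU : S ≤ Ns (two e₁ e₂ U) := by
    rw [← hU.eq_of_le (hS.isPGroup.to_inf_left (K := G12 e₁ e₂)) (le_inf hUS hU.le) inf_le_right]
    exact le_normalizer_inf le_normalizer hS.le
  obtain ⟨W, a, b', WS, aS, ta, tb, aW, bW, bM, ⟨k, ko, kW⟩, WT, -, hi, -⟩ :=
    H9.UF.jobK4 g.uf hM S (H64.SG.syl_iff.2 hS)
  have WM := WS.trans hS.le
  have hW := hS.isPGroup.to_le WS
  have hi' : ∀ i ∈ Ns W, i ∉ W → i * i ∈ W → ∃ w ∈ W, IsConj t (i * w) := fun i i1 i2 i3 => by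
    obtain ⟨w, w1, m, -, w2⟩ := hi i i1 i2 i3
    exact ⟨w, w1, w2 ▸ ta.trans (H9.UF.conj_cj m a)⟩
  have nsw : ∀ s ∈ Ns (G12 e₁ e₂), IsConj t s → s ∉ Ns e₁.range := fun s s1 s2 s3 =>
    g.ne (cj_eq_self_iff.1 (c.cjs_range.trans ((g.sw s s1 s2).symm.trans (cj_eq_self_iff.2 s3))))
  have hUW : ¬ two e₁ e₂ U ≤ W := fun h => bM (hNU X U D A f G e t b e₁ e₂ c g
    (hNK X U D A f G e t b e₁ e₂ c g (hN2 X U D A f G e t b e₁ e₂ c g))
    (hW1 X U D A f G e t b e₁ e₂ c g W hW WM h bW))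
  by_cases hW1 : W ≤ Ns e₁.range
  · obtain ⟨i, i1, i2, i3, i4⟩ := exists_step hS.isPGroup WS hUS (WS.trans SU) hUW
    obtain ⟨w, w1, w2⟩ := hi' i i3 i2 i4
    exact nsw _ (hS.le (mul_mem (hUS i1) (WS w1))) w2 (mul_mem (c.G12_le_Ns (hU.le i1)) (hW1 w1))
  obtain ⟨w₀, w1, w2⟩ := SetLike.not_le_iff_exists.1 hW1
  have sw0 := (g.pm w₀ (WM w1)).resolve_left fun h => w2 h.1
  have sw : ∀ w ∈ W, w ∉ Ns e₁.range → w * w₀⁻¹ ∈ Ns e₁.range := fun w h1 h2 => by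
    have h3 := (g.pm w (WM h1)).resolve_left fun h => h2 h.1
    refine cj_eq_self_iff.1 ?_
    rw [← cj_cj]
    have : H98.cj w₀⁻¹ e₁.range = e₂.range := by
      rw [← show H98.cj w₀ e₂.range = e₁.range from sw0.2, cj_cj, inv_mul_cancel, cj_one]
    rw [this]; exact h3.2
  have U1 : U.map e₁ ≤ S := le_sup_left.trans hUS
  have beta : ∀ B ≤ U, St U ≤ St B → ¬ B.map e₁ ≤ W →
      ∃ y ∈ B, e₁ y ∉ W ∧ e₁ y ∈ Ns W ∧ e₁ y * e₁ y ∈ W := fun B hB hSt hBW => by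
    have h1 : W ⊓ Ns e₁.range ≤ Ns (B.map e₁) := fun m hm => by
      obtain ⟨β, hβ⟩ := exists_ind c.inj hm.2
      refine hβ.mem_Ns_map (hSt (hβ.st c.inj (mem_normalizer_of_cj_le ?_)))
      rintro _ ⟨x, hx, rfl⟩
      exact inf_left f.ns c (conj_mem_of_mem_normalizer (SU (WS hm.1)) (mem_sup_left hx))
        (conj_mem_of_mem_normalizer hm.2 (map_le_range _ _ hx))
    obtain ⟨_, ⟨y, y1, rfl⟩, y2, y3, y4⟩ := exists_step hS.isPGroup (inf_le_left.trans WS)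
      ((map_mono hB).trans U1) h1 fun h => hBW (h.trans inf_le_left)
    have y5 : e₁ y ∈ Ns e₁.range := le_normalizer ⟨y, rfl⟩
    have y6 : w₀ * (e₁ y)⁻¹ * w₀⁻¹ ∈ e₂.range := by
      rw [← sw0.1]; exact conj_mem_cjs.2 (inv_mem ⟨y, rfl⟩)
    refine ⟨y, y1, fun h => y2 ⟨h, y5⟩, nor_of (t := t) inf_le_left w1 ⟨mul_mem w1 w1, ?_⟩ ?_
      (fun w h => ?_) y3 y4 (c.le_Cs y6 _ ⟨y, rfl⟩) WT hi' fun w h h' => ?_, y4.1⟩
    · refine cj_eq_self_iff.1 ?_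
      rw [← cj_cj]; exact (congrArg (cjs w₀) sw0.1).trans sw0.2
    · refine mem_normalizer_of_cj_le ?_
      rintro _ ⟨w, h, rfl⟩
      refine ⟨conj_mem_of_mem_normalizer (le_normalizer w1) h.1, ?_⟩
      have h2 := ((g.pm w (WM h.1)).resolve_right fun k => g.ne (cj_eq_self_iff.1
        (c.cjs_range.trans (k.1.symm.trans (cj_eq_self_iff.2 h.2))))).2
      rw [← sw0.2, ← H64.SG.cj_Ns]
      exact conj_mem_cjs.2 h2
    · by_cases k : w ∈ Ns e₁.range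
      exacts [Or.inl ⟨h, k⟩, Or.inr (mem_inf.2 ⟨mul_mem h (inv_mem w1), sw w h k⟩)]
    · have h2 : cm (e₁ y) w₀ ∈ G12 e₁ e₂ := by
        rw [show cm (e₁ y) w₀ = e₁ y * (w₀ * (e₁ y)⁻¹ * w₀⁻¹) by unfold cm; group]
        exact mul_mem (mem_sup_left ⟨y, rfl⟩) (mem_sup_right y6)
      exact nsw _ (mul_mem (le_normalizer h2) (WM h.1)) h' (mul_mem (c.G12_le_Ns h2) h.2)
  have fin : ∀ y ∈ U, e₁ y ∉ W → e₁ y ∈ Ns W → e₁ y * e₁ y ∈ W →
      (y * y = 1 ∨ 2 < Nat.card ↥(W ⊓ e₁.range)) →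
      (∀ s e', s ∈ Ns W → (e₁ y)⁻¹ * s ∈ W → CE e' s → CW e' s e₁ (cje s e₁) →
        GW D A e' s e₁ (cje s e₁) → Cs W ≤ Ns (G12 e₁ (cje s e₁))) → False := by
    intro y y1 y2 y3 y4 y5 hC
    obtain ⟨w, h1, m, m1, h2⟩ := hi _ y3 y2 y4
    have sM : e₁ y * w ∈ Ns (G12 e₁ e₂) := hS.le (mul_mem (U1 ⟨y, y1, rfl⟩) (WS h1))
    have mM := (H9.UF.jobK1 g.uf ta (hS.le aS)).1 m (h2 ▸ sM)
    have ts : IsConj t (e₁ y * w) := h2 ▸ ta.trans (H9.UF.conj_cj m a)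
    have h3 := g.sw _ sM ts
    obtain ⟨e', c1, c2⟩ := g.chg _ ts h3
    have g' := hWU X U D A f G e' _ c1 e₁ _ c2
    have hG : G12 e₁ (cje (e₁ y * w) e₁) = G12 e₁ e₂ := by rw [G12, range_cje, h3]
    have sW : e₁ y * w ∈ Ns W := mul_mem y3 (le_normalizer h1)
    have sW' : (e₁ y)⁻¹ * (e₁ y * w) ∈ W := by rwa [inv_mul_cancel_left]
    have kW' : (e₁ y * w * (m * b' * m⁻¹)) ^ k ∈ W := by
      rw [h2, conj_mul, conj_pow]; exact conj_mem_of_mem_normalizer m1 kW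
    have h4 := H81.W2.jobW2O G e₁.range e₂.range W (e₁ y * w) (m * b' * m⁻¹) (e₁ y) k c.le_Cs' g.odd
      c1.inv.1 h3 (nsw _ sM ts) hW (fun m hm => g.pm m (WM hm)) sW
      (mul_mem (mul_mem m1 bW) (inv_mem m1))
      (H9.UF.inv2_conj g.uf.inv (tb.trans (H9.UF.conj_cj m b'))).1 ko kW' ⟨y, rfl⟩ y4 y2 sW'
      (y5.imp_left fun h => by rw [← map_mul, h, map_one])
    obtain ⟨i, j, e1, e2, e3⟩ := H64.SG.exists_two_odd (e₁ y * w * (m * b' * m⁻¹))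
    have h5 := hG ▸ hC _ e' sW sW' c1 c2 g' (h4 _ (pow_mem (mem_zpowers _) j) e3)
    obtain ⟨r, hr⟩ := e2.exists_pow ko
    have h6 : (e₁ y * w * (m * b' * m⁻¹)) ^ i ∈ W := by
      rw [← hr, ← pow_mul _ i k, mul_comm i k, pow_mul]; exact pow_mem (pow_mem kW' i) r
    have h7 := mul_mem (WM h6) h5
    rw [← e1] at h7
    have h8 := mul_mem (mul_mem (inv_mem mM) (mul_mem (inv_mem sM) h7)) mM
    exact bM (by simpa [mul_assoc] using h8)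
  have DU := f.leU (.inl rfl)
  by_cases ca : D.map e₁ ≤ W
  swap
  · obtain ⟨y, y1, y2, y3, y4⟩ := beta _ DU (f.st (.inl rfl)) ca
    have yy := f.sq y y1
    refine fin y (DU y1) y2 y3 y4 (Or.inl yy) fun s e' _ s2 c1 c2 g' m hm => ?_
    refine hW3 X U D A f G e' s c1 e₁ _ c2 g' y y1
      (fun h => y2 (by rw [h, map_one]; exact one_mem _)) (mem_Cz.2 (hm _ ?_))
    rwa [← map_inv, inv_eq_of_mul_eq_one_right yy] at s2
  have big : 2 < Nat.card ↥(W ⊓ e₁.range) :=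
    (f.big.trans_eq (card_map_e c.inj).symm).trans_le (card_le_of_le (le_inf ca (map_le_range _ _)))
  have cc : ¬ U.map e₁ ≤ W := fun h => hUW (sup_le h (by
    rintro _ ⟨u, hu, rfl⟩
    have h1 : w₀⁻¹ * e₂ u * w₀ ∈ W := h (inf_left f.ns c
      (conj_mem_of_mem_normalizer' (SU (WS w1)) (mem_sup_right ⟨u, hu, rfl⟩))
      (mem_cjs.1 (sw0.1 ▸ ⟨u, rfl⟩)))
    simpa [mul_assoc] using mul_mem (mul_mem w1 h1) (inv_mem w1)))
  obtain ⟨y, y1, y2, y3, y4⟩ := beta _ le_rfl le_rfl cc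
  refine fin y y1 y2 y3 y4 (Or.inr big) fun s e' s1 _ _ c2 g' => le_trans (centralizer_le ?_) g'.cuD
  rintro _ ⟨u, hu, rfl⟩
  have h1 := ca ⟨u, hu, rfl⟩
  rw [c2.diag]
  exact mul_mem h1 (conj_mem_of_mem_normalizer s1 h1)

end H95.SW
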