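/- S3129, endgame, slot SO: strong closure of `Q` in the orthogonal models. -/
import Cfsg.Agent.H64.YESpec
import Cfsg.Agent.H98.Sylow

set_option autoImplicit false
set_option linter.unusedSectionVars false

namespace H95.YE

open Subgroup H98 H64.YE
open H64.SG (Cs Ns Is2)
open H67.SA (cm)

universe u

section

variable {G : Type*} [Group G] [Finite G] {M P A H : Subgroup G} {a d g : G}

theorem two_le (ha : a ∈ M) (h : Fx M a) (hP : IsPGroup 2 P) (aP : a ∈ P) : P ≤ M := by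
  by_contra k
  obtain ⟨p, p1, p2⟩ := SetLike.exists_of_lt (lt_inf_normalizer hP
    (inf_le_left.lt_of_ne fun e : P ⊓ M = P => k (e ▸ inf_le_right)))
  exact p2 ⟨p1.1, h p (conj_mem_of_mem_normalizer p1.2 ⟨aP, ha⟩).2⟩

theorem zp2 (h : a * a = 1) : IsPGroup 2 (zpowers a) :=
  isPGroup_zpowers (k := 1) (by rw [pow_one, pow_two, h])

theorem fl (ha : a ∈ M) (fa : Fx M a) (fd : Fx M d) (a2 : a * a = 1) (d2 : d * d = 1)
    (aN : a ∈ Ns A ⊓ H) (dN : g⁻¹ * d * g ∈ Ns A ⊓ H) : ∃ n ∈ Ns A ⊓ H, g * n⁻¹ ∈ M := by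
  obtain ⟨P, hP, p1⟩ := exists_isSyl_le (zp2 a2) (zpowers_le.2 aN)
  obtain ⟨n, n1, n2⟩ := hP.exists_cj_le (zp2 (a := g⁻¹ * d * g) (by
    rw [show g⁻¹ * d * g * (g⁻¹ * d * g) = g⁻¹ * (d * d) * g by group, d2]; simp)) (zpowers_le.2 dN)
  have := two_le ha fa hP.isPGroup (p1 (mem_zpowers _)) (n2 (conj_mem_cj (mem_zpowers _)))
  have := inv_mem (fd (n * g⁻¹) (by simpa only [mul_inv_rev, inv_inv, mul_assoc] using this))
  exact ⟨n, n1, by simpa using this⟩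

theorem cj_zp (a x : G) : H98.cj a (zpowers x) = zpowers (a * x * a⁻¹) := MonoidHom.map_zpowers _ _

theorem nrm {Z : Subgroup G} {x : G} (h : a ∈ Cs Z) (h1 : cm a x ∈ Z) : a ∈ Ns (zpowers x ⊔ Z) :=
  mem_normalizer_of_cj_le (by
    rw [cj_sup, cj_zp, cj_eq_self (centralizer_le_normalizer _ h)]
    refine sup_le (zpowers_le.2 ?_) le_sup_right
    have := mul_mem (mem_sup_right h1) (mem_sup_left (T := Z) (mem_zpowers x))
    rwa [inv_mul_cancel_right] at this)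

end

theorem jobSO : JobSO.{u} := by
  intro n F _ _ _ _ _ hn G _ _ e t Y _ _ _ ι τ Gd Go U Φ K₀ h r Z Q c R c2 O f x hx g _ g1 ⟨v, hv, e1⟩
  have hk := h.ker
  have U2 := h.syl.2.1
  have i2 : ∀ y ∈ U, Is2 y := fun y hy => isPGroup_iff_forall.1 U2 y hy
  have xU := R.qu hx
  have e2 : v * v = x * x := inj2 hk (i2 _ (mul_mem hv hv)) (i2 _ (mul_mem xU xU)) (by
    rw [map_mul, e1, conj_mul, ← map_mul, mul_inv_eq_iff_eq_mul]
    exact (mem_centralizer_iff.1 g1 _ (mem_map_of_mem Φ (R.sq x hx))).symm)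
  have key : ∀ y ∈ U, y * y ∈ Z → ∃ a ∈ Ns Φ.range, Fx (Ns Φ.range) a ∧ a * a = 1 ∧
      a ∈ Ns (zpowers (Φ y) ⊔ Z.map Φ) ⊓ Cs (Z.map Φ) := fun y hy y2 => by
    obtain ⟨w, w1, w2⟩ := O.fx y hy y2
    have w3 := map_le_centralizer_map Φ (zpowers_le.2 w1) (mem_map_of_mem Φ (mem_zpowers _))
    refine ⟨_, le_normalizer ⟨_, rfl⟩, fun s hs => ?_, by
      rw [← map_mul, conj_mul, c2]; simp, nrm w3 ?_, w3⟩
    · refine (mul_mem_cancel_right (le_normalizer (MonoidHom.mem_range.2 ⟨w, rfl⟩))).1 (f (s * Φ w) ?_)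
      simpa only [map_mul, map_inv, mul_inv_rev, mul_assoc] using hs
    · simpa only [map_mul, map_inv] using mem_map_of_mem Φ w2
  obtain ⟨a, a1, a2, a3, a4⟩ := key x xU (R.sq x hx)
  obtain ⟨d, -, d2, d3, d4⟩ := key v hv (e2 ▸ R.sq x hx)
  obtain ⟨m, m1, m2⟩ := fl (g := g) a1 a2 d2 a3 d3 a4 (mem_inf.2 ⟨by
    have := (mem_inf.1 d4).1
    rw [e1, ← cj_eq_self (centralizer_le_normalizer _ g1), ← cj_zp, ← cj_sup, Ns,
      ← cj_normalizer] at this
    exact H98.mem_cj.1 this, mul_mem (mul_mem (inv_mem g1) d4.2) g1⟩)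
  obtain ⟨β, hβ⟩ := exists_ind hk m2
  have := hβ.mem_Ns_map (R.stq β (ind_st hk hβ (U2.to_le (R.zq.trans R.qu))
    (centralizer_le_normalizer _ (mul_mem g1 (inv_mem m1.2)))))
  have k1 := conj_mem_of_mem_normalizer this (sup_le (zpowers_le.2 (mem_map_of_mem Φ hx))
    (map_mono R.zq) (conj_mem_of_mem_normalizer m1.1 (mem_sup_left (mem_zpowers (Φ x)))))
  convert k1 using 1
  group

end H95.YE
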