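import Cfsg.Agent.H74.OCSpec
import Cfsg.Agent.H86.AltAut
import Cfsg.Agent.H89.MinNormal
import Cfsg.Agent.S4231
import Cfsg.Agent.S0205
import Cfsg.Agent.S0144

/-! Slots ALM, AUT5, AUT6 of the tower OC. -/

set_option autoImplicit false

namespace H95.OC

open Cfsg Subgroup H74.OC Equiv Equiv.Perm

universe u

/-- A nonsolvable finite group has an involution and an element of prime order at least 5. -/
theorem two_elts {X : Type*} [Group X] [Finite X] (h : ¬ Group.IsSolvable X) :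
    ∃ z s : X, orderOf z = 2 ∧ (orderOf s).Prime ∧ 5 ≤ orderOf s := by
  have h2 : 2 ∣ Nat.card X := by
    by_contra hc
    exact h (Cfsg.Agent.S0205.result (Nat.odd_iff.2 (by omega)))
  obtain ⟨z, hz⟩ := exists_prime_orderOf_dvd_card' 2 h2
  have hp : ∃ p, p.Prime ∧ 5 ≤ p ∧ p ∣ Nat.card X := by
    by_contra hc
    push Not at hc
    apply h
    have h0 : Nat.card X ≠ 0 := Nat.card_pos.ne'
    obtain ⟨a, m, hm, e⟩ := Nat.exists_eq_pow_mul_and_not_dvd h0 2 (by norm_num)
    have hm0 : m ≠ 0 := by rintro rfl; exact hm (dvd_zero 2)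
    obtain ⟨b, k, hk, e'⟩ := Nat.exists_eq_pow_mul_and_not_dvd hm0 3 (by norm_num)
    have hk1 : k = 1 := by
      by_contra hk1
      obtain ⟨p, hp, hd⟩ := Nat.exists_prime_and_dvd hk1
      have hdm : p ∣ m := e' ▸ Dvd.dvd.mul_left hd _
      have hdX : p ∣ Nat.card X := e ▸ Dvd.dvd.mul_left hdm _
      have h5 : p < 5 := by
        by_contra h5
        exact hc p hp (not_lt.1 h5) hdX
      have := hp.two_le
      interval_cases p
      · exact hm hdm
      · exact hk hd
      · exact absurd hp (by norm_num)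
    exact Cfsg.Agent.S0144.result 2 3 a b Nat.prime_two Nat.prime_three (by rw [e, e', hk1, mul_one])
  obtain ⟨p, hp, h5, hd⟩ := hp
  haveI := Fact.mk hp
  obtain ⟨s, hs⟩ := exists_prime_orderOf_dvd_card' p hd
  exact ⟨z, s, hz, hs ▸ hp, hs ▸ h5⟩

theorem cen_bot {H : Type u} [Group H] [Finite H] (hS : Sp 8 H) (L : Subgroup H)
    (h : ¬ Group.IsSolvable L) : centralizer (L : Set H) = ⊥ := by
  by_contra hc
  obtain ⟨z, s, hz, hs, h5⟩ := two_elts h
  have hcard : Nat.card (centralizer (L : Set H)) ≠ 1 := fun e => hc (card_eq_one.1 e)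
  obtain ⟨r, hr, hd⟩ := Nat.exists_prime_and_dvd hcard
  haveI := Fact.mk hr
  obtain ⟨c, hc'⟩ := exists_prime_orderOf_dvd_card' r hd
  have hcz : (z : H) * c = c * z := c.2 z z.2
  have hcs : (s : H) * c = c * s := c.2 s s.2
  by_cases e : r = orderOf s
  · have := hS.mul_le hcz (by
      rw [Subgroup.orderOf_coe, Subgroup.orderOf_coe, hz, hc', e]
      exact (Nat.coprime_primes Nat.prime_two hs).2 (by omega))
    rw [Subgroup.orderOf_coe, Subgroup.orderOf_coe, hz, hc', e] at this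
    omega
  · have := hS.mul_le hcs (by
      rw [Subgroup.orderOf_coe, Subgroup.orderOf_coe, hc']
      exact (Nat.coprime_primes hs hr).2 (Ne.symm e))
    rw [Subgroup.orderOf_coe, Subgroup.orderOf_coe, hc'] at this
    have := hr.two_le
    nlinarith

theorem jobALM : JobALM.{u} := by
  intro H _ _ _ hS hR
  obtain ⟨M, -, hM⟩ := H89.exists_isMinNormal_le (⊤ : Subgroup H) inferInstance top_ne_bot
  have hns : ¬ Group.IsSolvable M := fun h => hM.ne_bot (hR M hM.normal h)
  have hnc : ¬ IsMulCommutative M := fun h => hns (by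
    letI : CommGroup M := { (inferInstance : Group M) with mul_comm := h.1.1 }
    infer_instance)
  refine ⟨M, hM.normal, ?_, hnc, cen_bot hS M hns⟩
  obtain ⟨T, _, m, hT, hm, ⟨e⟩⟩ := hM.exists_pow_simple
  haveI : Finite (Fin m → T) := Finite.of_equiv _ e.toEquiv
  haveI : Finite T := Finite.of_injective (fun t : T => (fun _ => t : Fin m → T))
    (fun a b h => congrFun h ⟨0, hm⟩)
  have hTs : ¬ Group.IsSolvable T := fun h => by
    have hc : ∀ a b : T, a * b = b * a := IsSimpleGroup.comm_iff_isSolvable.2 h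
    refine hnc ⟨⟨fun a b => e.injective ?_⟩⟩
    rw [map_mul, map_mul]
    funext i
    exact hc _ _
  by_cases h1 : m = 1
  · subst h1
    exact (e.trans (MulEquiv.piUnique fun _ : Fin 1 => T)).isSimpleGroup
  exfalso
  obtain ⟨z, s, hz, hs, h5⟩ := two_elts hTs
  let i : Fin m := ⟨0, hm⟩
  let j : Fin m := ⟨1, by omega⟩
  have hij : i ≠ j := fun h => by simpa [i, j] using congrArg Fin.val h
  have o1 : orderOf (e.symm (Pi.mulSingle i z)) = 2 := by
    rw [MulEquiv.orderOf_eq, ← hz]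
    exact orderOf_injective (MonoidHom.mulSingle (fun _ : Fin m => T) i)
      (Pi.mulSingle_injective (M := fun _ : Fin m => T) i) z
  have o2 : orderOf (e.symm (Pi.mulSingle j s)) = orderOf s := by
    rw [MulEquiv.orderOf_eq]
    exact orderOf_injective (MonoidHom.mulSingle (fun _ : Fin m => T) j)
      (Pi.mulSingle_injective (M := fun _ : Fin m => T) j) s
  have := (hS.sub M).mul_le (a := e.symm (Pi.mulSingle i z)) (b := e.symm (Pi.mulSingle j s))
    (by rw [← map_mul, ← map_mul, (Pi.mulSingle_commute (f := fun _ : Fin m => T) hij z s).eq])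
    (by rw [o1, o2]; exact (Nat.coprime_primes Nat.prime_two hs).2 (by omega))
  rw [o1, o2] at this
  omega

/-- The action on a self-centralising normal subgroup. -/
theorem setup {H : Type*} [Group H] (N : Subgroup H) [N.Normal] {A : Type*} [Group A] (e : N ≃* A)
    (hC : centralizer (N : Set H) = ⊥) :
    ∃ θ : H →* MulAut A, Function.Injective θ ∧ (∀ n : N, θ n = MulAut.conj (e n)) ∧
      ∀ (h : H) (n : N), θ h (e n) = e n → (n : H) * h = h * n := by
  have key : ∀ (h : H) (n : N),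
      ((MulAut.congr e).toMonoidHom.comp MulAut.conjNormal) h (e n) = e (MulAut.conjNormal h n) := by
    intro h n
    simp [MulAut.congr]
  have k2 : ∀ (h : H) (n : N),
      ((MulAut.congr e).toMonoidHom.comp MulAut.conjNormal) h (e n) = e n → (n : H) * h = h * n := by
    intro h n hn
    rw [key] at hn
    have := congrArg Subtype.val (e.injective hn)
    rw [MulAut.conjNormal_apply] at this
    calc (n : H) * h = (h * n * h⁻¹) * h := by rw [this]
      _ = h * n := by group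
  refine ⟨(MulAut.congr e).toMonoidHom.comp MulAut.conjNormal, ?_, fun n => ?_, k2⟩
  · rw [injective_iff_map_eq_one]
    intro h hh
    rw [← mem_bot, ← hC]
    intro n hn
    exact k2 h ⟨n, hn⟩ (by rw [hh]; rfl)
  · ext a
    obtain ⟨b, rfl⟩ := e.surjective a
    rw [key, MulAut.conj_apply, ← map_inv, ← map_mul, ← map_mul]
    congr 1

section
variable {n : ℕ}

abbrev cN (n : ℕ) : Perm (Fin n) →* MulAut (alternatingGroup (Fin n)) := MulAut.conjNormal

theorem conj_eq (σ : alternatingGroup (Fin n)) : MulAut.conj σ = cN n (σ : Perm (Fin n)) := by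
  ext x; simp

theorem iso_of {H : Type*} [Group H] (h4 : 4 ≤ n) (θ : H →* MulAut (alternatingGroup (Fin n)))
    (hθ : Function.Injective θ) (h1 : ∀ h, θ h ∈ (cN n).range) (h2 : ∀ π, cN n π ∈ θ.range) :
    Nonempty (H ≃* Perm (Fin n)) := by
  have hr : θ.range = (cN n).range := by
    apply le_antisymm
    · rintro _ ⟨h, rfl⟩; exact h1 h
    · rintro _ ⟨π, rfl⟩; exact h2 π
  exact ⟨(MonoidHom.ofInjective hθ).trans ((MulEquiv.subgroupCongr hr).trans
    (MonoidHom.ofInjective (H86.conjNormal_injective (α := Fin n) (by simpa using h4))).symm)⟩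

theorem all_of_odd {K : Subgroup (MulAut (alternatingGroup (Fin n)))}
    (h1 : ∀ σ : alternatingGroup (Fin n), cN n σ ∈ K) {τ : Perm (Fin n)}
    (hτ : τ ∉ alternatingGroup (Fin n)) (h2 : cN n τ ∈ K) (π : Perm (Fin n)) : cN n π ∈ K := by
  by_cases hπ : π ∈ alternatingGroup (Fin n)
  · exact h1 ⟨π, hπ⟩
  have : τ⁻¹ * π ∈ alternatingGroup (Fin n) := by
    rw [mem_alternatingGroup] at *
    rw [map_mul, sign_inv]
    rcases Int.units_eq_one_or (sign τ) with a | a
    · exact absurd a hτ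
    rcases Int.units_eq_one_or (sign π) with b | b
    · exact absurd b hπ
    rw [a, b]; rfl
  have h3 := K.mul_mem h2 (h1 ⟨_, this⟩)
  rwa [← map_mul, mul_inv_cancel_left] at h3

end

theorem jobAUT5 : JobAUT5.{u} := by
  intro H _ _ N hN ⟨e⟩ hC
  obtain ⟨θ, hθ, hn, -⟩ := setup N e hC
  have h1 : ∀ h, θ h ∈ (cN 5).range := fun h =>
    H86.exists_conjNormal_eq (by simp) _ (H86.isThreeCycle_aut (by simp) _)
  have h2 : ∀ σ : alternatingGroup (Fin 5), cN 5 σ ∈ θ.range := fun σ =>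
    ⟨e.symm σ, by rw [hn, e.apply_symm_apply, conj_eq]⟩
  by_cases hodd : ∃ τ ∉ alternatingGroup (Fin 5), cN 5 τ ∈ θ.range
  · obtain ⟨τ, hτ, h3⟩ := hodd
    exact Or.inr (iso_of (by norm_num) θ hθ h1 (all_of_odd h2 hτ h3))
  left
  rw [eq_top_iff]
  intro h _
  obtain ⟨π, hπ⟩ := h1 h
  have hπA : π ∈ alternatingGroup (Fin 5) := by
    by_contra hc
    exact hodd ⟨π, hc, h, hπ.symm⟩
  have : θ (e.symm ⟨π, hπA⟩ : N) = θ h := by rw [hn, e.apply_symm_apply, conj_eq, ← hπ]
  exact hθ this ▸ (e.symm ⟨π, hπA⟩).2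

theorem a6_pow : ∀ g : Perm (Fin 6), sign g = 1 → g ^ 3 = 1 ∨ g ^ 4 = 1 ∨ g ^ 5 = 1 := by
  decide +kernel

theorem ct5 {g : Perm (Fin 6)} (hg : orderOf g = 5) : g.cycleType = {5} := by
  obtain ⟨k, hk⟩ := cycleType_prime_order (σ := g) (hg ▸ Nat.prime_five)
  have := g.sum_cycleType ▸ Finset.card_le_univ g.support
  rw [hk, hg, Multiset.sum_replicate, Fintype.card_fin, smul_eq_mul] at this
  have : k = 0 := by omega
  rw [hk, this, hg]; rfl

theorem jobAUT6 : JobAUT6.{u} := by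
  intro H _ _ N hS hN ⟨e⟩ hC ⟨w, hw⟩
  obtain ⟨θ, hθ, hn, hcm⟩ := setup N e hC
  have hc := H86.conjNormal_injective (α := Fin 6) (by simp)
  have h2 : ∀ σ : alternatingGroup (Fin 6), cN 6 σ ∈ θ.range := fun σ =>
    ⟨e.symm σ, by rw [hn, e.apply_symm_apply, conj_eq]⟩
  have hsq : ∀ h : H, θ (h ^ 2) ∈ (cN 6).range := fun h => by
    rw [map_pow]; exact Cfsg.Agent.S4231.sq_mem (by norm_num) _
  obtain ⟨τ, hτ⟩ := hsq w
  have oτ : orderOf τ = 3 := by
    rw [← orderOf_injective (cN 6) hc, hτ, orderOf_injective θ hθ, orderOf_pow' _ two_ne_zero, hw]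
    rfl
  have hτA : τ ∈ alternatingGroup (Fin 6) := by
    rw [mem_alternatingGroup]
    have h3 : sign τ ^ 3 = 1 := by rw [← map_pow, ← oτ, pow_orderOf_eq_one, map_one]
    rcases Int.units_eq_one_or (sign τ) with a | a
    · exact a
    · rw [a] at h3; exact absurd h3 (by decide)
  have hfix : θ (w ^ 3) ⟨τ, hτA⟩ = ⟨τ, hτA⟩ := by
    apply Subtype.ext
    apply hc
    change cN 6 _ = cN 6 _
    rw [← conj_eq, ← conj_eq ⟨τ, hτA⟩]
    have e1 : MulAut.conj (θ (w ^ 3) ⟨τ, hτA⟩) =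
        θ (w ^ 3) * MulAut.conj (⟨τ, hτA⟩ : alternatingGroup (Fin 6)) * (θ (w ^ 3))⁻¹ := by
      ext1 a
      simp only [MulAut.conj_apply, MulAut.mul_apply, map_mul, map_inv, MulAut.apply_inv_self]
    rw [e1, conj_eq]
    change θ (w ^ 3) * cN 6 τ * (θ (w ^ 3))⁻¹ = cN 6 τ
    rw [hτ, ← map_inv, ← map_mul, ← map_mul]
    congr 1
    group
  have h3 : θ (w ^ 3) ∈ (cN 6).range := H86.exists_conjNormal_eq (by simp) _
    (H86.isThreeCycle_aut_six (by simp) _ ((Subgroup.orderOf_coe _).symm.trans oτ) hfix)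
  have hw1 : θ w ∈ (cN 6).range := by
    have := (cN 6).range.mul_mem h3 ((cN 6).range.inv_mem (hsq w))
    rwa [← map_inv, ← map_mul, show w ^ 3 * (w ^ 2)⁻¹ = w by group] at this
  obtain ⟨ρ, hρ⟩ := hw1
  have oρ : orderOf ρ = 6 := by
    rw [← orderOf_injective (cN 6) hc, hρ, orderOf_injective θ hθ, hw]
  have hρA : ρ ∉ alternatingGroup (Fin 6) := fun h => by
    rcases a6_pow ρ h with a | a | a <;>
      exact absurd (oρ ▸ orderOf_dvd_of_pow_eq_one a) (by norm_num)
  have hall := all_of_odd h2 hρA ⟨w, hρ.symm⟩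
  refine iso_of (by norm_num) θ hθ (fun h => ?_) hall
  haveI : Fact (Nat.Prime 5) := ⟨Nat.prime_five⟩
  obtain ⟨σ, hσ⟩ := exists_prime_orderOf_dvd_card' (G := alternatingGroup (Fin 6)) 5 (by
    rw [nat_card_alternatingGroup]; simp [Nat.factorial])
  have o1 : orderOf (θ h σ) = 5 := by rw [(θ h).orderOf_eq, hσ]
  obtain ⟨π, hπ⟩ := isConj_iff.1 (isConj_iff_cycleType_eq.2
    ((ct5 ((Subgroup.orderOf_coe _).trans o1)).trans (ct5 ((Subgroup.orderOf_coe _).trans hσ)).symm))
  obtain ⟨b, hb⟩ := hall π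
  have hk : θ (b * h) σ = σ := by
    rw [map_mul, hb]
    exact Subtype.ext (by simpa using hπ)
  have hcom := hcm (b * h) (e.symm σ) (by rw [e.apply_symm_apply, hk])
  have on : orderOf ((e.symm σ : N) : H) = 5 := by
    rw [Subgroup.orderOf_coe, e.symm.orderOf_eq, hσ]
  have hodd : Odd (orderOf (b * h)) := by
    by_contra he
    obtain ⟨j, hj⟩ := Nat.not_odd_iff_even.1 he
    have hpos := orderOf_pos (b * h)
    have o2 : orderOf ((b * h) ^ j) = 2 := by
      rw [orderOf_pow' _ (by omega), hj, ← two_mul, Nat.gcd_mul_left_left,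
        Nat.mul_div_cancel _ (by omega)]
    have := hS.mul_le (a := ((e.symm σ : N) : H)) (b := (b * h) ^ j)
      ((show Commute _ _ from hcom).pow_right j).eq (by rw [on, o2]; norm_num)
    rw [on, o2] at this
    omega
  obtain ⟨j, hj⟩ := hodd
  have hbh : b * h = (((b * h) ^ j) ^ 2)⁻¹ := by
    rw [eq_inv_iff_mul_eq_one, ← pow_mul, ← pow_succ', mul_comm j, ← hj, pow_orderOf_eq_one]
  have h4 : θ (b * h) ∈ (cN 6).range := by
    rw [hbh, map_inv]; exact (cN 6).range.inv_mem (hsq _)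
  rw [map_mul, hb] at h4
  exact ((cN 6).range.mul_mem_cancel_left ⟨π, rfl⟩).1 h4

end H95.OC
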