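import Cfsg.Agent.H21.TEC
import Cfsg.Agent.H88.TEBase

/-! TE2, job S3 (blueprints/TE2.md): the action of `C(Z) ⊓ N(P)` on `P / Z`. -/

set_option autoImplicit false
set_option linter.unusedSectionVars false
set_option maxRecDepth 100000
set_option synthInstance.maxSize 4096

namespace H95.TE

open Subgroup Cfsg H98 H1.Gold H86.L34 H88.AS H88.TE H21.TE
open H6 (F4)

universe u

/-- Images of the four basis vectors. -/
abbrev M4 : Type := V4 × V4 × V4 × V4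

def d4 (x : V4) (a b c d : F4) : F4 :=
  ((x.1.mul a).add (x.2.1.mul b)).add ((x.2.2.1.mul c).add (x.2.2.2.mul d))

def ap (m : M4) (x : V4) : V4 :=
  (d4 x m.1.1 m.2.1.1 m.2.2.1.1 m.2.2.2.1, d4 x m.1.2.1 m.2.1.2.1 m.2.2.1.2.1 m.2.2.2.2.1,
    d4 x m.1.2.2.1 m.2.1.2.2.1 m.2.2.1.2.2.1 m.2.2.2.2.2.1,
    d4 x m.1.2.2.2 m.2.1.2.2.2 m.2.2.1.2.2.2 m.2.2.2.2.2.2)

def fc {β : Type} (a : F4) (k : F4 → β) : β :=
  match a with | .o => k .o | .i => k .i | .w => k .w | .v => k .v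

def fv {β : Type} (x : V4) (k : V4 → β) : β :=
  fc x.1 fun a => fc x.2.1 fun b => fc x.2.2.1 fun c => fc x.2.2.2 fun d => k (a, b, c, d)

def mul (m n : M4) : M4 := fv (ap m n.1) fun a => fv (ap m n.2.1) fun b =>
  fv (ap m n.2.2.1) fun c => fv (ap m n.2.2.2) fun d => (a, b, c, d)

def mat (φ : V4 → V4) : M4 := (φ (1, 0, 0, 0), φ (0, 1, 0, 0), φ (0, 0, 1, 0), φ (0, 0, 0, 1))

section
open H6.F4
def one : M4 := ((i,o,o,o),(o,i,o,o),(o,o,i,o),(o,o,o,i))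
def gm : M4 := ((i,o,o,o),(o,i,o,o),(o,o,o,i),(o,o,i,o))
def g0 : M4 := ((o,i,o,o),(i,o,o,o),(o,o,i,o),(o,o,o,i))
def rh (ν : F4) : M4 := ((ν,o,o,o),(o,ν.mul ν,o,o),(o,o,i,o),(o,o,o,i))
def mw (t : Bool × F4) : M4 :=
  if t.1 then ((i,o,o,t.2),(o,i,o,t.2.mul t.2),(t.2.mul t.2,t.2,i,t.2.mul (t.2.mul t.2)),(o,o,o,i))
  else ((i,o,t.2,o),(o,i,t.2.mul t.2,o),(o,o,i,o),(t.2.mul t.2,t.2,t.2.mul (t.2.mul t.2),i))
def L : List M4 :=
  [((i,o,o,o),(o,i,o,o),(o,o,i,o),(o,o,o,i)), ((i,o,i,o),(o,i,i,o),(o,o,i,o),(i,i,i,i)),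
  ((i,o,w,o),(o,i,v,o),(o,o,i,o),(v,w,i,i)), ((i,o,v,o),(o,i,w,o),(o,o,i,o),(w,v,i,i)),
  ((i,o,o,i),(o,i,o,i),(i,i,i,i),(o,o,o,i)), ((i,o,o,w),(o,i,o,v),(v,w,i,i),(o,o,o,i)),
  ((i,o,o,v),(o,i,o,w),(w,v,i,i),(o,o,o,i)), ((o,i,i,o),(i,o,i,o),(i,i,i,i),(o,o,i,o)),
  ((w,w,i,v),(v,v,i,w),(v,w,i,i),(w,v,i,i)), ((v,v,i,w),(w,w,i,v),(w,v,i,i),(v,w,i,i)),
  ((v,w,w,v),(v,w,v,w),(i,i,i,i),(w,v,i,i)), ((o,v,w,o),(w,o,v,o),(v,w,i,i),(o,o,i,o)),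
  ((w,i,w,i),(i,v,v,i),(w,v,i,i),(i,i,i,i)), ((w,v,v,w),(w,v,w,v),(i,i,i,i),(v,w,i,i)),
  ((v,i,v,i),(i,w,w,i),(v,w,i,i),(i,i,i,i)), ((o,w,v,o),(v,o,w,o),(w,v,i,i),(o,o,i,o)),
  ((o,i,o,i),(i,o,o,i),(o,o,o,i),(i,i,i,i)), ((w,w,v,i),(v,v,w,i),(w,v,i,i),(v,w,i,i)),
  ((v,v,w,i),(w,w,v,i),(v,w,i,i),(w,v,i,i)), ((v,w,v,w),(v,w,w,v),(w,v,i,i),(i,i,i,i)),
  ((o,v,o,w),(w,o,o,v),(o,o,o,i),(v,w,i,i)), ((w,i,i,w),(i,v,i,v),(i,i,i,i),(w,v,i,i)),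
  ((w,v,w,v),(w,v,v,w),(v,w,i,i),(i,i,i,i)), ((v,i,i,v),(i,w,i,w),(i,i,i,i),(v,w,i,i)),
  ((o,w,o,v),(v,o,o,w),(o,o,o,i),(w,v,i,i)), ((o,i,o,o),(i,o,o,o),(o,o,o,i),(o,o,i,o)),
  ((o,i,w,o),(i,o,v,o),(w,v,i,i),(o,o,i,o)), ((o,i,v,o),(i,o,w,o),(v,w,i,i),(o,o,i,o)),
  ((i,i,w,v),(i,i,v,w),(w,v,i,i),(v,w,i,i)), ((o,v,o,v),(w,o,o,w),(o,o,o,i),(i,i,i,i)),
  ((v,o,o,v),(o,w,o,w),(i,i,i,i),(o,o,o,i)), ((i,i,v,w),(i,i,w,v),(v,w,i,i),(w,v,i,i)),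
  ((w,o,o,w),(o,v,o,v),(i,i,i,i),(o,o,o,i)), ((o,w,o,w),(v,o,o,v),(o,o,o,i),(i,i,i,i)),
  ((o,i,o,v),(i,o,o,w),(o,o,o,i),(v,w,i,i)), ((i,v,i,v),(w,i,i,w),(w,v,i,i),(i,i,i,i)),
  ((w,o,o,v),(o,v,o,w),(v,w,i,i),(o,o,o,i)), ((o,v,i,o),(w,o,i,o),(w,v,i,i),(o,o,i,o)),
  ((o,v,o,o),(w,o,o,o),(o,o,o,i),(o,o,i,o)), ((o,v,v,o),(w,o,w,o),(i,i,i,i),(o,o,i,o)),
  ((v,o,o,i),(o,w,o,i),(v,w,i,i),(o,o,o,i)), ((i,v,v,i),(w,i,w,i),(i,i,i,i),(w,v,i,i)),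
  ((o,w,o,i),(v,o,o,i),(o,o,o,i),(v,w,i,i)), ((o,i,o,w),(i,o,o,v),(o,o,o,i),(w,v,i,i)),
  ((v,o,o,w),(o,w,o,v),(w,v,i,i),(o,o,o,i)), ((i,w,i,w),(v,i,i,v),(v,w,i,i),(i,i,i,i)),
  ((w,o,o,i),(o,v,o,i),(w,v,i,i),(o,o,o,i)), ((o,v,o,i),(w,o,o,i),(o,o,o,i),(w,v,i,i)),
  ((i,w,w,i),(v,i,v,i),(i,i,i,i),(v,w,i,i)), ((o,w,i,o),(v,o,i,o),(v,w,i,i),(o,o,i,o)),
  ((o,w,w,o),(v,o,v,o),(i,i,i,i),(o,o,i,o)), ((o,w,o,o),(v,o,o,o),(o,o,o,i),(o,o,i,o)),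
  ((v,o,v,o),(o,w,w,o),(o,o,i,o),(i,i,i,i)), ((w,o,w,o),(o,v,v,o),(o,o,i,o),(i,i,i,i)),
  ((w,o,v,o),(o,v,w,o),(o,o,i,o),(v,w,i,i)), ((v,o,i,o),(o,w,i,o),(o,o,i,o),(v,w,i,i)),
  ((v,o,w,o),(o,w,v,o),(o,o,i,o),(w,v,i,i)), ((w,o,i,o),(o,v,i,o),(o,o,i,o),(w,v,i,i)),
  ((v,o,o,o),(o,w,o,o),(o,o,i,o),(o,o,o,i)), ((w,o,o,o),(o,v,o,o),(o,o,i,o),(o,o,o,i))]
def Wd : List (List (Bool × F4)) :=
  [[], [(false,i)], [(false,w)],
  [(false,v)], [(true,i)], [(true,w)],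
  [(true,v)], [(true,i),(false,i)], [(true,w),(false,i)],
  [(true,v),(false,i)], [(true,i),(false,w)], [(true,w),(false,w)],
  [(true,v),(false,w)], [(true,i),(false,v)], [(true,w),(false,v)],
  [(true,v),(false,v)], [(false,i),(true,i)], [(false,w),(true,i)],
  [(false,v),(true,i)], [(false,i),(true,w)], [(false,w),(true,w)],
  [(false,v),(true,w)], [(false,i),(true,v)], [(false,w),(true,v)],
  [(false,v),(true,v)], [(false,i),(true,i),(false,i)], [(false,w),(true,i),(false,i)],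
  [(false,v),(true,i),(false,i)], [(false,i),(true,w),(false,i)], [(false,w),(true,w),(false,i)],
  [(false,v),(true,w),(false,i)], [(false,i),(true,v),(false,i)], [(false,w),(true,v),(false,i)],
  [(false,v),(true,v),(false,i)], [(false,i),(true,i),(false,w)], [(false,w),(true,i),(false,w)],
  [(false,v),(true,i),(false,w)], [(false,i),(true,w),(false,w)], [(false,w),(true,w),(false,w)],
  [(false,v),(true,w),(false,w)], [(false,i),(true,v),(false,w)], [(false,w),(true,v),(false,w)],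
  [(false,v),(true,v),(false,w)], [(false,i),(true,i),(false,v)], [(false,w),(true,i),(false,v)],
  [(false,v),(true,i),(false,v)], [(false,i),(true,w),(false,v)], [(false,w),(true,w),(false,v)],
  [(false,v),(true,w),(false,v)], [(false,i),(true,v),(false,v)], [(false,w),(true,v),(false,v)],
  [(false,v),(true,v),(false,v)], [(true,v),(false,w),(true,i)], [(true,w),(false,v),(true,i)],
  [(true,v),(false,i),(true,w)], [(true,i),(false,v),(true,w)], [(true,w),(false,i),(true,v)],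
  [(true,i),(false,w),(true,v)], [(true,i),(false,v),(true,w),(false,i)], [(true,i),(false,w),(true,v),(false,i)]]
end

def L2 : List M4 := L ++ L.map fun m => mul m gm
def ev (w : List (Bool × F4)) : M4 := w.foldr (fun t m => mul (mw t) m) one
def F : List F4 := [.o, .i, .w, .v]
def e4 : F4 → F4 → Bool
  | .o, .o => true | .i, .i => true | .w, .w => true | .v, .v => true | _, _ => false
def e16 (x y : V4) : Bool := e4 x.1 y.1 && e4 x.2.1 y.2.1 && e4 x.2.2.1 y.2.2.1 && e4 x.2.2.2 y.2.2.2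
def em (m n : M4) : Bool :=
  e16 m.1 n.1 && e16 m.2.1 n.2.1 && e16 m.2.2.1 n.2.2.1 && e16 m.2.2.2 n.2.2.2
/-- The order is three or five. -/
def od (n : M4) : Bool :=
  !em n one && (em (mul n (mul n n)) one || em (mul n (mul (mul n n) (mul n n))) one)
def xs (x : V4) : V4 := (x.2.1.mul x.2.1, x.1.mul x.1, x.2.2.1.mul x.2.2.1, x.2.2.2.mul x.2.2.2)

theorem mem_F (a : F4) : a ∈ F := by cases a <;> simp [F]
theorem e4_iff : ∀ a b, e4 a b = true ↔ a = b := by decide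
theorem e16_iff (x y : V4) : e16 x y = true ↔ x = y := by simp [e16, e4_iff, Prod.ext_iff, and_assoc]
theorem em_iff (m n : M4) : em m n = true ↔ m = n := by
  simp only [em, e16_iff, Bool.and_eq_true, and_assoc]; simp only [← Prod.ext_iff]

theorem c_w : ∀ m ∈ L, ∃ w, ev w = m := fun m hm => by
  have : (L.all fun m => Wd.any fun w => em (ev w) m) = true := by decide +kernel
  simp only [List.all_eq_true, List.any_eq_true, em_iff] at this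
  exact (this m hm).imp fun _ => And.right

theorem c_gen (b : Bool) (a : F4) : ∀ m ∈ L, mul (mw (b, a)) m ∈ L := fun m hm => by
  have : ([false, true].all fun b => F.all fun a => L.all fun m =>
    L.any fun n => em n (mul (mw (b, a)) m)) = true := by decide +kernel
  simp only [List.all_eq_true, List.any_eq_true, em_iff] at this
  obtain ⟨n, hn, e⟩ := this b (by cases b <;> simp) a (mem_F a) m hm
  exact e ▸ hn

theorem c_one : one ∈ L := List.mem_cons_self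

theorem c_inv : ∀ m ∈ L2, mul m m = one → ∃ c ∈ L, mul c m = c ∨
    (∃ a ≠ 0, mul c m = mul (mw (false, a)) c) ∨ mul c m = mul gm c := fun m hm e => by
  have : (L2.all fun m => !em (mul m m) one || L.any fun c => em (mul c m) c ||
    (F.any fun a => !e4 a 0 && em (mul c m) (mul (mw (false, a)) c)) || em (mul c m) (mul gm c)) =
      true := by decide +kernel
  simp only [List.all_eq_true, List.any_eq_true, Bool.or_eq_true, Bool.and_eq_true, Bool.not_eq_true',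
    ← Bool.not_eq_true, em_iff, e4_iff, mem_F, true_and, or_assoc] at this
  exact (this m hm).resolve_left fun k => k e

theorem c_stab : ∀ m ∈ L2, (∃ a ν, ν ≠ 0 ∧ (m = mul (mw (false, a)) (rh ν) ∨
    m = mul (mw (false, a)) (mul (rh ν) g0))) ∨ ((∀ a, m.2.2.1 ≠ (0, 0, a, 0)) ∧
      ∃ a, od (mul (mul m (mw (false, a))) (mul m (mw (false, a)))) = true) := by
  have : (L2.all fun m => (F.any fun a => F.any fun ν => !e4 ν 0 &&
    (em m (mul (mw (false, a)) (rh ν)) || em m (mul (mw (false, a)) (mul (rh ν) g0)))) ||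
    ((F.all fun a => !e16 m.2.2.1 (0, 0, a, 0)) &&
      F.any fun a => od (mul (mul m (mw (false, a))) (mul m (mw (false, a)))))) = true := by
    decide +kernel
  simpa only [List.all_eq_true, List.any_eq_true, Bool.or_eq_true, Bool.and_eq_true, Bool.not_eq_true',
    ← Bool.not_eq_true, em_iff, e4_iff, e16_iff, mem_F, true_and, forall_const] using this

theorem c_rho : ∀ ν ≠ 0, rh ν ∈ L := fun ν hν => by
  have : (F.all fun ν => e4 ν 0 || L.any fun n => em n (rh ν)) = true := by decide +kernel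
  simp only [List.all_eq_true, List.any_eq_true, Bool.or_eq_true, em_iff, e4_iff] at this
  obtain ⟨n, hn, e⟩ := (this ν (mem_F ν)).resolve_left hν
  exact e ▸ hn

theorem c_o2 : ∀ m ∈ L2, m = one ∨ ∃ c ∈ L, mul c c = one ∧ od (mul m (mul c (mul m c))) = true := by
  have : (L2.all fun m => em m one ||
    L.any fun c => em (mul c c) one && od (mul m (mul c (mul m c)))) = true := by decide +kernel
  simpa only [List.all_eq_true, List.any_eq_true, Bool.or_eq_true, Bool.and_eq_true, em_iff] using this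

theorem c_xs : ∀ m ∈ L2, m.2.1 = xs m.1 ∧ m.2.2.1 = xs m.2.2.1 ∧ m.2.2.2 = xs m.2.2.2 := by
  have : (L2.all fun m => e16 m.2.1 (xs m.1) && (e16 m.2.2.1 (xs m.2.2.1) &&
    e16 m.2.2.2 (xs m.2.2.2))) = true := by decide +kernel
  simpa only [List.all_eq_true, Bool.and_eq_true, e16_iff] using this

theorem fc_eq {β : Type} (a : F4) (k : F4 → β) : fc a k = k a := by cases a <;> rfl

theorem fv_eq {β : Type} (x : V4) (k : V4 → β) : fv x k = k x := by simp only [fv, fc_eq]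

theorem ap_eq (m : M4) (x : V4) :
    ap m x = x.1 • m.1 + x.2.1 • m.2.1 + (x.2.2.1 • m.2.2.1 + x.2.2.2 • m.2.2.2) := rfl

/-- The linear map of a matrix. -/
def lm (m : M4) : V4 →ₗ[F4] V4 where
  toFun := ap m
  map_add' x y := by simp only [ap_eq, Prod.fst_add, Prod.snd_add, add_smul]; abel
  map_smul' c x := by
    simp only [ap_eq, Prod.smul_fst, Prod.smul_snd, smul_eq_mul, mul_smul, smul_add, RingHom.id_apply]

theorem ap_mul (m n : M4) : ap (mul m n) = ap m ∘ ap n := funext fun x => by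
  change _ = lm m (ap n x)
  rw [ap_eq n, map_add, map_add, map_add, map_smul, map_smul, map_smul, map_smul]
  simp only [mul, fv_eq]
  rfl

theorem ap_inj {m n : M4} (e : ap m = ap n) : m = n := by
  have h1 := congrFun e (1, 0, 0, 0)
  have h2 := congrFun e (0, 1, 0, 0)
  have h3 := congrFun e (0, 0, 1, 0)
  have h4 := congrFun e (0, 0, 0, 1)
  simp only [ap_eq, one_smul, zero_smul, add_zero, zero_add] at h1 h2 h3 h4
  exact Prod.ext h1 (Prod.ext h2 (Prod.ext h3 h4))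

theorem ap_one : ap one = id := funext (by decide +kernel)
theorem ap_gm : ap gm = Gm := funext (by decide +kernel)
theorem ap_g0 : ap g0 = G0 := funext (by decide +kernel)
theorem ap_rh (ν : F4) : ap (rh ν) = Rho ν := funext (by revert ν; decide +kernel)
theorem ap_w₁ (a : F4) : ap (mw (false, a)) = W₁ a := funext (by revert a; decide +kernel)
theorem ap_w₂ (a : F4) : ap (mw (true, a)) = W₂ a := funext (by revert a; decide +kernel)

theorem xs_eq (x : V4) : xs x = Xs x := by simp only [xs, Xs, pow_two]; rfl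

theorem ap_xs {m : M4} (hm : m ∈ L2) (x : V4) : ap m (Xs x) = Xs (ap m x) := by
  obtain ⟨h1, h2, h3⟩ := c_xs m hm
  have a : ∀ x y, Xs (x + y) = Xs x + Xs y := fun x y => by
    simp only [Xs, Prod.fst_add, Prod.snd_add, Prod.mk_add_mk, add_sq, F4.two_eq, zero_mul, add_zero]
  have b : ∀ (c : F4) x, Xs (c • x) = c ^ 2 • Xs x := fun c x => by
    simp only [Xs, Prod.smul_fst, Prod.smul_snd, Prod.smul_mk, smul_eq_mul, mul_pow]
  have c : ∀ x, Xs (Xs x) = x := fun x => by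
    have : ∀ t : F4, (t ^ 2) ^ 2 = t := by decide
    simp only [Xs, this]
  rw [xs_eq] at h1 h2 h3
  rw [ap_eq m x, a, a, a, b, b, b, b, ← h2, ← h3, ← h1, h1, c, ← h1, ap_eq, add_comm (x.1 ^ 2 • m.2.1)]
  rfl

theorem fix_W : ∀ a ≠ 0, ∀ x, W₁ a x + x = 0 → ∃ y, W₁ a y + x + y = 0 := fun a ha x e => by
  obtain ⟨c, d, f, b⟩ := x
  have k : ∀ a ≠ 0, ∀ c d f b : F4, c + a ^ 2 * b + c = 0 → f + c * a + a ^ 2 * d + a ^ 3 * b + f = 0 →
      W₁ a (a ^ 2 * f + a * (a ^ 3 * (a ^ 2 * d)) * a, 0, 0, a ^ 2 * d) + (c, d, f, b) +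
        (a ^ 2 * f + a * (a ^ 3 * (a ^ 2 * d)) * a, 0, 0, a ^ 2 * d) = 0 := by decide +kernel
  exact ⟨_, k a ha c d f b (congrArg (·.1) e) (congrArg (·.2.2.1) e)⟩

variable {G : Type u} [Group G] [Finite G] {s : SD G} {g y t : G} {φ ψ χ : V4 → V4} {m : M4}
  (h : Sz s)
include h

theorem act_cj (hy : y ∈ s.M) (hg : g ∈ cen s.Z) (h1 : s.Act y φ) (h2 : s.Act g ψ)
    (e : φ ∘ ψ = χ ∘ φ) : s.Act (y * g * y⁻¹) χ := fun x => by
  obtain ⟨x', e', k⟩ := (mem_P h).1 (conj_mem_of_mem_normalizer' hy.2 (p_mem x 0))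
  obtain ⟨e1, k1⟩ := act_all h (nZ hy.1) h1 x' e'
  obtain ⟨e2, k2⟩ := act_all h (nZ (mul_mem hy.1 hg)) (act_mul h (nZ hy.1) h1 h2) x' e'
  have k3 : s.p x 0 = s.p (φ x') e1 := by rw [← k1, k]; group
  rw [e, Function.comp_apply, ← (p_ext h k3).1] at k2
  exact ⟨e2, by rw [← k2, k]; group⟩

theorem act_one (hg : g ∈ s.Z) : s.Act g id := by
  obtain ⟨e, rfl⟩ := (mem_Z h).1 hg
  exact p_z h e ▸ act_p h 0 e

omit [Finite G] h in
theorem w₁_Y (a : F4) : s.w₁ a ∈ s.Y := mem_sup_left (subset_closure ⟨a, .inl rfl⟩)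

theorem gen_Y (b : Bool) (a : F4) : ∃ y ∈ s.Y, s.Act y (ap (mw (b, a))) := by
  cases b
  exacts [⟨_, w₁_Y a, ap_w₁ a ▸ act_w₁ h a⟩,
    ⟨_, mem_sup_left (subset_closure ⟨a, .inr rfl⟩), ap_w₂ a ▸ act_w₂ h a⟩]

theorem L_Y (hm : m ∈ L) : ∃ y ∈ s.Y, s.Act y (ap m) := by
  obtain ⟨w, rfl⟩ := c_w m hm
  clear hm
  induction w with
  | nil => exact ⟨1, one_mem _, ap_one ▸ act_one h (one_mem _)⟩
  | cons t w ih =>
    obtain ⟨y, hy, k⟩ := ih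
    obtain ⟨y', hy', k'⟩ := gen_Y h t.1 t.2
    exact ⟨_, mul_mem hy' hy, (ap_mul _ _).symm ▸ act_mul h (nZ (Y_le h hy').1.1) k' k⟩

theorem Y_L (hy : y ∈ s.Y) : ∃ m ∈ L, s.Act y (ap m) := by
  have key : ∀ t, (t ∈ {g | ∃ y, s.w₁ y = g ∨ s.w₂ y = g} ∪ (s.P : Set G) ∨
      t⁻¹ ∈ {g | ∃ y, s.w₁ y = g ∨ s.w₂ y = g} ∪ (s.P : Set G)) → ∀ y, (∃ m ∈ L, s.Act y (ap m)) →
      ∃ m ∈ L, s.Act (t * y) (ap m) := by
    rintro t ht y ⟨m, hm, k⟩
    have a : (∃ a, s.w₁ a = t ∨ s.w₂ a = t) ∨ t ∈ s.P := by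
      rcases ht with ht | ⟨a, e | e⟩ | ht
      · exact ht
      · exact .inl ⟨a, .inl (by rw [← inv_inv t, ← e, inv_eq_of_mul_eq_one_right (w₁_sq h a)])⟩
      · exact .inl ⟨a, .inr (by rw [← inv_inv t, ← e, inv_eq_of_mul_eq_one_right (w₂_sq h a)])⟩
      · exact .inr (inv_mem_iff.1 ht)
    rcases a with ⟨a, rfl | rfl⟩ | a
    · exact ⟨_, c_gen false a m hm, by
        rw [ap_mul, ap_w₁]; exact act_mul h (nZ (cenV_le (w₁_cenV h a))) (act_w₁ h a) k⟩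
    · exact ⟨_, c_gen true a m hm, by
        rw [ap_mul, ap_w₂]; exact act_mul h (nZ (w₂_cenZ h a)) (act_w₂ h a) k⟩
    · obtain ⟨x, e, rfl⟩ := (mem_P h).1 a
      exact ⟨m, hm, act_mul h (nZ (P_cenZ h a)) (act_p h x e) k⟩
  rw [SD.Y, ← closure_eq s.P, ← Subgroup.closure_union] at hy
  induction hy using closure_induction_left with
  | one => exact ⟨one, c_one, ap_one ▸ act_one h (one_mem _)⟩
  | mul_left t ht y _ ih => exact key t (.inl ht) y ih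
  | inv_mul_cancel t ht y _ ih => exact key t⁻¹ (.inr (by rwa [inv_inv])) y ih

/-- A `2`-element does not act with order three or five. -/
theorem not_od (hg : g ∈ cen s.Z) (h1 : s.Act g (ap m)) (h2 : ∃ k, g ^ 2 ^ k = 1) : od m ≠ true := by
  obtain ⟨k, h2⟩ := h2
  have a : (ap m)^[2 ^ k] = id :=
    act_uniq h (act_pow h (nZ hg) h1 _) (h2 ▸ act_one h (one_mem _))
  have b : ∀ n, Odd n → (ap m)^[n] = id → m = one := fun n hn e => ap_inj (funext fun x => by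
    have := Function.IsPeriodicPt.gcd (f := ap m) (x := x) (congrFun e x) (congrFun a x)
    rw [(Nat.coprime_two_right.2 hn).pow_right k] at this
    rw [ap_one]; exact this)
  simp only [od, ne_eq, Bool.and_eq_true, Bool.or_eq_true, Bool.not_eq_true', ← Bool.not_eq_true, em_iff]
  rintro ⟨n, e | e⟩
  · exact n (b 3 (by decide) (by rw [← ap_one, ← e, ap_mul, ap_mul]; rfl))
  · exact n (b 5 (by decide) (by rw [← ap_one, ← e, ap_mul, ap_mul, ap_mul]; rfl))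

variable (a : SA s)
include a

theorem dec (hg : g ∈ s.M) : g ∈ nor s.O ∧ ∃ m ∈ L2, s.Act g (ap m) := by
  obtain ⟨x, e, k⟩ := (mem_P h).1 (conj_mem_of_mem_normalizer hg.2 (p_r h 1 ▸ p_mem _ 0))
  obtain ⟨y, hy, k'⟩ := a.kc x e (k ▸ KI_conj ⟨r_ord h one_ne_zero, 1, (cj_one _).ge (r_K h 1)⟩ g)
  have hY := Y_le h hy
  obtain ⟨-, h2, h3⟩ := a.cr (y⁻¹ * g) (mul_mem (inv_mem hY.1.1) hg.1) 1 one_ne_zero 0 (by
    rw [h.fr.z0, mul_one, mul_inv_rev, inv_inv]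
    calc _ = y⁻¹ * (g * s.r 1 * g⁻¹) * y := by group
      _ = _ := by rw [← k, ← k']; group)
  obtain ⟨m, hm, k1⟩ := Y_L h hy
  have e : g = y * (y⁻¹ * g) := by group
  refine ⟨e ▸ mul_mem (centralizer_le_normalizer _ hY.2) h2, ?_⟩
  rcases h3 with h3 | h3
  · exact ⟨m, List.mem_append_left _ hm, e ▸ act_mul h (nZ hY.1.1) k1 h3⟩
  · exact ⟨_, List.mem_append_right _ (List.mem_map_of_mem hm), by
      rw [ap_mul, ap_gm, e]; exact act_mul h (nZ hY.1.1) k1 h3⟩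

theorem inv (hg : g ∈ s.M) (h2 : g * g ∈ s.Z) : ∃ y ∈ s.Y, s.Act (y * g * y⁻¹) id ∨
    (∃ a ≠ 0, s.Act (y * g * y⁻¹) (W₁ a)) ∨ s.Act (y * g * y⁻¹) Gm := by
  obtain ⟨m, hm, k⟩ := (dec h a hg).2
  obtain ⟨c, hc, e⟩ := c_inv m hm (ap_inj (by
    rw [ap_mul, ap_one]; exact act_uniq h (act_mul h (nZ hg.1) k k) (act_one h h2)))
  obtain ⟨y, hy, k'⟩ := L_Y h hc
  have j := fun χ => act_cj (χ := χ) h (Y_le h hy).1 hg.1 k' k
  refine ⟨y, hy, e.imp (fun e => j _ ?_) (Or.imp (fun ⟨b, hb, e⟩ => ⟨b, hb, j _ ?_⟩) fun e => j _ ?_)⟩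
  · rw [← ap_mul, e]; rfl
  · rw [← ap_mul, e, ap_mul, ap_gm]
  · rw [← ap_mul, e, ap_mul, ap_w₁]

theorem in_P (hg : g ∈ cen s.Z) (k : s.Act g id) (h2 : ∃ k, g ^ 2 ^ k = 1) : ∃ x e, g = s.p x e := by
  obtain ⟨o, ho, x, e, rfl⟩ := a.ker g hg k
  obtain ⟨k, h2⟩ := h2
  obtain rfl := h.loc.od.two_elt (n := 2) ho (P_cenO h (p_mem x e) o ho) (P_four h (p_mem x e)) h2
  exact ⟨x, e, one_mul _⟩

theorem wa (hg : g ∈ cen s.Z) (b : F4) (k : s.Act g (W₁ b)) (h2 : ∃ k, g ^ 2 ^ k = 1) :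
    ∃ x e, g = s.w₁ b * s.p x e := by
  have hw := cenV_le (w₁_cenV h b)
  have j : W₁ b ∘ W₁ b = id := act_uniq h (act_mul h (nZ hw) (act_w₁ h b) (act_w₁ h b))
    (w₁_sq h b ▸ act_one h (one_mem _))
  obtain ⟨o, ho, x, e, k1⟩ := a.ker _ (mul_mem hw hg) (j ▸ act_mul h (nZ hw) (act_w₁ h b) k)
  have k2 : g = o * (s.w₁ b * s.p x e) := by
    rw [← mul_assoc, w₁_cenO h b o ho, mul_assoc, ← k1, ← mul_assoc, w₁_sq h, one_mul]
  obtain ⟨n, h2⟩ := h2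
  obtain rfl := h.loc.od.two_elt (n := 3) ho (mul_mem (w₁_cenO h b) (P_cenO h (p_mem x e)) o ho) (by
    have : (s.w₁ b * s.p x e) ^ 2 = s.w₁ b * s.p x e * (s.w₁ b)⁻¹ * s.p x e := by
      rw [inv_eq_of_mul_eq_one_right (w₁_sq h b), pow_two, ← mul_assoc]
    rw [show 2 ^ 3 = 2 * 4 from rfl, pow_mul, this]
    exact P_four h (mul_mem (conj_mem_of_mem_normalizer (Y_le h (w₁_Y b)).1.2 (p_mem x e)) (p_mem x e)))
    (k2 ▸ h2)
  exact ⟨x, e, k2.trans (one_mul _)⟩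

omit a in
theorem four (h2 : g * g ∈ s.Z) : ∃ k, g ^ 2 ^ k = 1 :=
  ⟨2, by rw [show 2 ^ 2 = 2 * 2 from rfl, pow_mul, pow_two, pow_two]; exact h.fr.el₁ _ (h.fr.Z_le₁ h2)⟩

theorem wc (hg : g ∈ cen s.Z) (b : F4) (hb : b ≠ 0) (k : s.Act g (W₁ b)) (h2 : g * g ∈ s.Z) :
    ∃ t ∈ s.P, ∃ e, t * g * t⁻¹ = s.w₁ b * s.z e := by
  obtain ⟨x, e, rfl⟩ := wa h a hg b k (four h h2)
  have hw := nZ (cenV_le (w₁_cenV h b))
  have i := inv_eq_of_mul_eq_one_right (w₁_sq h b)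
  obtain ⟨e1, k1⟩ := act_all h hw (act_w₁ h b) x e
  obtain ⟨e2, k2⟩ := (mem_Z h).1 h2
  rw [← mul_assoc, ← congrArg (s.w₁ b * s.p x e * · * s.p x e) i, k1, p_mul h, ← p_z h] at k2
  obtain ⟨y, k3⟩ := fix_W b hb x (p_ext h k2).1.symm
  obtain ⟨e4, k4⟩ := act_all h hw (act_w₁ h b) y 0
  refine ⟨s.p y 0, p_mem y 0, ?_⟩
  have : s.p y 0 * (s.w₁ b * s.p x e) * (s.p y 0)⁻¹ =
      s.w₁ b * (s.w₁ b * s.p y 0 * (s.w₁ b)⁻¹ * s.p x e * (s.p y 0)⁻¹) := by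
    rw [i]; simp only [← mul_assoc, w₁_sq h, one_mul]
  rw [this, k4, p_inv h, p_mul h, p_mul h, k3, p_z h]
  exact ⟨_, rfl⟩

theorem wk (b : F4) (hb : b ≠ 0) (e : F4) : KI s.K (s.w₁ b * s.z e) := by
  have : s.w₁ b * s.z e = s.n * s.p (0, b, e, 0) 0 * s.n⁻¹ := by
    rw [SD.w₁, Dt.z, ← h.fr.nu, conj_mul, SD.p, r_zero h, one_mul]
  refine this ▸ KI_conj ((a.ki _ _).2 ⟨by simp [qf], by simp [hb], ?_⟩) _
  rintro ⟨-, ⟨-, k, -⟩ | ⟨k, k', -⟩⟩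
  exacts [hb k, k' k]

omit a in
theorem nor_V (hg : g ∈ cen s.Z) {b ν : F4}
    (k : s.Act g (W₁ b ∘ Rho ν) ∨ s.Act g (W₁ b ∘ Rho ν ∘ G0)) : g ∈ nor s.V₁ :=
  mem_normalizer_of_cj_le (by
    rintro _ ⟨v, hv, rfl⟩
    obtain ⟨c, e, rfl⟩ := (mem_V h).1 hv
    obtain ⟨e', j⟩ : ∃ e', g * s.p (0, 0, c, 0) e * g⁻¹ = s.p (0, 0, c, 0) e' := by
      rcases k with k | k <;> simpa [W₁, Rho, G0] using act_all h (nZ hg) k (0, 0, c, 0) e
    rw [p_u h, p_u h] at j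
    exact (mem_V h).2 ⟨_, _, j.symm⟩)

omit a in
theorem stab' {b ν : F4} (k : s.Act g (ap m))
    (e : m = mul (mw (false, b)) (rh ν) ∨ m = mul (mw (false, b)) (mul (rh ν) g0)) :
    s.Act g (W₁ b ∘ Rho ν) ∨ s.Act g (W₁ b ∘ Rho ν ∘ G0) := by
  refine e.imp (fun e => ?_) fun e => ?_ <;> simpa only [e, ap_mul, ap_w₁, ap_rh, ap_g0] using k

/-- The conclusion of `k1`. -/
def K1 (s : SD G) (t : G) : Prop := ∃ k, t ∈ H98.cj k s.K ∧ s.Z ≤ H98.cj k s.A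

omit h a [Finite G] in
theorem K1.of (hy : y ∈ cen s.Z) (k : K1 s (y * t * y⁻¹)) : K1 s t := by
  obtain ⟨k, h1, h2⟩ := k
  refine ⟨y⁻¹ * k, ?_, fun z hz => ?_⟩ <;> rw [← cj_cj, mem_cj, inv_inv]
  · exact h1
  · rw [← hy z hz, mul_inv_cancel_right]; exact h2 hz

theorem k1 (ht : t ∈ s.M) (k : KI s.K t) : K1 s t := by
  obtain ⟨y, hy, e⟩ := inv h a ht (KI.sq k ▸ one_mem _)
  have hY := (Y_le h hy).1
  refine K1.of hY.1 ?_
  have hg : y * t * y⁻¹ ∈ cen s.Z := mul_mem (mul_mem hY.1 ht.1) (inv_mem hY.1)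
  have hk := KI_conj k y
  generalize y * t * y⁻¹ = g at e hg hk
  have h2 : g * g ∈ s.Z := KI.sq hk ▸ one_mem _
  have zA : s.Z ≤ s.A := h.fr.Z_le₁.trans (h.fr.V₁_le.trans h.fr.U_le)
  rcases e with e | ⟨b, hb, e⟩ | e
  · obtain ⟨x, e', rfl⟩ := in_P h a hg e (four h h2)
    obtain ⟨y, hy, j⟩ := a.kc x e' hk
    refine K1.of (inv_mem (Y_le h hy).1.1) ⟨1, ?_, by rwa [cj_one]⟩
    rw [← j, cj_one]
    simpa [mul_assoc] using r_K h 1
  · obtain ⟨t, ht, e', j⟩ := wc h a hg b hb e h2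
    refine K1.of (P_cenZ h ht) ?_
    obtain ⟨o, k, hk⟩ := wk h a b hb e'
    refine j ▸ ⟨k, hk, h.fr.Z_le₁.trans (h.pr.K0' h.fr hk o (fun v hv => mc1.2 ?_) (h.pr.gd₁ h.fr.toFr0))⟩
    exact Commute.mul_right (w₁_cenV h b v hv) (h.fr.el₁.comm hv (h.fr.Z_le₁ (h.fr.zZ e')))
  · obtain ⟨o, k, hk'⟩ := hk
    refine ⟨k, hk', fun z hz => mem_cj.2 ?_⟩
    have zz : k⁻¹ * z * k * (k⁻¹ * z * k) = 1 := by
      calc _ = k⁻¹ * (z * z) * k := by group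
        _ = 1 := by rw [h.fr.el₁ z (h.fr.Z_le₁ hz)]; group
    have o' : orderOf (k⁻¹ * g * k) = 2 := by
      rw [← o, ← (MulAut.conj k⁻¹).orderOf_eq g]; simp
    have sq : ∀ x ∈ sqs (cen1 g), k⁻¹ * x * k ∈ sqs s.N := fun x hx => by
      refine mem_cj.1 ((closure_le (H98.cj k (sqs s.N))).2 ?_ hx)
      rintro _ ⟨y, hy, rfl⟩
      refine mem_cj.2 (subset_closure ⟨k⁻¹ * y * k, h.fr.cen_le (mem_cj.1 hk') o' (mc1.2 ?_), by group⟩)
      have := (mc1.1 hy).eq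
      change _ = _
      calc _ = k⁻¹ * (y * g) * k := by group
        _ = _ := by rw [this]; group
    have := h.fr.osq _ (sq z (a.gsq g hg e (KI.sq ⟨o, k, hk'⟩) hz))
    rw [pow_succ, pow_two, zz, one_mul] at this
    refine h.pr.mem_A h.fr this zz fun j => h.pr.noKI z (zA hz) ?_
    simpa [mul_assoc] using KI_conj j k

/-- The second alternative of `cl`. -/
def CL (s : SD G) (t : G) : Prop :=
  ∃ k t', t' ∈ H98.cj k s.K ∧ orderOf t' = 2 ∧ Commute t' t ∧ t ∉ H98.cj k s.A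

omit h a [Finite G] in
theorem CL.of (k : CL s (y * t * y⁻¹)) : CL s t := by
  obtain ⟨k, t', h1, h2, h3, h4⟩ := k
  refine ⟨y⁻¹ * k, y⁻¹ * t' * y⁻¹⁻¹, cj_cj y⁻¹ k s.K ▸ conj_mem_cj h1,
    ((MulAut.conj y⁻¹).orderOf_eq t').trans h2, ?_, fun j => h4 ?_⟩
  · simpa [mul_assoc] using h3.map (MulAut.conj y⁻¹)
  · rwa [← cj_cj, mem_cj, inv_inv] at j

omit a in
theorem CL.ki (k : KI s.K t) : CL s t := by
  obtain ⟨g, hg⟩ := k.2
  exact ⟨g, t, hg, k.1, rfl, fun j => h.pr.noKI _ (mem_cj.1 j) (by simpa using KI_conj k g⁻¹)⟩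

theorem cl (ht : t ∈ s.M) (k : t * t = 1) :
    (∃ y ∈ s.Y, ∃ a e, y * t * y⁻¹ = s.u a 0 e) ∨ CL s t := by
  obtain ⟨y, hy, e⟩ := inv h a ht (k ▸ one_mem _)
  have hY := (Y_le h hy).1
  have hg : y * t * y⁻¹ ∈ cen s.Z := mul_mem (mul_mem hY.1 ht.1) (inv_mem hY.1)
  have h1 : y * t * y⁻¹ * (y * t * y⁻¹) = 1 := by rw [conj_mul, k]; group
  have h2 : y * t * y⁻¹ * (y * t * y⁻¹) ∈ s.Z := h1 ▸ one_mem _
  rcases e with e | ⟨b, hb, e⟩ | e
  · obtain ⟨x, e', j⟩ := in_P h a hg e (four h h2)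
    by_cases h0 : x = 0
    · exact .inl ⟨y, hy, 0, e', by rw [j, h0, p_z h]⟩
    by_cases hv : VT x
    · obtain ⟨y', hy', b, e'', j'⟩ := a.vt x e' hv
      exact .inl ⟨y' * y, mul_mem hy' hy, b, e'', by rw [← j', ← j]; group⟩
    rw [j, p_sq h, ← h.fr.z0] at h1
    exact .inr (CL.of (y := y) (CL.ki h (j ▸ (a.ki x e').2 ⟨z_inj h h1, h0, hv⟩)))
  · obtain ⟨p, -, e', j⟩ := wc h a hg b hb e h2
    exact .inr (CL.of (CL.of (CL.ki h (j ▸ wk h a b hb e'))))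
  · exact .inr (CL.of (a.gki _ hg e h1))

omit h a in
theorem jobS3 : JobS3.{u} := fun G _ _ s h a =>
  { nO := fun _ hg => (dec h a hg).1
    lin := fun _ hg => by
      obtain ⟨m, hm, k⟩ := (dec h a hg).2
      exact ⟨lm m, k, ap_xs hm⟩
    inv := fun _ => inv h a
    wa := fun _ => wa h a
    wc := fun _ => wc h a
    wk := wk h a
    stab := fun g hg hv => by
      obtain ⟨m, hm, k⟩ := (dec h a hg).2
      rcases c_stab m hm with ⟨b, ν, n, e⟩ | ⟨e, -⟩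
      · exact ⟨b, ν, n, stab' h k e⟩
      obtain ⟨e1, k1⟩ := k (0, 0, 1, 0)
      obtain ⟨b, e2, k2⟩ := (mem_V h).1 (conj_mem_of_mem_normalizer hv ((mem_V h).2 ⟨1, 0, rfl⟩))
      rw [← p_u h, ← p_u h, k1] at k2
      exact (e b (by simpa [ap_eq] using (p_ext h k2).1.symm)).elim
    rho := fun ν n => ap_rh ν ▸ L_Y h (c_rho ν n)
    o2 := fun T hT h2 hY t ht => by
      obtain ⟨m, hm, k⟩ := (dec h a (hT ht)).2
      rcases c_o2 m hm with rfl | ⟨c, hc, e, j⟩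
      · obtain ⟨x, e, rfl⟩ := in_P h a (hT ht).1 (ap_one ▸ k) (isPGroup_iff_forall.1 h2 t ht)
        exact p_mem x e
      obtain ⟨y, hy, k'⟩ := L_Y h hc
      have m1 := mul_mem ht (conj_mem_of_mem_normalizer (hY hy) ht)
      refine (not_od h (hT m1).1 ?_ (isPGroup_iff_forall.1 h2 _ m1) j).elim
      rw [ap_mul]
      refine act_mul h (nZ (hT ht).1) k (act_cj h (Y_le h hy).1 (hT ht).1 k' k ?_)
      rw [ap_mul, ap_mul, Function.comp_assoc, Function.comp_assoc, ← ap_mul c c, e, ap_one]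
      rfl
    syl := fun T hT h2 hw t ht => by
      obtain ⟨m, hm, k⟩ := (dec h a (hT ht)).2
      rcases c_stab m hm with ⟨b, ν, -, e⟩ | ⟨-, b, j⟩
      · exact nor_V h (hT ht).1 (stab' h k e)
      have m0 := mul_mem ht (hw b)
      have k' : s.Act (t * s.w₁ b) (ap (mul m (mw (false, b)))) := by
        rw [ap_mul, ap_w₁]; exact act_mul h (nZ (hT ht).1) k (act_w₁ h b)
      refine (not_od h (hT (mul_mem m0 m0)).1 ?_ (isPGroup_iff_forall.1 h2 _ (mul_mem m0 m0)) j).elim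
      rw [ap_mul]
      exact act_mul h (nZ (hT m0).1) k' k'
    k1 := fun _ => k1 h a
    cl := fun _ => cl h a }

end H95.TE
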