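import Cfsg.Agent.H95.CxPL
import Cfsg.Agent.H98.Core

/-! Tower CX (S5242): transvection lemmas (`JobO`, `JobKC`). -/

set_option autoImplicit false
set_option linter.unusedSectionVars false

namespace H95.CxO

open Subgroup Cfsg H98 H24.Cx H95.CxPL

universe u

variable {G W : Type u} [Group G] [Finite G] [AddCommGroup W] [DistribMulAction G W]
  {Γ Y E P : Subgroup G} {D : AddSubgroup W} {t s g : G} {v v' w : W}

theorem tv_inv (h : IsTv D t v) (hw : w ∈ D) : t⁻¹ • w = t • w := by
  rw [inv_smul_eq_iff, tv_sq h hw]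

/-- Two transvections of a low subgroup with the same axis have the same centre. -/
theorem axis (h : Set2 Γ Y D) (hL : Low D Y P) (ht : t ∈ P) (hs : s ∈ P) (T : IsTv D t v)
    (S : IsTv D s v') (k : ∀ w ∈ D, w + w = 0 → (t • w = w ↔ s • w = w)) : v = v' := by
  by_contra e
  have m1 : t ∈ closure {t, s} := subset_closure (by simp)
  have m2 : s ∈ closure {t, s} := subset_closure (by simp)
  have := hL (closure {t, s}) ((closure_le _).2 (by rintro _ (rfl | rfl); exacts [ht, hs]))
    fun B _ hB w hw w2 a ha => by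
      rw [two_nsmul] at w2
      rw [Finset.sum_range_succ, Finset.sum_range_one, pow_zero, one_smul, pow_one]
      by_cases k1 : t • w = w
      · have : closure {t, s} ≤ MulAction.stabilizer G w := (closure_le _).2 (by
          rintro _ (rfl | rfl)
          exacts [k1, (k w hw.1 w2).1 k1])
        rw [show a • w = w from this ha, w2]
      · have k2 : ¬ s • w = w := fun e => k1 ((k w hw.1 w2).2 e)
        have k3 := hw.2 _ ((mul_mem_iff_of_index_two hB (a := ⟨t, m1⟩) (b := ⟨s, m2⟩)).2
          (iff_of_false (fun e => k1 (hw.2 _ e)) fun e => k2 (hw.2 _ e)))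
        change (t * s) • w = w at k3
        rw [mul_smul, (S.act w hw.1).resolve_left k2, smul_add, (T.act w hw.1).resolve_left k1,
          (k v' S.mem (tv_two S)).2 (tv_fix S), add_assoc, add_eq_left, ← tv_two S,
          add_left_inj] at k3
        exact (e k3).elim
  obtain ⟨w, w1, -, w2⟩ := T.ex
  exact w2 (h.triv t (this m1) w w1)

theorem jobO : JobO.{u} := by
  intro G W _ _ _ _ Γ Y P D h hP hL t ht s hs v v' T S
  by_contra e
  have e1 := (T.act v' S.mem).resolve_left e
  rcases S.act v T.mem with k | k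
  · refine e (axis h hL (mul_mem (mul_mem ht hs) (inv_mem ht)) hs (S.conj h.mod (hP.le ht)) S
      fun w hw _ => ?_)
    rw [mul_smul, mul_smul, smul_eq_iff_eq_inv_smul, tv_inv T hw]
    rcases T.act w hw with k1 | k1 <;> rw [k1]
    rw [smul_add, k, add_left_inj]
  · have g1 : (t * s) • v = v' := by
      rw [mul_smul, k, smul_add, tv_fix T, e1, add_left_comm, tv_two T, add_zero]
    have g2 : (t * s) • v' = v' + v := by rw [mul_smul, tv_fix S, e1]
    obtain ⟨n, hn⟩ := isPGroup_iff_forall.1 hP.isP _ (mul_mem ht hs)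
    have g3 := mem_of_pow_mem_of_coprime (K := MulAction.stabilizer G v) (x := t * s) (n := 3) (by
      rw [MulAction.mem_stabilizer_iff, pow_three, mul_smul (t * s), mul_smul (t * s), g1, g2,
        smul_add, g1, g2, add_right_comm, tv_two S, zero_add])
      ((Nat.Coprime.pow_left n (by norm_num)).coprime_dvd_left (orderOf_dvd_of_pow_eq_one hn))
    rw [MulAction.mem_stabilizer_iff, g1] at g3
    exact e (g3 ▸ tv_fix T)

theorem step (h : v + v = 0) (h1 : g • v = v) (h2 : g • v' = v' ∨ g • v' = v' + v) {z : W}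
    (hz : z ∈ AddSubgroup.closure {v, v'}) : g • z = z ∨ g • z = z + v := by
  induction hz using AddSubgroup.closure_induction with
  | mem x hx =>
    rcases hx with rfl | rfl
    exacts [.inl h1, h2]
  | zero => exact .inl (smul_zero g)
  | add x y _ _ hx hy =>
    rw [smul_add]
    rcases hx with hx | hx <;> rcases hy with hy | hy <;> rw [hx, hy]
    · exact .inl rfl
    · exact .inr (add_assoc _ _ _).symm
    · exact .inr (add_right_comm _ _ _)
    · exact .inl (by rw [add_add_add_comm, h, add_zero])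
  | neg x _ hx =>
    rw [smul_neg]
    exact hx.imp (fun k => by rw [k]) fun k => by rw [k, neg_add, neg_eq_of_add_eq_zero_left h]

theorem step' (h : v + v = 0) (h1 : g • v = v) (h2 : g • v' = v' ∨ g • v' = v' + v) {z : W}
    (hz : z ∈ AddSubgroup.closure {v, v'}) : g • z ∈ AddSubgroup.closure {v, v'} := by
  rcases step h h1 h2 hz with k | k <;> rw [k]
  exacts [hz, add_mem hz (AddSubgroup.subset_closure (by simp))]

theorem inv_step (h : v + v = 0) (h1 : g • v = v) (h2 : g • v' = v' ∨ g • v' = v' + v) :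
    g⁻¹ • v' = v' ∨ g⁻¹ • v' = v' + v := h2.imp (fun k => by rw [inv_smul_eq_iff, k]) fun k => by
  rw [inv_smul_eq_iff, smul_add, k, h1, add_assoc, h, add_zero]

/-- The stabiliser of the chain `0 < ⟨v⟩ < ⟨v, v'⟩ < V`. -/
def LL (D : AddSubgroup W) (h : v + v = 0) (v' : W) : Subgroup G where
  carrier := {g | g • v = v ∧ (g • v' = v' ∨ g • v' = v' + v) ∧
    ∀ w ∈ D, g • w - w ∈ AddSubgroup.closure {v, v'}}
  one_mem' := ⟨one_smul _ _, .inl (one_smul _ _), fun w _ => by simp⟩
  mul_mem' {a b} ha hb := ⟨by rw [mul_smul, hb.1, ha.1], by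
    rw [mul_smul]
    rcases hb.2.1 with k | k <;> rw [k]
    · exact ha.2.1
    · rw [smul_add, ha.1]
      exact ha.2.1.symm.imp (fun k => by rw [k, add_assoc, h, add_zero]) fun k => by rw [k],
    fun w hw => by
      have := add_mem (step' h ha.1 ha.2.1 (hb.2.2 w hw)) (ha.2.2 w hw)
      rwa [smul_sub, sub_add_sub_cancel, ← mul_smul] at this⟩
  inv_mem' {a} ha := by
    have k : a⁻¹ • v = v := by rw [inv_smul_eq_iff, ha.1]
    refine ⟨k, inv_step h ha.1 ha.2.1, fun w hw => ?_⟩
    have := neg_mem (step' h k (inv_step h ha.1 ha.2.1) (ha.2.2 w hw))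
    rwa [smul_sub, inv_smul_smul, neg_sub] at this

theorem pow4 (T : IsTv D t v) (S : IsTv D s v') (k : s • v = v) (hg : g ∈ closure {t, s})
    (hw : w ∈ D) (w2 : w + w = 0) : (g ^ 2 ^ 2) • w = w := by
  have h := tv_two T
  have tv : ∀ {a : G} {z : W}, IsTv D a z → z ∈ ({v, v'} : Set W) →
      ∀ w ∈ D, a • w - w ∈ AddSubgroup.closure {v, v'} := fun ha hz w hw => by
    rcases ha.act w hw with k | k <;> rw [k]
    · simp
    · simpa using AddSubgroup.subset_closure hz
  have : closure {t, s} ≤ LL D h v' := (closure_le _).2 (by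
    rintro _ (rfl | rfl)
    exacts [⟨tv_fix T, T.act v' S.mem, tv T (by simp)⟩, ⟨k, .inl (tv_fix S), tv S (by simp)⟩])
  obtain ⟨g1, g2, g3⟩ := this hg
  obtain ⟨z, hz⟩ : ∃ z, g • w = w + z := ⟨g • w - w, by simp⟩
  have z1 := g3 w hw
  rw [hz, add_sub_cancel_left] at z1
  have z2 : z + z = 0 := by
    have := congrArg (g • ·) w2
    simp only [smul_add, smul_zero, hz] at this
    rwa [add_add_add_comm, w2, zero_add] at this
  rw [show g ^ 2 ^ 2 = g * g * (g * g) by rw [← pow_two, ← pow_two, ← pow_mul]; rfl]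
  rcases step h g1 g2 z1 with k1 | k1
  · have : (g * g) • w = w := by rw [mul_smul, hz, smul_add, hz, k1, add_assoc, z2, add_zero]
    rw [mul_smul, this, this]
  · have : (g * g) • w = w + v := by
      rw [mul_smul, hz, smul_add, hz, k1, ← add_assoc, add_assoc w, z2, add_zero]
    rw [mul_smul, this, smul_add, this, mul_smul, g1, g1, add_assoc, h, add_zero]

theorem jobKC : JobKC.{u} := by
  intro G W _ _ _ _ Γ Y E D h hE t s v v' T S k
  have l : closure {t, s} ≤ Γ ⊓ normalizer (E : Set G) := (closure_le _).2 (by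
    rintro _ (rfl | rfl)
    exacts [T.mem, S.mem])
  have r : res 2 (closure {t, s}) ≤ fixingSubgroup G (D : Set W) := res_le_of_forall_pow fun g hg =>
    ⟨2, (mem_fixingSubgroup_iff G).2 (h.ker _ (pow_mem (l hg).1 _) fun w hw w2 => k.elim
      (fun k => pow4 S.tv T.tv k (Set.pair_comm t s ▸ hg) hw w2)
      fun k => pow4 T.tv S.tv k hg hw w2)⟩
  obtain ⟨P, p1, p2⟩ := exists_isSyl_le T.two
    (zpowers_le.2 (subset_closure (by simp) : t ∈ closure {t, s}))
  obtain ⟨g, g1, g2⟩ := p1.exists_cj_le S.two (zpowers_le.2 (subset_closure (by simp)))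
  obtain ⟨a, a1, n, n1, rfl⟩ := (mem_sup_left_norm (le_normalizer_res_of_le p1.le)).1
    (p1.sup_res.ge g1)
  refine ⟨n, l (res_le _ n1), (mem_fixingSubgroup_iff G).1 (r n1), E ⊔ P, ⟨le_sup_left,
    sup_le hE.pair.le (p1.le.trans l), hE.isP.to_sup_of_normal_left' p1.isPGroup
      (p1.le.trans (l.trans inf_le_right))⟩, mem_sup_right (p2 (mem_zpowers t)), mem_sup_right ?_⟩
  simpa [mul_assoc] using mul_mem (mul_mem (inv_mem a1) (g2 (conj_mem_cj (mem_zpowers s)))) a1

end H95.CxO
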