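import Cfsg.Agent.H24.CxKit0

/-! Tower CX (S5242): values of transvections (`JobPL`). -/

set_option autoImplicit false
set_option linter.unusedSectionVars false

namespace H95.CxPL

open Subgroup Cfsg H98 H24.Cx

universe u

variable {G X W : Type u} [Group G] [MulAction G X] [AddCommGroup W] [DistribMulAction G W]
  {Γ Y E P : Subgroup G} {D : AddSubgroup W} {F : X → W} {t s g : G} {v v' c c' w : W} {x : X}

theorem tv_two (h : IsTv D t v) : v + v = 0 := by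
  obtain ⟨w, h1, h2, h3⟩ := h.ex
  have h4 := congrArg (t • ·) h2
  simp only [smul_add, smul_zero, (h.act w h1).resolve_left h3] at h4
  rwa [add_add_add_comm, h2, zero_add] at h4

theorem tv_fix (h : IsTv D t v) : t • v = v := (h.act v h.mem).resolve_right fun k =>
  h.ne ((smul_eq_zero_iff_eq t).1 (k.trans (tv_two h)))

theorem tv_sq (h : IsTv D t v) (hw : w ∈ D) : t • t • w = w := by
  rcases h.act w hw with k | k
  · rw [k, k]
  · rw [k, smul_add, k, tv_fix h, add_assoc, tv_two h, add_zero]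

theorem tvn_conj (h : Set2 Γ Y D) (hg : g ∈ Γ ⊓ normalizer (E : Set G)) (ht : TvN Γ E D t v) :
    TvN Γ E D (g * t * g⁻¹) (g • v) :=
  ⟨mul_mem (mul_mem hg ht.mem) (inv_mem hg), fun k => ht.out (by
    simpa [mul_assoc] using conj_mem_of_mem_normalizer' hg.2 k), by
    have := isPGroup_cj g ht.two
    rwa [H98.cj, MonoidHom.map_zpowers] at this, ht.tv.conj h.mod hg.1⟩

theorem tvn_rel (hE : Rel 2 Γ Y E) (ht : TvN Γ E D t v) :
    Rel 2 (Γ ⊓ normalizer (E : Set G)) E (E ⊔ zpowers t) :=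
  ⟨le_sup_left, sup_le hE.pair.le (zpowers_le.2 ht.mem),
    hE.isP.to_sup_of_normal_left' ht.two (zpowers_le.2 ht.mem.2)⟩

/-- `c` is the value of `F` at a point fixed by `E` and `t`. -/
def Val (E : Subgroup G) (F : X → W) (t : G) (c : W) : Prop :=
  ∃ x, On E [x] ∧ t • x = x ∧ F x = c

/-- The standing hypotheses. -/
structure HH (Γ Y E : Subgroup G) (D : AddSubgroup W) (F : X → W) : Prop where
  good : Good 2 G X
  set : Set2 Γ Y D
  rel : Rel 2 Γ Y E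
  eqv : Eqv (Γ ⊓ normalizer (E : Set G)) E D (QJ (AP 2 D) E) F
  low : ∀ P, Rel 2 (Γ ⊓ normalizer (E : Set G)) E P → Low D Y P
  o : ∀ P, Rel 2 Γ Y P → Low D Y P → ∀ t ∈ P, ∀ s ∈ P, ∀ v v', IsTv D t v → IsTv D s v' →
    t • v' = v'
  kc : ∀ t s v v', TvN Γ E D t v → TvN Γ E D s v' → t • v' = v' ∨ s • v = v →
    ∃ k ∈ Γ ⊓ normalizer (E : Set G), (∀ w ∈ D, k • w = w) ∧
      ∃ P, Rel 2 (Γ ⊓ normalizer (E : Set G)) E P ∧ t ∈ P ∧ k * s * k⁻¹ ∈ P

namespace HH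

variable (h : HH Γ Y E D F)
include h

theorem pt (hP : Rel 2 (Γ ⊓ normalizer (E : Set G)) E P) : ∃ c, ∀ t ∈ P, Val E F t c :=
  let ⟨x, hx⟩ := h.good.exists_on hP.isP
  ⟨F x, fun t ht => ⟨x, hx.mono hP.ge, on_one.1 hx t ht, rfl⟩⟩

theorem ex (ht : TvN Γ E D t v) : ∃ c, Val E F t c :=
  let ⟨c, k⟩ := h.pt (tvn_rel h.rel ht)
  ⟨c, k t (mem_sup_right (mem_zpowers t))⟩

theorem uniq (ht : TvN Γ E D t v) (h1 : Val E F t c) (h2 : Val E F t c') : c = c' := by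
  obtain ⟨x, x1, x2, rfl⟩ := h1
  obtain ⟨y, y1, y2, rfl⟩ := h2
  refine h.eqv.cst x y (on_cons.2 ⟨x1, y1⟩) fun k => ht.out (k (le_JJ' (A := zpowers t)
    (.inr ⟨rfl, t, v, ht.tv, rfl⟩) (zpowers_le.2 (mem_st.2 ⟨ht.mem, ?_⟩)) E (mem_zpowers t)))
  simp [x2, y2]

theorem mem (h1 : Val E F t c) : c ∈ D :=
  let ⟨x, x1, _, k⟩ := h1
  k ▸ h.eqv.mem x x1

theorem fix (ht : TvN Γ E D t v) (h1 : Val E F t c) : t • c = c := by
  obtain ⟨x, x1, x2, rfl⟩ := h1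
  rw [← h.eqv.eqv t ht.mem x x1, x2]

theorem conj (hg : g ∈ Γ ⊓ normalizer (E : Set G)) (h1 : Val E F t c) :
    Val E F (g * t * g⁻¹) (g • c) := by
  obtain ⟨x, x1, x2, rfl⟩ := h1
  exact ⟨g • x, x1.sm h.rel.pair hg, by rw [mul_smul, inv_smul_smul, mul_smul, x2],
    h.eqv.eqv g hg x x1⟩

theorem star (ht : TvN Γ E D t v) (hs : TvN Γ E D s v') (k : t • v' = v' ∨ s • v = v)
    (h1 : Val E F t c) (h2 : Val E F s c') : c = c' := by
  obtain ⟨k, k1, k2, P, hP, k3, k4⟩ := h.kc t s v v' ht hs k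
  obtain ⟨a, ha⟩ := h.pt hP
  rw [h.uniq ht h1 (ha t k3), h.uniq (tvn_conj h.set k1 hs) (ha _ k4) (h.conj k1 h2),
    k2 _ (h.mem h2)]

theorem ex_tv (h1 : On E [x]) (h2 : QJ (AP 2 D) E (st (Γ ⊓ normalizer (E : Set G)) [x])) :
    ∃ t v, TvN Γ E D t v ∧ Val E F t (F x) := by
  have hr := h.good.rel h.rel.pair h1 (List.cons_ne_nil _ _)
  by_contra! k
  refine h2 (JJ_le_iff.2 ⟨le_rfl, fun A hA hA' => ?_⟩)
  obtain hA | ⟨-, t, v, ht, rfl⟩ := hA
  · exact (h.low _ hr A hA' hA).trans h.rel.ge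
  · have := mem_st.1 (zpowers_le.1 hA')
    exact zpowers_le.2 (by_contra fun e => k t v ⟨this.1, e, hr.isP.to_le hA', ht⟩
      ⟨x, h1, this.2 x (List.mem_singleton_self x), rfl⟩)

theorem mv (ht : TvN Γ E D t v) (hs : TvN Γ E D s v') (h1 : Val E F t c) (h2 : Val E F s c')
    (k : c ≠ c') : t • v' = v' + v :=
  (ht.tv.act v' hs.tv.mem).resolve_left fun e => k (h.star ht hs (.inl e) h1 h2)

theorem mv' (ht : TvN Γ E D t v) (hs : TvN Γ E D s v') (h1 : Val E F t c) (h2 : Val E F s c')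
    (k : c ≠ c') : t • v' ≠ v' := fun e => k (h.star ht hs (.inl e) h1 h2)

theorem two (ht : TvN Γ E D t v) (hs : TvN Γ E D s v') (h1 : Val E F t c) (h2 : Val E F s c')
    (k : c ≠ c') : c + v = c' + v' := by
  have a := tvn_conj h.set ht.mem hs
  have b := tvn_conj h.set hs.mem ht
  have k1 := h.star a b (.inl (by
    rw [h.mv hs ht h2 h1 k.symm, add_comm, ← h.mv ht hs h1 h2 k, tv_fix a.tv]))
    (h.conj ht.mem h2) (h.conj hs.mem h1)
  rcases ht.tv.act c' (h.mem h2) with k2 | k2 <;> rcases hs.tv.act c (h.mem h1) with k3 | k3 <;>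
    rw [k2, k3] at k1
  · exact (k k1.symm).elim
  · rw [k1, smul_add, h.fix ht h1, add_right_inj] at k2
    exact (h.mv' ht hs h1 h2 k k2).elim
  · rw [← k1, smul_add, h.fix hs h2, add_right_inj] at k3
    exact (h.mv' hs ht h2 h1 k.symm k3).elim
  · rw [← add_zero (c + v), ← tv_two hs.tv, ← add_assoc, add_right_comm c, ← k1, add_assoc c',
      tv_two ht.tv, add_zero]

end HH

theorem main (h : HH Γ Y E D F) : Const (Γ ⊓ normalizer (E : Set G)) E D (QJ (AP 2 D) E) F ∨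
    (Bad Γ Y E D ∧ ∃ c ∈ Fix D (Γ ⊓ normalizer (E : Set G)), ∀ x : X, On E [x] → ∀ t v,
      TvN Γ E D t v → t • x = x → F x = c + v) := by
  by_cases k0 : ∃ t v, TvN Γ E D t v
  swap
  · exact .inl ⟨0, zero_mem _, fun x h1 h2 =>
      let ⟨t, v, k, _⟩ := h.ex_tv h1 h2
      (k0 ⟨t, v, k⟩).elim⟩
  obtain ⟨t₁, v₁, T₁⟩ := k0
  obtain ⟨c₁, V₁⟩ := h.ex T₁
  by_cases k1 : ∀ t v c, TvN Γ E D t v → Val E F t c → c = c₁
  · exact .inl ⟨c₁, ⟨h.mem V₁, fun g hg => k1 _ _ _ (tvn_conj h.set hg T₁) (h.conj hg V₁)⟩,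
      fun x h1 h2 =>
        let ⟨t, v, k, k'⟩ := h.ex_tv h1 h2
        k1 t v _ k k'⟩
  push Not at k1
  obtain ⟨t₂, v₂, c₂, T₂, V₂, k1⟩ := k1
  have oth : ∀ c, ∃ t v c', TvN Γ E D t v ∧ Val E F t c' ∧ c ≠ c' ∧ c' + v = c₁ + v₁ := fun c => by
    by_cases e : c = c₁
    · exact ⟨t₂, v₂, c₂, T₂, V₂, e ▸ k1.symm, h.two T₂ T₁ V₂ V₁ k1⟩
    · exact ⟨t₁, v₁, c₁, T₁, V₁, e, rfl⟩
  have all : ∀ t v c, TvN Γ E D t v → Val E F t c → c + v = c₁ + v₁ := fun t v c T V =>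
    let ⟨_, _, _, T', V', e, e'⟩ := oth c
    (h.two T T' V V' e).trans e'
  refine .inr ⟨⟨h.low, ⟨t₁, v₁, T₁⟩, fun t v T => ?_, fun P hP t ht s hs v v' T S => ?_⟩, c₁ + v₁,
    ⟨add_mem (h.mem V₁) T₁.tv.mem, fun g hg => ?_⟩, fun x h1 t v T h2 => ?_⟩
  · obtain ⟨c, V⟩ := h.ex T
    obtain ⟨t', v', c', T', V', e, -⟩ := oth c
    exact ⟨t', v', T', h.mv' T' T V' V e.symm⟩
  · obtain ⟨c, V⟩ := h.pt hP
    obtain rfl : v = v' := add_left_cancel ((all _ _ _ T (V t ht)).trans (all _ _ _ S (V s hs)).symm)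
    have m := mul_mem (inv_mem hs) ht
    refine h.set.syl _ (hP.le m).1 (h.set.ker _ (hP.le m).1 fun w w1 w2 => ?_)
      (hP.isP.to_le (zpowers_le.2 m))
    rw [mul_smul, inv_smul_eq_iff]
    by_contra e
    have r : IsTv D (s * t) v := ⟨T.tv.mem, T.tv.ne, fun a ha => by
      rcases T.tv.act a ha with k | k
      · rw [mul_smul, k]; exact S.tv.act a ha
      · rw [mul_smul, k, smul_add, tv_fix S.tv]
        exact (S.tv.act a ha).symm.imp (fun k => by rw [k, add_assoc, tv_two T.tv, add_zero])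
          fun k => by rw [k], w, w1, w2, fun k => e (by
      rw [← tv_sq S.tv (h.set.mod.inv t T.mem.1 w w1), ← mul_smul s t, k])⟩
    obtain ⟨t', v', c', T', V', e', -⟩ := oth c
    by_cases k : s * t ∈ E
    · have hr := tvn_rel h.rel T'
      exact h.mv' T' T V' (V t ht) e'.symm (h.o _ (h.rel.of_loc hr) (h.low _ hr) t'
        (mem_sup_right (mem_zpowers t')) _ (mem_sup_left k) _ _ T'.tv r)
    · refine h.mv' ⟨hP.le (mul_mem hs ht), k, hP.isP.to_le (zpowers_le.2 (mul_mem hs ht)), r⟩ T'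
        (V _ (mul_mem hs ht)) V' e' ?_
      rw [mul_smul, h.mv T T' (V t ht) V' e', smul_add, h.mv S T' (V s hs) V' e', tv_fix S.tv,
        add_assoc, tv_two T.tv, add_zero]
  · rw [smul_add]
    exact all _ _ _ (tvn_conj h.set hg T₁) (h.conj hg V₁)
  · rw [← all t v _ T ⟨x, h1, h2, rfl⟩, add_assoc, tv_two T.tv, add_zero]

theorem jobPL : JobPL.{u} := by
  intro hNC hO hKC G X W _ _ _ _ _ Γ Y E D F hX hS hE _ hL hF
  by_cases k : ∀ P, Rel 2 (Γ ⊓ normalizer (E : Set G)) E P → Low D Y P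
  · exact main ⟨hX, hS, hE, hF, k, fun P => hO G W Γ Y P D hS, hKC G W Γ Y E D hS hE⟩
  simp only [Low, not_forall] at k
  obtain ⟨P, hP, A, h1, h2, h3⟩ := k
  obtain ⟨S, s1, s2⟩ := exists_isSyl_le hP.isP hP.le
  have hM : Mod 2 (Γ ⊓ normalizer (E : Set G)) D := hS.mod.mono inf_le_left
  exact .inl (hNC 2 G X W _ E S D (NP 2 D) _ F hX hE.pair hM hM.inv_NP (fun _ h => h) s1
    (up_QJ hE.pair hM.inv_AP)
    (fun k => h3 (hL A ((le_JJ' (.inl h2) (le_JJ' h2 (h1.trans s2) E) E).trans k) h2)) hF)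

end H95.CxPL
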