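import Cfsg.Agent.H1.D4Spec

/-! Finite checks on the tensor product `2 ⊗ 2 ⊗ 2` over the field with two elements. -/

set_option autoImplicit false
set_option Elab.async false
set_option synthInstance.maxSize 100000
set_option synthInstance.maxHeartbeats 400000

namespace H95.D4

open H1.LX

abbrev VV := X3 → ZMod 2

/-- The pure tensor `x` as a function: the value of the form on `x` and `y`. -/
def chi (x : X3) : VV := fun y => if Opp x y then 1 else 0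

def co (k : Fin 3) (x : X3) : Fin 3 := ![x.1, x.2.1, x.2.2] k

def e1 (a b : ZMod 2) : Fin 3 → ZMod 2 := ![a, b, a + b]

/-- The function with zero line sums and given values on `{0, 1}³`. -/
def ext (a b c d e f g h : ZMod 2) : VV := fun x =>
  e1 (e1 (e1 a b x.2.2) (e1 c d x.2.2) x.2.1) (e1 (e1 e f x.2.2) (e1 g h x.2.2) x.2.1) x.1

def InV (v : VV) : Prop := ∃ a b c d e f g h, v = ext a b c d e f g h

def Pure (v : VV) : Prop := ∃ x, v = chi x

/-- Representatives of the classes of involutions. -/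
def ep : Fin 7 → S33 :=
  ![s3 0, s3 1, s3 2, s3 0 * s3 1, s3 0 * s3 2, s3 1 * s3 2, s3 0 * s3 1 * s3 2]

def gx (x : X3) : S33 := (Equiv.swap 0 x.1, Equiv.swap 0 x.2.1, Equiv.swap 0 x.2.2)

def tr (j i : Fin 3) : S33 := gx (i, i, i) * s3 j * gx (i, i, i)

theorem inV_of_lines {v : VV} (h1 : ∀ j k, v (2, j, k) = v (0, j, k) + v (1, j, k))
    (h2 : ∀ j k, v (j, 2, k) = v (j, 0, k) + v (j, 1, k))
    (h3 : ∀ j k, v (j, k, 2) = v (j, k, 0) + v (j, k, 1)) : InV v := by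
  refine ⟨v (0, 0, 0), v (0, 0, 1), v (0, 1, 0), v (0, 1, 1), v (1, 0, 0), v (1, 0, 1), v (1, 1, 0),
    v (1, 1, 1), funext fun ⟨i, j, k⟩ => ?_⟩
  fin_cases i <;> fin_cases j <;> fin_cases k <;> simp [ext, e1, h1, h2, h3]

theorem ext_eq (a b c d e f g h : ZMod 2) : ext a b c d e f g h =
    a • chi (1, 1, 1) + b • chi (1, 1, 0) + c • chi (1, 0, 1) + d • chi (1, 0, 0) +
      e • chi (0, 1, 1) + f • chi (0, 1, 0) + g • chi (0, 0, 1) + h • chi (0, 0, 0) := by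
  funext x
  revert a b c d e f g h x
  decide +kernel

theorem fix_s3' : ∀ k : Fin 3, ∀ a b c d e f g h : ZMod 2,
    (∀ x, ext a b c d e f g h (act3 (s3 k) x) = ext a b c d e f g h x) →
    (∀ y, ext a b c d e f g h y = 0) ∨ (∃ x, co k x = 0 ∧ ∀ y, ext a b c d e f g h y = chi x y) ∨
    ∃ x, co k x = 0 ∧ ∃ x', co k x' = 0 ∧ ∀ y, ext a b c d e f g h y = chi x y + chi x' y := by
  decide +kernel

theorem fix_s3 {k : Fin 3} {v : VV} (hv : InV v) (h : ∀ x, v (act3 (s3 k) x) = v x) :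
    v = 0 ∨ (∃ x, co k x = 0 ∧ v = chi x) ∨
      ∃ x, co k x = 0 ∧ ∃ x', co k x' = 0 ∧ v = chi x + chi x' := by
  obtain ⟨a, b, c, d, e, f, g, h', rfl⟩ := hv
  rcases fix_s3' k a b c d e f g h' h with h | ⟨x, h1, h⟩ | ⟨x, h1, x', h2, h⟩
  · exact .inl (funext h)
  · exact .inr (.inl ⟨x, h1, funext h⟩)
  · exact .inr (.inr ⟨x, h1, x', h2, funext h⟩)

theorem free' : ∀ i : Fin 7, ∀ a b c d e f g h : ZMod 2,
    (∀ x, ext a b c d e f g h (act3 (ep i) x) = ext a b c d e f g h x) →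
    (∀ x, ext a b c d e f g h x = ext (a + e) (b + f) (c + g) (d + h) 0 0 0 0 x +
      ext (a + e) (b + f) (c + g) (d + h) 0 0 0 0 (act3 (ep i) x)) ∨
    (∀ x, ext a b c d e f g h x = ext (a + c) (b + d) 0 0 (e + g) (f + h) 0 0 x +
      ext (a + c) (b + d) 0 0 (e + g) (f + h) 0 0 (act3 (ep i) x)) ∨
    (∀ x, ext a b c d e f g h x = ext (a + b) 0 (c + d) 0 (e + f) 0 (g + h) 0 x +
      ext (a + b) 0 (c + d) 0 (e + f) 0 (g + h) 0 (act3 (ep i) x)) := by
  decide +kernel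

theorem free {i : Fin 7} {v : VV} (hv : InV v) (h : ∀ x, v (act3 (ep i) x) = v x) :
    ∃ u, InV u ∧ ∀ x, v x = u x + u (act3 (ep i) x) := by
  obtain ⟨a, b, c, d, e, f, g, h', rfl⟩ := hv
  rcases free' i a b c d e f g h' h with k | k | k <;> exact ⟨_, ⟨_, _, _, _, _, _, _, _, rfl⟩, k⟩

theorem nine' : ∀ k : Fin 3, ∀ a b c d e f g h : ZMod 2,
    (∀ x, ext a b c d e f g h (act3 (s3 k) x) = ext a b c d e f g h x) →
    (∀ x, co k x = 0 → ∃ w, ∀ y, ext a b c d e f g h y + chi x y = chi w y) →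
    ∀ y, ext a b c d e f g h y = 0 := by
  decide +kernel

theorem nine {k : Fin 3} {v : VV} (hv : InV v) (h : ∀ x, v (act3 (s3 k) x) = v x)
    (h' : ∀ x, co k x = 0 → Pure (v + chi x)) : v = 0 := by
  obtain ⟨a, b, c, d, e, f, g, h'', rfl⟩ := hv
  exact funext (nine' k a b c d e f g h'' h fun x hx =>
    let ⟨w, hw⟩ := h' x hx
    ⟨w, congrFun hw⟩)

theorem perm_inv : ∀ σ : Equiv.Perm (Fin 3), σ * σ = 1 →
    σ = 1 ∨ ∃ τ : Equiv.Perm (Fin 3), σ = τ * Equiv.swap 1 2 * τ⁻¹ := by decide +kernel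

theorem inv_conj {g : S33} (h : g * g = 1) (h1 : g ≠ 1) : ∃ (k : S33) (i : Fin 7),
    g = k * ep i * k⁻¹ := by
  obtain ⟨a, b, c⟩ := g
  simp only [Prod.mk_mul_mk, Prod.mk_eq_one] at h
  rcases perm_inv a h.1 with rfl | ⟨a, rfl⟩ <;> rcases perm_inv b h.2.1 with rfl | ⟨b, rfl⟩ <;>
    rcases perm_inv c h.2.2 with rfl | ⟨c, rfl⟩
  · exact absurd rfl h1
  · exact ⟨(1, 1, c), 2, by simp [ep, s3]⟩
  · exact ⟨(1, b, 1), 1, by simp [ep, s3]⟩
  · exact ⟨(1, b, c), 5, by simp [ep, s3]⟩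
  · exact ⟨(a, 1, 1), 0, by simp [ep, s3]⟩
  · exact ⟨(a, 1, c), 4, by simp [ep, s3]⟩
  · exact ⟨(a, b, 1), 3, by simp [ep, s3]⟩
  · exact ⟨(a, b, c), 6, by simp [ep, s3]⟩

theorem ep_sq : ∀ i, ep i * ep i = 1 := by decide +kernel

theorem s3_sq : ∀ k, s3 k * s3 k = 1 := by decide +kernel

theorem s3_ne : ∀ k, s3 k ≠ 1 := by decide +kernel

theorem act_mul (g h : S33) (x : X3) : act3 (g * h) x = act3 g (act3 h x) := rfl

theorem act_one (x : X3) : act3 1 x = x := rfl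

theorem act_s3 (k : Fin 3) (x : X3) : act3 (s3 k) (act3 (s3 k) x) = x := by
  rw [← act_mul, s3_sq, act_one]

theorem act_ep (i : Fin 7) (x : X3) : act3 (ep i) (act3 (ep i) x) = x := by
  rw [← act_mul, ep_sq, act_one]

theorem gx_act : ∀ x, act3 (gx x) (0, 0, 0) = x := by decide +kernel

theorem gx_comm : ∀ k x, co k x = 0 → gx x * s3 k = s3 k * gx x := by decide +kernel

theorem s3_fix : ∀ k x, co k x = 0 → act3 (s3 k) x = x := by decide +kernel

theorem co_of_fix : ∀ k x, (∀ y, chi x (act3 (s3 k) y) = chi x y) → co k x = 0 := by decide +kernel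

theorem chi_inj : ∀ x y, (∀ w, chi x w = chi y w) → x = y := by decide +kernel

theorem chi_ne : ∀ x, ¬ ∀ w, chi x w = 0 := by decide +kernel

theorem conj_s3 : ∀ (g : S33) (j : Fin 3), ∃ i, g * s3 j * g⁻¹ = tr j i := by decide +kernel

theorem tr_mul : ∀ j i j' i' k, tr j i * s3 k ≠ tr j' i' := by decide +kernel

theorem card_nine : ∀ k, Fintype.card {x : X3 // co k x = 0} = 9 := by decide +kernel

theorem chi_add_s3 : ∀ k x, (∀ y, chi x y + chi x (act3 (s3 k) y) = 0) ∨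
    ∃ w, ∀ y, chi x y + chi x (act3 (s3 k) y) = chi w y := by decide +kernel

theorem f2a' : ∀ y u, ¬ Opp (0, 0, 0) y → Opp u (0, 0, 0) →
    (∃ w, ∀ t, chi u t + (chi (0, 0, 0) t + chi y t) = chi w t) →
    (∀ t, chi (0, 0, 0) t + chi y t = 0) ∨ ∃ w, ∀ t, chi (0, 0, 0) t + chi y t = chi w t := by
  decide +kernel

theorem opp_act (g : S33) (a b : X3) : Opp (act3 g a) (act3 g b) ↔ Opp a b := by
  simp [Opp, act3]

theorem chi_act (g : S33) (a b : X3) : chi (act3 g a) (act3 g b) = chi a b := by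
  simp only [chi, opp_act]

theorem act_surj (g : S33) (a : X3) : ∃ b, a = act3 g b :=
  ⟨act3 g⁻¹ a, by rw [← act_mul, mul_inv_cancel, act_one]⟩

theorem f2a (x y u : X3) (h1 : ¬ Opp x y) (h2 : Opp u x)
    (h3 : ∃ w, ∀ t, chi u t + (chi x t + chi y t) = chi w t) :
    (∀ t, chi x t + chi y t = 0) ∨ ∃ w, ∀ t, chi x t + chi y t = chi w t := by
  obtain ⟨g, rfl⟩ : ∃ g, x = act3 g (0, 0, 0) := ⟨gx x, (gx_act x).symm⟩
  obtain ⟨y, rfl⟩ := act_surj g y
  obtain ⟨u, rfl⟩ := act_surj g u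
  obtain ⟨w, h3⟩ := h3
  obtain ⟨w, rfl⟩ := act_surj g w
  rw [opp_act] at h1 h2
  refine (f2a' y u h1 h2 ⟨w, fun t => by simpa only [chi_act] using h3 (act3 g t)⟩).imp
    (fun h t => ?_) fun ⟨w, h⟩ => ⟨act3 g w, fun t => ?_⟩ <;> obtain ⟨t, rfl⟩ := act_surj g t <;>
    simpa only [chi_act] using h t

theorem f2b : ∀ k x y, ¬ Opp x y →
    (∀ t, chi x (act3 (s3 k) t) + chi y (act3 (s3 k) t) = chi x t + chi y t) →
    (∀ t, chi x (act3 (s3 k) t) = chi x t) ∨ (∀ t, chi x t + chi y t = 0) ∨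
      ∃ w, ∀ t, chi x t + chi y t = chi w t := by decide +kernel

end H95.D4
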