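import Cfsg.Agent.H95.D4Dec
import Cfsg.Agent.H38.LxBase

/-! The local structure at a point of a `D₄` frame. -/

set_option autoImplicit false

namespace H95.D4

open Cfsg H78 H1.LX H38.Lx Subgroup

variable {G : Type*} [Group G]

/-- The image in `Q / ⟨z⟩`, as a function on the pure tensors. -/
noncomputable def bt (p : X3 → G) (q : G) : VV := fun y => cf q (p y)

/-- The part of the frame that only depends on `z`. -/
structure Fm (z : G) (κ : G → S33) (p : X3 → G) (lam : S33 →* G) : Prop where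
  lx : LX (O2C z) z
  mul : ∀ a b, a * z = z * a → b * z = z * b → κ (a * b) = κ a * κ b
  ker : ∀ a, a * z = z * a → (κ a = 1 ↔ a ∈ O2C z)
  mem : ∀ x, p x ∈ O2C z
  comm : ∀ x y, p x * p y = p y * p x ↔ ¬ Opp x y
  inV : ∀ q ∈ O2C z, InV (bt p q)
  gen : ∀ q ∈ O2C z, bt p q = 0 → q = 1 ∨ q = z
  fu : ∀ d, Fu z d ↔ ∃ x, d = p x ∨ d = p x * z
  lamz : ∀ g, lam g * z = z * lam g
  kap : ∀ g, κ (lam g) = g
  equi : ∀ g x, lam g * p x * (lam g)⁻¹ = p (act3 g x)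
  cjd : ∀ k, Cj z (lam (s3 k))
  md : ∀ k, p (0, 0, 0) ∈ O2C (lam (s3 k))
  nd1 : ∀ k, ¬ Cj z (lam (s3 k) * z)
  nd : ∀ i : Fin 7, 3 ≤ i.val → ¬ Cj z (lam (ep i)) ∧ ¬ Cj z (lam (ep i) * z)

variable {z y : G} {κ : G → S33} {p : X3 → G} {lam : S33 →* G}

theorem cf_line {Q : Subgroup G} (h : XS Q z) {a b c q : G} (ha : a ∈ Q) (hb : b ∈ Q) (hc : c ∈ Q)
    (hq : q ∈ Q) (e : a * b * c ∈ zpowers z) : cf q c = cf q a + cf q b := by
  have h1 : cf q (a * b * c) = 0 := by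
    rcases (mem_zpowers_invol h.z_sq _).1 e with e | e <;> rw [e]
    exacts [cf_one_right q, h.cf_z_right hq]
  rw [h.cf_mul_right (mul_mem ha hb) hc hq, h.cf_mul_right ha hb hq] at h1
  exact (zmod2_add_eq_zero.1 h1).symm

theorem fm_of_frame (F : Frame z y κ p lam) : Fm z κ p lam where
  lx := F.big.lx
  mul := F.mul
  ker := F.ker
  mem := F.mem
  comm := F.comm
  inV := fun q hq => inV_of_lines
    (fun j k => cf_line F.big.lx.toXS (F.mem _) (F.mem _) (F.mem _) hq (F.l1 j k))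
    (fun j k => cf_line F.big.lx.toXS (F.mem _) (F.mem _) (F.mem _) hq (F.l2 j k))
    (fun j k => cf_line F.big.lx.toXS (F.mem _) (F.mem _) (F.mem _) hq (F.l3 j k))
  gen := fun q hq h => F.big.lx.center q hq fun y hy => by
    have : closure (Set.range p) ≤ cen q := (closure_le _).2 (by
      rintro _ ⟨x, rfl⟩
      exact mem_cen.2 (cf_eq_zero.1 (congrFun h x)).symm)
    exact (mem_cen.1 (this (F.gen hy))).symm
  fu := F.fu
  lamz := F.lamz
  kap := F.kap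
  equi := F.equi
  cjd := F.cjd
  md := fun k => (F.md k).1
  nd1 := F.nd1
  nd := fun i hi => by
    fin_cases i
    · simp at hi
    · simp at hi
    · simp at hi
    · exact F.nd2 0 1 (by decide)
    · exact F.nd2 0 2 (by decide)
    · exact F.nd2 1 2 (by decide)
    · exact F.nd3

theorem cj_iff {a b d : G} (h : Cj a b) : Cj b d ↔ Cj a d := ⟨cj_trans h, cj_of h⟩

theorem Fm.conj [Finite G] (F : Fm z κ p lam) (g : G) : Fm (g * z * g⁻¹) (fun a => κ (g⁻¹ * a * g))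
    (fun x => g * p x * g⁻¹) ((MulAut.conj g).toMonoidHom.comp lam) := by
  have hz : Cj z (g * z * g⁻¹) := ⟨g, rfl⟩
  have hb : ∀ q, bt (fun x => g * p x * g⁻¹) q = bt p (g⁻¹ * q * g) := fun q => funext fun x => by
    simp only [bt]
    rw [cf_symm, cf_conj_left, cf_symm]
  have hc : ∀ d, Cj (g * z * g⁻¹) (g * d * g⁻¹) ↔ Cj z d := fun d =>
    (cj_iff hz).trans ⟨fun h => by simpa [mul_assoc] using cj_conj h g⁻¹, fun h => cj_conj h g⟩
  have hl : ∀ a, ((MulAut.conj g).toMonoidHom.comp lam) a = g * lam a * g⁻¹ := fun _ => rfl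
  have hm : ∀ a b : G, g * a * g⁻¹ * (g * b * g⁻¹) = g * (a * b) * g⁻¹ := fun a b => by group
  refine ⟨F.lx.O2C_of_conj hz, fun a b ha hb => ?_, fun a ha => ?_, fun x => conj_mem_O2C g (F.mem x),
    fun x y => ?_, fun q hq => ?_, fun q hq h => ?_, fun d => ?_, fun a => comm_conj g (F.lamz a),
    fun a => ?_, fun a x => ?_, fun k => (hc _).2 (F.cjd k), fun k => conj_mem_O2C g (F.md k),
    fun k => ?_, fun i hi => ?_⟩
  · rw [← F.mul _ _ ((comm_conj_iff g).1 ha) ((comm_conj_iff g).1 hb)]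
    congr 1; group
  · rw [mem_O2C_conj]; exact F.ker _ ((comm_conj_iff g).1 ha)
  · rw [← F.comm, hm, hm]; simp
  · rw [hb]; exact F.inV _ (mem_O2C_conj.1 hq)
  · rw [hb] at h
    rcases F.gen _ (mem_O2C_conj.1 hq) h with e | e
    · left; simpa [mul_eq_one_iff_eq_inv] using e
    · right; rw [← e]; group
  · obtain ⟨d, rfl⟩ : ∃ d', d = g * d' * g⁻¹ := ⟨g⁻¹ * d * g, by group⟩
    have : Fu (g * z * g⁻¹) (g * d * g⁻¹) ↔ Fu z d := by
      simp only [Fu, hc, mem_O2C_conj]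
      simp [mul_assoc]
    rw [this, F.fu]
    simp only [hm]
    simp
  · rw [hl]; simpa [mul_assoc] using F.kap a
  · rw [hl, ← F.equi]; group
  · rw [hl, hm, hc]; exact F.nd1 k
  · rw [hl, hm, hc, hc]; exact F.nd i hi

namespace Fm

variable (F : Fm z κ p lam)
include F

theorem xs : XS (O2C z) z := F.lx.toXS

theorem zz : z * z = 1 := F.xs.z_sq

theorem cz {q : G} (hq : q ∈ O2C z) : q * z = z * q := (F.xs.z_comm q hq).symm

theorem bt_mul {a b : G} (ha : a ∈ O2C z) (hb : b ∈ O2C z) : bt p (a * b) = bt p a + bt p b :=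
  funext fun x => F.xs.cf_mul_left ha hb (F.mem x)

theorem bt_z : bt p z = 0 := funext fun x => F.xs.cf_z_left (F.mem x)

omit F in
theorem bt_one : bt p (1 : G) = 0 := funext fun _ => cf_one_left _

omit F in
theorem bt_inv (a : G) : bt p a⁻¹ = bt p a := funext fun _ => cf_inv_left _ _

theorem bt_p (x : X3) : bt p (p x) = chi x := funext fun w => by
  by_cases h : Opp x w
  · rw [chi, if_pos h]; exact cf_eq_one.2 fun e => (F.comm x w).1 e h
  · rw [chi, if_neg h]; exact cf_eq_zero.2 ((F.comm x w).2 h)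

theorem bt_lam (g : S33) (q : G) (x : X3) : bt p (lam g * q * (lam g)⁻¹) (act3 g x) = bt p q x := by
  simp only [bt]
  rw [← F.equi, cf_conj]

theorem eq_of_bt {a b : G} (ha : a ∈ O2C z) (hb : b ∈ O2C z) (h : bt p a = bt p b) :
    a = b ∨ a = b * z := by
  have := F.gen _ (mul_mem (inv_mem hb) ha) (by
    rw [F.bt_mul (inv_mem hb) ha, bt_inv, h]; funext x; exact zmod2_add_self _)
  exact this.imp (fun e => (inv_mul_eq_one.1 e).symm) fun e => by rw [← e]; group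

theorem exists_bt {v : VV} (hv : InV v) : ∃ q ∈ O2C z, bt p q = v := by
  obtain ⟨a, b, c, d, e, f, g, h, rfl⟩ := hv
  let P : VV → Prop := fun v => ∃ q ∈ O2C z, bt p q = v
  have h1 : ∀ u v, P u → P v → P (u + v) := by
    rintro _ _ ⟨q, hq, rfl⟩ ⟨r, hr, rfl⟩
    exact ⟨q * r, mul_mem hq hr, F.bt_mul hq hr⟩
  have h2 : ∀ (a : ZMod 2) x, P (a • chi x) := fun a x => by
    rcases zmod2_cases a with rfl | rfl
    · exact ⟨1, one_mem _, by rw [bt_one, zero_smul]⟩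
    · exact ⟨p x, F.mem x, by rw [F.bt_p, one_smul]⟩
  rw [ext_eq]
  exact h1 _ _ (h1 _ _ (h1 _ _ (h1 _ _ (h1 _ _ (h1 _ _ (h1 _ _ (h2 _ _) (h2 _ _)) (h2 _ _)) (h2 _ _))
    (h2 _ _)) (h2 _ _)) (h2 _ _)) (h2 _ _)

theorem fu_p (x : X3) : Fu z (p x) := (F.fu _).2 ⟨x, .inl rfl⟩

theorem cj_of_pure {q : G} (hq : q ∈ O2C z) (h : Pure (bt p q)) : Cj z q := by
  obtain ⟨x, h⟩ := h
  exact ((F.fu q).2 ⟨x, F.eq_of_bt hq (F.mem x) (h.trans (F.bt_p x).symm)⟩).1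

theorem pure_of_cj {q : G} (hq : q ∈ O2C z) (h : Cj z q) (hne : q ≠ z) : Pure (bt p q) := by
  obtain ⟨x, rfl | rfl⟩ := (F.fu q).1 ⟨h, hne, hq⟩
  · exact ⟨x, F.bt_p x⟩
  · exact ⟨x, by rw [F.bt_mul (F.mem x) F.xs.z_mem, F.bt_z, F.bt_p, add_zero]⟩

theorem ne_one {d : G} (h : Cj z d) : d ≠ 1 := by
  obtain ⟨g, rfl⟩ := h
  exact (F.xs.conj g).z_ne

theorem sq {d : G} (h : Cj z d) : d * d = 1 := by
  obtain ⟨g, rfl⟩ := h
  exact (F.xs.conj g).z_sq

/-- Collinear points. -/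
theorem col {u : G} (hu : u ∈ O2C z) (h : Cj z u) (hne : u ≠ z) : Cj z (u * z) :=
  F.cj_of_pure (mul_mem hu F.xs.z_mem) (by
    rw [F.bt_mul hu F.xs.z_mem, F.bt_z, add_zero]; exact F.pure_of_cj hu h hne)

theorem kap_one : κ 1 = 1 := (F.ker 1 (by simp)).2 (one_mem _)

theorem kap_inv {a : G} (ha : a * z = z * a) : κ a⁻¹ = (κ a)⁻¹ :=
  eq_inv_of_mul_eq_one_left (by
    rw [← F.mul _ _ (Commute.inv_left ha).eq ha, inv_mul_cancel, F.kap_one])

theorem kap_conj {a b : G} (ha : a * z = z * a) (hb : b * z = z * b) :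
    κ (a * b * a⁻¹) = κ a * κ b * (κ a)⁻¹ := by
  rw [F.mul _ _ (Commute.mul_left ha hb).eq (Commute.inv_left ha).eq, F.mul _ _ ha hb, F.kap_inv ha]

theorem lam_not_mem {g : S33} (hg : g ≠ 1) : lam g ∉ O2C z := fun h =>
  hg ((F.kap g).symm.trans ((F.ker _ (F.lamz g)).2 h))

/-- An involution over a standard involution is conjugate to its lift, up to `z`. -/
theorem conj_lam {t : G} {i : Fin 7} (hz : t * z = z * t) (ht : t * t = 1) (hk : κ t = ep i) :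
    ∃ r ∈ O2C z, t = r * lam (ep i) * r⁻¹ ∨ t = r * (lam (ep i) * z) * r⁻¹ := by
  set d := lam (ep i) with hd
  have dd : d * d = 1 := by rw [hd, ← map_mul, ep_sq, map_one]
  have di : d⁻¹ = d := inv_eq_of_mul_eq_one_left dd
  have hq : t * d ∈ O2C z := (F.ker _ (Commute.mul_left hz (F.lamz _)).eq).1 (by
    rw [F.mul _ _ hz (F.lamz _), hk, F.kap, ep_sq])
  have e1 : d * (t * d) * d⁻¹ = (t * d)⁻¹ := by
    rw [mul_inv_rev, di, inv_eq_of_mul_eq_one_left ht, mul_assoc, mul_assoc, dd, mul_one]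
  obtain ⟨u, hu, e2⟩ := free (i := i) (F.inV _ hq) fun x => by
    rw [← F.bt_lam (ep i) (t * d) x, ← hd, e1, bt_inv]
  obtain ⟨r, hr, rfl⟩ := F.exists_bt hu
  have hr' : d * r⁻¹ * d⁻¹ ∈ O2C z := F.lx.norm d (F.lamz _) _ (inv_mem hr)
  have e3 : bt p (t * d) = bt p (r * (d * r⁻¹ * d⁻¹)) := funext fun x => by
    rw [e2, F.bt_mul hr hr', Pi.add_apply]
    congr 1
    conv_rhs => rw [← act_ep i x]
    rw [hd, F.bt_lam, bt_inv]
  refine ⟨r, hr, (F.eq_of_bt hq (mul_mem hr hr') e3).imp (fun e => ?_) fun e => ?_⟩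
  · calc t = t * d * d := by rw [mul_assoc, dd, mul_one]
      _ = _ := by rw [e]; group
  · calc t = t * d * d := by rw [mul_assoc, dd, mul_one]
      _ = r * (d * r⁻¹ * d⁻¹) * (z * d) := by rw [e, mul_assoc]
      _ = r * d * (r⁻¹ * z) := by rw [← (show d * z = z * d from F.lamz _)]; group
      _ = _ := by rw [F.cz (inv_mem hr)]; group

/-- The points commuting with `z` outside `Q`. -/
theorem classify {t : G} (h : Cj z t) (hz : t * z = z * t) (hQ : t ∉ O2C z) :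
    ∃ a k, a * z = z * a ∧ t = a * lam (s3 k) * a⁻¹ := by
  obtain ⟨g, i, e⟩ := inv_conj (g := κ t) (by rw [← F.mul _ _ hz hz, F.sq h, F.kap_one])
    fun e => hQ ((F.ker t hz).1 e)
  have lz : (lam g)⁻¹ * z = z * (lam g)⁻¹ := (Commute.inv_left (F.lamz g)).eq
  have h' := cj_conj h (lam g)⁻¹
  obtain ⟨r, hr, e'⟩ := F.conj_lam (t := (lam g)⁻¹ * t * (lam g)⁻¹⁻¹) (i := i)
    (Commute.mul_left (Commute.mul_left lz hz) (Commute.inv_left lz)).eq (F.sq h')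
    (by rw [F.kap_conj lz hz, F.kap_inv (F.lamz g), F.kap, e]; group)
  have c : ∀ x, (lam g)⁻¹ * t * (lam g)⁻¹⁻¹ = r * x * r⁻¹ → Cj z x := fun x hx => by
    rw [hx] at h'
    simpa [mul_assoc] using cj_conj h' r⁻¹
  by_cases hi : 3 ≤ i.val
  · exact absurd e' (not_or.2 ⟨fun e => (F.nd i hi).1 (c _ e), fun e => (F.nd i hi).2 (c _ e)⟩)
  obtain ⟨k, hk⟩ : ∃ k, ep i = s3 k := by
    fin_cases i
    exacts [⟨0, rfl⟩, ⟨1, rfl⟩, ⟨2, rfl⟩, absurd (by simp) hi, absurd (by simp) hi,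
      absurd (by simp) hi, absurd (by simp) hi]
  rw [hk] at e'
  refine ⟨lam g * r, k, (Commute.mul_left (F.lamz g) (F.cz hr)).eq, ?_⟩
  have := e'.resolve_right fun e => F.nd1 k (c _ e)
  calc t = lam g * ((lam g)⁻¹ * t * (lam g)⁻¹⁻¹) * (lam g)⁻¹ := by group
    _ = _ := by rw [this]; group

theorem kap_tr {t : G} (h : Cj z t) (hz : t * z = z * t) (hQ : t ∉ O2C z) : ∃ j i, κ t = tr j i := by
  obtain ⟨a, k, ha, rfl⟩ := F.classify h hz hQ
  obtain ⟨i, e⟩ := conj_s3 (κ a) k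
  exact ⟨k, i, by rw [F.kap_conj ha (F.lamz _), F.kap, e]⟩

/-- Over a transposition, one of `t`, `t z` is a point. -/
theorem cj_or {t : G} {k : Fin 3} (hz : t * z = z * t) (ht : t * t = 1) (hk : κ t = s3 k) :
    (Cj z t ∧ ¬ Cj z (t * z)) ∨ (¬ Cj z t ∧ Cj z (t * z)) := by
  obtain ⟨i, hi⟩ : ∃ i, s3 k = ep i := by
    fin_cases k
    exacts [⟨0, rfl⟩, ⟨1, rfl⟩, ⟨2, rfl⟩]
  obtain ⟨r, hr, e⟩ := F.conj_lam hz ht (hk.trans hi)
  rw [← hi] at e
  have e1 : r * lam (s3 k) * r⁻¹ * z = r * (lam (s3 k) * z) * r⁻¹ := by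
    rw [mul_assoc, F.cz (inv_mem hr)]; group
  have c1 : Cj z (r * lam (s3 k) * r⁻¹) := cj_conj (F.cjd k) r
  have c2 : ¬ Cj z (r * (lam (s3 k) * z) * r⁻¹) := fun h =>
    F.nd1 k (by simpa [mul_assoc] using cj_conj h r⁻¹)
  rcases e with rfl | rfl
  · exact .inl ⟨c1, e1 ▸ c2⟩
  · exact .inr ⟨c2, by rw [← e1, mul_assoc, F.zz, mul_one]; exact c1⟩

theorem p_mem [Finite G] {k : Fin 3} {x : X3} (h : co k x = 0) : p x ∈ O2C (lam (s3 k)) := by
  have := conj_mem_O2C (lam (gx x)) (F.md k)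
  rwa [F.equi, gx_act, ← map_mul, gx_comm k x h, map_mul, mul_inv_cancel_right] at this

theorem fix_of_comm {k : Fin 3} {q : G} (h : lam (s3 k) * q = q * lam (s3 k)) (x : X3) :
    bt p q (act3 (s3 k) x) = bt p q x := by
  rw [← F.bt_lam (s3 k) q x, h, mul_inv_cancel_right]

/-- The elements of `Q` fixed by `d` modulo `z`. -/
theorem mem_W [Finite G] {k : Fin 3} {q : G} (hq : q ∈ O2C z)
    (h : ∀ x, bt p q (act3 (s3 k) x) = bt p q x) :
    ∃ u ∈ O2C z ⊓ O2C (lam (s3 k)), q = u ∨ q = u * z := by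
  rcases fix_s3 (F.inV q hq) h with e | ⟨x, hx, e⟩ | ⟨x, hx, x', hx', e⟩
  · exact ⟨1, one_mem _, by simpa using F.gen q hq e⟩
  · exact ⟨p x, ⟨F.mem x, F.p_mem hx⟩, F.eq_of_bt hq (F.mem x) (e.trans (F.bt_p x).symm)⟩
  · exact ⟨p x * p x', mul_mem (mem_inf.2 ⟨F.mem x, F.p_mem hx⟩) ⟨F.mem x', F.p_mem hx'⟩,
      F.eq_of_bt hq (mul_mem (F.mem x) (F.mem x'))
        (by rw [e, F.bt_mul (F.mem x) (F.mem x'), F.bt_p, F.bt_p])⟩

end Fm

end H95.D4
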