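import Cfsg.Agent.H95.FiS3

/-! Type M(22): the classes of outer involutions and their centralisers. -/

set_option autoImplicit false
set_option maxRecDepth 4000

namespace H95.FS

open Cfsg Subgroup H80 H38 H74 Equiv
open H71 hiding look maskL
open H75 hiding cj VTriv
open H23.Fi hiding TT

variable {G : Type*} [Group G] {D : Set G} {θ : ℕ → G} {s t α β : MulAut G} {d g v : G} {i : ℕ}

theorem conj_comm (hs : s g = g) : MulAut.conj g * s = s * MulAut.conj g := by
  have := aut_conj s g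
  rw [hs] at this
  rw [← mul_inv_eq_iff_eq_mul.1 this]

theorem isConj_fix (hs : s g = g) (x : G) :
    IsConj (s * MulAut.conj (g * x * g⁻¹)) (s * MulAut.conj x) := by
  refine (isConj_iff.2 ⟨MulAut.conj g, ?_⟩).symm
  rw [← mul_assoc, conj_comm hs, map_mul, map_mul, map_inv]; group

theorem x7_lt (hi : X7.testBit i = true) : i < M22.n := by
  have : ∀ i ∈ [0, 24, 128, 584, 411, 421, 700], i < M22.n := by decide
  exact this i ((H80.testBit_maskL _ _).1 hi)

theorem reg (h : IsFi M22 ord22 D θ) (hv : h.rho v ∈ fixA X7) {l : List G}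
    (hl : ∀ x ∈ l, ∃ i < 10, θ (nth qV 0 i) = x) (e : l.prod * θ 6 * l.prod⁻¹ = θ (h.rho v 6)) :
    v = l.prod := by
  have k1 : h.rho l.prod ∈ fixA X7 := ⟨rho_QA h _, fun p hp => (h.rho_fix_iff _ (x7_lt hp)).2
    (Commute.list_prod_left _ _ fun x hx =>
      let ⟨_, hi, e⟩ := hl x hx; e ▸ of_prB h v1 v3 hi (x7_lt hp) hp)⟩
  have k2 : h.rho (l.prod⁻¹ * v) ∈ fixA (Nat.lor X7 (one 6)) := ⟨rho_QA h _, fun p hp => by
    rcases (testBit_lor _ _ _).1 hp with hp | hp
    · rw [map_mul, map_inv]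
      exact (mul_mem (inv_mem k1) hv).2 p hp
    · rw [(testBit_one _ _).1 hp, h.rho_fix_iff _ (by decide), ← conj_eq_iff_commute]
      rw [h.rho_conj _ (by decide)] at e
      calc _ = l.prod⁻¹ * (v * θ 6 * v⁻¹) * l.prod := by group
        _ = _ := by rw [← e]; group⟩
  have k3 : _ ≤ 1 := (bd_done (ok22 (uniq h)) v8).mono (by decide +kernel) _ (valid_fixA _)
  haveI : Finite (fixA (Nat.lor X7 (one 6))) := finite_of_le (M := M22) fun _ h => h.1
  rw [eq_bot_of_card_le _ k3, mem_bot, map_eq_one_iff _ h.rho_injective] at k2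
  exact (inv_mul_eq_one.1 k2).symm

section
variable (h : IsFi M22 ord22 D θ) (R : Rep θ s (M22.π 14))
include h R

theorem fix_b : s (θ 24) = θ 24 :=
  fix_of h R ((tb_eq _ _).symm.trans (of_allL (bnd_iff.1 (bnd_iff.1 (bnd_iff.1 v9).2).2).1 24
    (by simp)))

theorem in_base (T : OI t) (h1 : ∀ i ∈ [0, 24, 128, 584, 700], t (θ i) = θ i)
    (h2 : t (θ 411) = θ 421) (h3 : t (θ 421) = θ 411) :
    ∃ l, CL D l ∧ (∀ x ∈ l, s x = x) ∧ t = s * MulAut.conj l.prod := by
  have S := R.oi h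
  obtain ⟨c1, c2, c3, c4⟩ := bnd_iff.1 v9 |>.imp_right fun k => bnd_iff.1 k |>.imp_right bnd_iff.1
  rw [tb_eq] at c1 c2
  have s1 : s (θ 411) = θ 421 := by
    have := env22.of_maps c4
    rw [evw_cons, evw_nil, mul_one] at this
    rw [R.2 _ (by decide), this]
  have s2 : s (θ 421) = θ 411 := by rw [← s1, S.tt]
  obtain ⟨v, e⟩ := inn_mul h T.out S.out
  have k1 : h.rho v ∈ fixA X7 := ⟨rho_QA h _, fun p hp => (h.rho_fix_iff _ (x7_lt hp)).2 (by
    have k : ∀ i ∈ [0, 24, 128, 584, 700], t (s (θ i)) = θ i := fun i hi => by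
      rw [fix_of h R ((tb_eq _ _).symm.trans (of_allL c3 i hi)), h1 i hi]
    simp only [List.forall_mem_cons] at k
    have hp' := (H80.testBit_maskL _ _).1 hp
    rw [← conj_eq_iff_commute, ← MulAut.conj_apply, e, MulAut.mul_apply]
    simp only [List.mem_cons, List.not_mem_nil, or_false] at hp'
    rcases hp' with rfl | rfl | rfl | rfl | rfl | rfl | rfl <;> simp only [k, s1, s2, h2, h3])⟩
  have k2 : TY.testBit (h.rho v 6) = true :=
    ((valid_fixA X7).next (ok22 (uniq h)) v7).ts TY (by simp) _ k1 6 c1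
  obtain ⟨l, l1, l2, l3⟩ := orb_cl h v1 le_rfl v2 v5 k2
  have k3 : v * v = 1 := reg h k1 l2 l3 ▸ l1.prod_sq h.tt.1
  have et : t = MulAut.conj v * s := by rw [e, mul_assoc, S.sq, mul_one]
  have k4 : s v = v := by
    have := T.sq
    rw [et, mul_assoc, ← mul_assoc s, show s * MulAut.conj v * s = MulAut.conj (s v) by
      rw [← aut_conj, inv_eq_of_mul_eq_one_right S.sq], ← map_mul,
      map_eq_one_iff _ (conj_inj22 h)] at this
    rw [← inv_eq_of_mul_eq_one_right this, inv_eq_of_mul_eq_one_right k3]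
  have k5 : Fx.testBit (h.rho v 6) = true := (fx_iff h R (h.rho_lt v (by decide))).1 (by
    rw [h.rho_conj _ (by decide), map_mul, map_mul, map_inv, k4, fix_of h R c2])
  obtain ⟨l, l1, l2, l3⟩ := orb_cl h v1 (by decide) v2 v6 ((testBit_land _ _ _).2 ⟨k2, k5⟩)
  refine ⟨l, l1, fun x hx => let ⟨_, hi, e⟩ := l2 x hx; e ▸ fix_of h R (of_inT v4 hi), ?_⟩
  rw [← reg h k1 (fun x hx => let ⟨i, hi, e⟩ := l2 x hx; ⟨i, by omega, e⟩) l3, et, conj_comm k4]

theorem short {l : List G} (hl : CL D l) (hf : ∀ x ∈ l, s x = x) (e : l.length ≤ 2) :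
    IsConj (s * MulAut.conj l.prod) s ∨ IsConj (s * MulAut.conj l.prod) (s * MulAut.conj (θ 0)) ∨
      IsConj (s * MulAut.conj l.prod) (s * MulAut.conj (θ 0 * θ 24)) := by
  match l, hl, hf, e with
  | [], _, _, _ => exact Or.inl (by rw [List.prod_nil, map_one, mul_one])
  | [x], hl, hf, _ =>
    obtain ⟨⟨g, hg⟩, -, rfl⟩ := trans_E h R (cl_one.1 hl) (hf x (by simp))
    exact Or.inr (Or.inl (by simpa only [List.prod_singleton] using isConj_fix hg _))
  | [x, y], hl, hf, _ =>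
    obtain ⟨hx, hy, n, c⟩ := cl_two.1 hl
    obtain ⟨⟨g, hg⟩, -, rfl⟩ := trans_E h R hx (hf x (by simp))
    replace hg : s g = g := hg
    obtain ⟨k, k1, k2, k3⟩ := trans_S h R (d := g⁻¹ * y * g)
      ⟨by simpa using h.tt.2.1 g⁻¹ y hy, fun e => n (by simp [← e, mul_assoc]),
        commute_conj_iff'.1 c⟩ (by simp [hg, hf y])
    refine Or.inr (Or.inr ?_)
    have := isConj_fix (s := s) (g := g * k) (by rw [map_mul, hg, k1]) (θ 0 * θ 24)
    rwa [show g * k * (θ 0 * θ 24) * (g * k)⁻¹ = [g * θ 0 * g⁻¹, y].prod by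
      calc _ = g * (k * θ 0 * k⁻¹) * (k * θ 24 * k⁻¹) * g⁻¹ := by group
        _ = _ := by rw [k3, conj_eq_iff_commute.2 k2]; simp [mul_assoc]] at this

theorem classify (T : OI t) : IsConj t s ∨ IsConj t (s * MulAut.conj (θ 0)) ∨
    IsConj t (s * MulAut.conj (θ 0 * θ 24)) := by
  obtain ⟨θ', h', c1, c2, c3⟩ := config h T
  obtain ⟨s', R'⟩ := exists_s h'
  obtain ⟨l, l1, l2, rfl⟩ := in_base h' R' T c1 c2 c3
  obtain ⟨l', m1, m2, m3, m4⟩ := reduce h' (R'.oi h') _ l le_rfl l1 l2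
  obtain ⟨ε, e1, e2⟩ := R.transport h h' R'
  have k : ∀ x, IsConj (s' * MulAut.conj (ε x)) (s * MulAut.conj x) := fun x =>
    (isConj_iff.2 ⟨ε, by rw [← e2, ← aut_conj]; group⟩).symm
  refine (short h' R' m1 m2 m3).imp (fun c => (m4.trans c).trans (isConj_iff.2 ⟨ε, e2⟩).symm)
    (Or.imp (fun c => (m4.trans c).trans ?_) fun c => (m4.trans c).trans ?_)
  · exact e1 0 (by decide) ▸ k _
  · rw [← e1 0 (by decide), ← e1 24 (by decide), ← map_mul]
    exact k _

theorem rep_a : Rep θ (s * MulAut.conj (θ 0)) (evw M22.π [14, 3]) := by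
  have := R.word h (v := [3]) (over_of (by decide +kernel))
  rwa [ev_one] at this

theorem rep_ab : Rep θ (s * MulAut.conj (θ 0 * θ 24)) (evw M22.π [14, 3, 8]) := by
  have := R.word h (v := app [3] [8]) (over_of (by decide +kernel))
  rwa [ev_app, ev_one, ev_one] at this

end

/-- The number of fixed points. -/
noncomputable def nfix (D : Set G) (α : MulAut G) : ℕ := {d | d ∈ D ∧ α d = d}.ncard

theorem nfix_conj (h : IsFi M22 ord22 D θ) (c : IsConj α β) : nfix D α = nfix D β := by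
  obtain ⟨ε, rfl⟩ := isConj_iff.1 c
  refine (Set.ncard_image_of_injective _ ε.injective).symm.trans (congrArg Set.ncard ?_)
  ext d
  constructor
  · rintro ⟨x, ⟨h1, h2⟩, rfl⟩
    exact ⟨mem_D h ε h1, by simp [h2]⟩
  · rintro ⟨h1, h2⟩
    exact ⟨ε⁻¹ d, ⟨mem_D h _ h1, ε.injective (by simpa using h2)⟩, by simp⟩

theorem nfix_eq (h : IsFi M22 ord22 D θ) {w : List ℕ} (R : Rep θ α (evw M22.π w)) {n : ℕ}
    (e : sizeChk 12 (fixSet A22 12 3510 w) n = true) : nfix D α = n := by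
  have lt : ∀ p ∈ bits (fixSet A22 12 3510 w), p < M22.n := fun p hp =>
    ((testBit_fixSet env22 (m := 12) (by decide) w p).1 hp).1
  rw [← ncard_bits e, ← Set.InjOn.ncard_image (f := θ) fun p hp q hq =>
    h.real.inj p (lt p hp) q (lt q hq)]
  refine congrArg Set.ncard (Set.ext fun d => ⟨fun ⟨h1, h2⟩ => ?_, ?_⟩)
  · obtain ⟨p, hp, rfl⟩ := h.real.surj d h1
    exact ⟨p, (R.fix_iff h hp).1 h2, rfl⟩
  · rintro ⟨p, hp, rfl⟩
    exact ⟨h.real.mem p (lt p hp), (R.fix_iff h (lt p hp)).2 hp⟩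

theorem valid_fix (h : IsFi M22 ord22 D θ) {w : List ℕ} (hw : Over Lam22 w)
    (R : Rep θ α (evw M22.π w)) : (Fix α).map h.rho ≤ centA C22 [w] := by
  rintro _ ⟨g, hg, rfl⟩
  refine ⟨rho_QA h g, ?_⟩
  rintro _ ⟨w', hw', rfl⟩
  rw [List.mem_singleton.1 hw']
  exact ((R.comm_iff h).1 hg).symm

theorem elem_closure {S : Set G} (hc : ∀ x ∈ S, ∀ y ∈ S, x * y = y * x)
    (h2 : ∀ x ∈ S, x ^ 2 = 1) : IsElementaryAbelian 2 (closure S) := by
  have := isMulCommutative_closure hc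
  refine ⟨this, fun a ha => ?_⟩
  induction ha using closure_induction with
  | mem x hx => exact h2 x hx
  | one => simp
  | mul x y hx hy k1 k2 => rw [Commute.mul_pow (setLike_mul_comm hx hy), k1, k2, mul_one]
  | inv x _ k => rw [inv_pow, k, inv_one]

section
variable (h : IsFi M22 ord22 D θ) (R : Rep θ s (M22.π 14))
include h R

theorem nfix_s : nfix D s = 360 :=
  nfix_eq h (w := [14]) (by rwa [evw_cons, evw_nil, mul_one]) par22b

theorem nfix_a : nfix D (s * MulAut.conj (θ 0)) = 64 := nfix_eq h (rep_a h R) (bnd_iff.1 o7).1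

theorem nfix_ab : nfix D (s * MulAut.conj (θ 0 * θ 24)) = 72 :=
  nfix_eq h (rep_ab h R) (beq_eq o2 ▸ (bnd_iff.1 o7).2)

theorem fix_sa (g : G) : (s * MulAut.conj (θ 0)) g = g ↔ g ∈ Fix s ⊓ centralizer {θ 0} := by
  have e : Commute g (θ 0) → (s * MulAut.conj (θ 0)) g = s g := fun c => by
    rw [MulAut.mul_apply, MulAut.conj_apply, conj_eq_iff_commute.2 c.symm]
  refine ⟨fun k => ?_, fun k => (e (mem_cent.1 k.2)).trans k.1⟩
  have o : Over Lam22 [14, 3] := over_of (by decide +kernel)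
  have c := (h.rho_fix_iff g (by decide)).1 (((valid_centA (C := C22) (ws := [[14, 3]])
    fun w hw => List.mem_singleton.1 hw ▸ o).next (ok22 (uniq h)) p9).fx 0 ((testBit_one _ _).2 rfl) _
      (valid_fix h o (rep_a h R) ⟨g, k, rfl⟩))
  exact ⟨(e c).symm.trans k, mem_cent.2 c⟩

theorem cent_a [Finite G] : Nonempty (↥(Fix s ⊓ centralizer {θ 0}) ≃*
    Multiplicative (ZMod 2) × PSp 3 (ZMod 2)) := by
  have V : ∀ c < 64, Nat.testBit 0xfffffffffffffffe c = true ↔ c ≠ 0 := by decide +kernel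
  obtain ⟨ψ, ψ1, -, ψ3⟩ := hom_of_code h (ys := yS) (qs := qS) p1 p5 p6 (H := Sp6)
    (r := fun c => H54.tv (vS c) 1) sp_center2 (by
      rw [eq_top_iff, ← sp_group.2.2]
      refine closure_mono fun g hg => ?_
      obtain ⟨v, hv, rfl⟩ := sp_coord.surj g hg
      obtain ⟨c, hc, h0, rfl⟩ := vS_surj v hv
      exact ⟨c, (V c hc).2 h0, rfl⟩) (fun _ _ _ => tv_sq2 _) fun c hc h1 d hd h2 => by
      rw [vS_op hc hd]
      exact sp_coord.conj _ (vS_ne c hc ((V c hc).1 h1)) _ (vS_ne d hd ((V d hd).1 h2))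
  obtain ⟨-, -, c0, χ, hχ⟩ := fix_s h R
  have le : closure (θ '' {p | p ∈ qS}) ≤ Fix s ⊓ centralizer {θ 0} := (closure_le _).2 (by
    rintro _ ⟨p, hp, rfl⟩
    obtain ⟨-, k1, k2, -⟩ := (mem_qS h R).1 hp
    exact ⟨k1, mem_cent.2 k2.symm⟩)
  have ma : θ 0 ∈ closure (θ '' {p | p ∈ qS}) := by
    have lt := fun i hi => lt_of_blt (of_allL p8 i hi)
    have := ev_eq (ok22 (uniq h)) h p7
    rw [ev_one, show ev C22.M θ _ = _ from (ev_prodW h p1 lt).2] at this
    refine (show _ = θ 0 from this) ▸ Subgroup.list_prod_mem _ fun x hx => ?_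
    obtain ⟨i, hi, rfl⟩ := List.mem_map.1 hx
    exact subset_closure ⟨_, nth_mem (qs := qS) (lt i hi), rfl⟩
  let Φ := (χ.comp (inclusion (le.trans inf_le_left))).prod ψ
  have two : ∀ x y z : Multiplicative (ZMod 2), x ≠ 1 → y = z ∨ y * x = z := by decide
  have surj : Function.Surjective Φ := fun ⟨z, k⟩ => by
    obtain ⟨g, rfl⟩ := ψ1 k
    rcases two _ (χ (inclusion (le.trans inf_le_left) g)) z
      (hχ ⟨_, fix_a h R⟩ (h.real.mem 0 (by decide))) with e | e
    · exact ⟨g, Prod.ext e rfl⟩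
    · refine ⟨g * ⟨θ 0, ma⟩, ?_⟩
      rw [map_mul]
      refine Prod.ext e ?_
      show ψ g * ψ _ = _
      rw [ψ3 ⟨_, ma⟩ fun i hi => ((mem_qS h R).1 hi).2.2.1, mul_one]
  have c1 := card_inf_cent (Fix s) (θ 0) {d | d ∈ D ∧ s d = d} fun y hy =>
    let ⟨g, _, e⟩ := trans_E h R hy.1 hy.2; ⟨g, g.2, e⟩
  have c2 : Nat.card (Multiplicative (ZMod 2) × Sp6) = 2 * 1451520 := by
    rw [Nat.card_prod, Cfsg.Agent.S0245.result (ZMod.card 2) 3]
    simp [Finset.prod_range_succ]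
  have c3 := Nat.card_le_card_of_surjective _ surj
  rw [show Set.ncard _ = 360 from nfix_s h R, c0] at c1
  have e := eq_of_le_of_card_ge le (by omega)
  exact ⟨(MulEquiv.subgroupCongr e.symm).trans ((MulEquiv.ofBijective Φ
    (surj.bijective_of_nat_card_le (by rw [e]; omega))).trans
      ((MulEquiv.refl _).prodCongr (quotC sp_center2).symm))⟩

theorem cent_ab [Finite G] : ∃ O : Subgroup G, O = (pCore 2 (Fix (s * MulAut.conj (θ 0 * θ 24)))).map
    (Fix (s * MulAut.conj (θ 0 * θ 24))).subtype ∧ IsElementaryAbelian 2 O ∧ Nat.card O = 64 ∧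
    ∃ _ : (O.subgroupOf (Fix (s * MulAut.conj (θ 0 * θ 24)))).Normal,
      Nonempty (Fix (s * MulAut.conj (θ 0 * θ 24)) ⧸ O.subgroupOf _ ≃*
        isometryGroup (ZMod 2) (quadFormMinus 2 (ZMod 2) 1 1)) := by
  have O := ok22 (uniq h)
  have R' := rep_ab h R
  generalize s * MulAut.conj (θ 0 * θ 24) = t at R' ⊢
  have nd := H58.qMinus_nondeg (F := ZMod 2) 2 (a := 1) (b := 1) (by decide)
  have V : ∀ c < 64, nsO.testBit c = true → q6 (vO c) = 1 := fun c hc k => by
    rw [H58.coe_qMinus]; exact (vO_q c hc).2 k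
  obtain ⟨ψ, ψ1, ψ2, -⟩ := hom_of_code h (ys := yO) (qs := qO) o1 o3 o4 (H := H56.O q6)
    (r := fun c => H56.refl q6 (vO c)) (o2_center nd (by simp)) (by
      rw [eq_top_iff, ← (o2_group nd (by simp)).2.2]
      refine closure_mono ?_
      rintro _ ⟨v, hv, rfl⟩
      obtain ⟨c, hc, rfl⟩ := vO_surj v
      exact ⟨c, (vO_q c hc).1 (H58.coe_qMinus 2 (ZMod 2) 1 1 ▸ hv), rfl⟩)
    (fun c hc k => tt_sq (o2_group nd (by simp)).1 ⟨_, V c hc k, rfl⟩) fun c hc h1 d hd h2 => by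
      rw [vO_op hc hd]
      exact (o2_coord nd).conj _ (V c hc h1) _ (V d hd h2)
  have le : closure (θ '' {p | p ∈ qO}) ≤ Fix t := (closure_le _).2 (by
    rintro _ ⟨p, hp, rfl⟩
    have k : (fixSet A22 12 3510 [14, 3, 8]).testBit p = true :=
      beq_eq o2 ▸ (H80.testBit_maskL _ _).2 hp
    exact (R'.fix_iff h ((testBit_fixSet env22 (m := 12) (by decide) _ p).1 k).1).2 k)
  have o : Over Lam22 [14, 3, 8] := over_of (by decide +kernel)
  have c1 := two_le h (H := centA C22 [[14, 3, 8]]) inf_le_left (valid_fix h o R')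
    ⟨R'.1, by rintro _ ⟨w, hw, rfl⟩; rw [List.mem_singleton.1 hw]; rfl⟩
    (outer22' (uniq h) (over_of (by decide +kernel)))
  have c2 : _ ≤ 6635520 := (bd_done O o8).mono (by decide +kernel) _
    (valid_centA fun w hw => List.mem_singleton.1 hw ▸ o)
  let τ := H56.toO _ (H58.coe_qMinus 2 (ZMod 2) 1 1)
  have c3 : Nat.card (H56.O q6) = 51840 := (Nat.card_congr τ.symm.toEquiv).trans
    ((Cfsg.Agent.S0288.result (F := ZMod 2) (q := 2) (ZMod.card 2) 3 (by norm_num) 1 1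
      (by decide)).trans (by decide))
  have w : ∀ i < 6, Over M22.L (ow i) ∧
      ev M22 θ (ow i) = θ (nth qO 0 (2 * i)) * θ (nth qO 0 (2 * i + 1)) := fun i hi => by
    have := ev_prodW h o1 (is := [2 * i, 2 * i + 1]) (by simp; omega)
    exact ⟨this.1, this.2.trans (by simp)⟩
  have r : ∀ i < 6, ∀ j < 6, ev M22 θ (ow i) * ev M22 θ (ow j) =
      ev M22 θ (ow j) * (ev M22 θ (ow i))⁻¹ := fun i hi j hj => by
    have := ev_eq O h (of_allLt (bnd_iff.1 (of_allLt o5 i hi)).2 j hj)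
    rwa [ev_app, ev_app, show ev C22.M θ (rev _) = _ from ev_rev h (w i hi).1] at this
  have sq : ∀ i < 6, ev M22 θ (ow i) * ev M22 θ (ow i) = 1 := fun i hi => by
    rw [r i hi i hi, mul_inv_cancel]
  let S : Set G := {x | ∃ i < 6, ev M22 θ (ow i) = x}
  have el : IsElementaryAbelian 2 (closure S) := elem_closure (by
    rintro _ ⟨i, hi, rfl⟩ _ ⟨j, hj, rfl⟩
    rw [r i hi j hj, inv_eq_of_mul_eq_one_right (sq i hi)]) (by
    rintro _ ⟨i, hi, rfl⟩
    rw [pow_two, sq i hi])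
  have le2 : closure S ≤ ψ.ker.map (Subgroup.subtype _) := (closure_le _).2 (by
    rintro _ ⟨i, hi, rfl⟩
    have m1 := nth_mem (qs := qO) (i := 2 * i) (by change _ < 72; omega)
    have m2 := nth_mem (qs := qO) (i := 2 * i + 1) (by change _ < 72; omega)
    refine ⟨⟨_, subset_closure ⟨_, m1, rfl⟩⟩ * ⟨_, subset_closure ⟨_, m2, rfl⟩⟩, ?_, (w i hi).2.symm⟩
    have v := bnd_iff.1 (of_allL (bnd_iff.1 o4).1 _ m2)
    rw [SetLike.mem_coe, MonoidHom.mem_ker, map_mul, ψ2 _ m1 _ rfl, ψ2 _ m2 _ rfl,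
      beq_eq (bnd_iff.1 (of_allLt o5 i hi)).1]
    exact tt_sq (o2_group nd (by simp)).1 ⟨_, V _ (lt_of_blt v.1) ((tb_eq _ _).symm.trans v.2), rfl⟩)
  have c4 : 64 ≤ Nat.card (closure S) := by
    rw [← ncard_bits (bnd_iff.1 o6).1, ← SetLike.coe_sort_coe, Nat.card_coe_set_eq]
    refine (Set.ncard_le_ncard (t := (fun g => h.rho g 3) '' (closure S : Set G)) (fun p hp =>
      growW_sub env22 (fun p => p ∈ (fun g => h.rho g 3) '' (closure S : Set G)) ?_ ?_
        (bnd_iff.1 o6).2 p hp) ((Set.toFinite _).image _)).trans (Set.ncard_image_le (Set.toFinite _))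
    · rintro u hu _ ⟨g, hg, rfl⟩
      obtain ⟨i, hi, rfl⟩ := (List.mem_map (f := ow) (l := List.range 6)).1 hu
      rw [List.mem_range] at hi
      exact ⟨ev M22 θ (ow i) * g, mul_mem (subset_closure ⟨i, hi, rfl⟩) hg, by
        simp only [map_mul, h.rho_evw (w i hi).1, Perm.mul_apply]⟩
    · intro i hi
      exact ⟨1, one_mem _, by rw [(testBit_one _ _).1 hi]; simp⟩
  have c5 := card_eq_card_quotient_mul_card_subgroup ψ.ker
  rw [Nat.card_congr (QuotientGroup.quotientKerEquivOfSurjective ψ ψ1).toEquiv, c3] at c5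
  have c6 := card_le_of_le le
  have c7 := card_le_of_le le2
  rw [card_map_of_injective (subtype_injective _)] at c7
  have e := eq_of_le_of_card_ge le (by omega)
  have e2 := eq_of_le_of_card_ge le2 (by rw [card_map_of_injective (subtype_injective _)]; omega)
  rw [← e]
  have e3 : (closure S).subgroupOf (closure (θ '' {p | p ∈ qO})) = ψ.ker := by
    rw [e2]; exact comap_map_eq_self_of_injective (subtype_injective _) _
  letI : Fintype (GaloisField 2 2) := Fintype.ofFinite _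
  obtain ⟨η⟩ := nonempty_O6 (F := GaloisField 2 2) card4
  haveI := H59.isSimpleGroup_PSU (F := GaloisField 2 2) (q := 2) card4 (n := 4) (by decide) (by decide)
  let ε := (QuotientGroup.quotientKerEquivOfSurjective ψ ψ1).trans τ.symm
  haveI N : ((closure S).subgroupOf (closure (θ '' {p | p ∈ qO}))).Normal := e3 ▸ inferInstance
  refine ⟨closure S, ?_, el, by omega, N, ⟨(QuotientGroup.quotientMulEquivOfEq e3).trans ε⟩⟩
  rw [pCore_eq_of_aut (not_two_psu4 card4) (center_psu4 card4)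
    (IsPGroup.of_card (n := 6) (by omega)) (ε.trans η.symm), e2]

end

end H95.FS
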