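/- HP, job Af: the affine space (blueprints/HP.md). -/
import Cfsg.Agent.H82.HPKit
import Cfsg.Agent.H90.HrFull

set_option autoImplicit false
set_option linter.unusedSectionVars false

namespace H95.HP

open MulAction Cfsg Subgroup H89.K H98 H82.HR H82.HP
open H90.HR (ncard_part smul_mem_Fx Fx_cj)

universe u v

variable {G : Type u} {Ω : Type v} [Group G] [MulAction G Ω] {N : Ω → Subgroup G}
  {P L : Ω → Set (Subgroup G)} {x : Ω → Ω → Subgroup G} {m : ℕ}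
  {a b c d e : Ω} {g z : G} {p p' r l l' : Subgroup G}

/-- blocks (or planes) -/
def Bl (P : Ω → Set (Subgroup G)) (p : Subgroup G) : Prop := ∃ a, p ∈ P a

/-- parallel blocks -/
def Par (L : Ω → Set (Subgroup G)) (p p' : Subgroup G) : Prop :=
  p = p' ∨ (Disjoint (Fx Ω p) (Fx Ω p') ∧ ∃ l, Bl L l ∧ Fx Ω p ⊆ Fx Ω l ∧ Fx Ω p' ⊆ Fx Ω l)

theorem Par.symm (h : Par L p p') : Par L p' p :=
  h.imp Eq.symm fun ⟨k, l, h1, h2, h3⟩ => ⟨k.symm, l, h1, h3, h2⟩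

theorem Par.eq (h : Par L p p') (h1 : c ∈ Fx Ω p) (h2 : c ∈ Fx Ω p') : p = p' :=
  h.resolve_right fun k => Set.disjoint_left.1 k.1 h1 h2

theorem sub_cj (h : Fx Ω p ⊆ Fx Ω l) (g : G) : Fx Ω (H98.cj g p) ⊆ Fx Ω (H98.cj g l) := by
  rw [Fx_cj, Fx_cj]; exact Set.image_mono h

/-- the setting -/
structure St (N : Ω → Subgroup G) (P L : Ω → Set (Subgroup G)) (x : Ω → Ω → Subgroup G) (m : ℕ) :
    Prop where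
  H : Hp N m
  C : CP N P L x m
  K : GK N P L (2 ^ m) (2 ^ m)

namespace St

variable [Finite G] (S : St N P L x m)
include S

theorem fp (h : p ∈ P a) : a ∈ Fx Ω p := (S.K.memP a p h a).1 h
theorem fl (h : l ∈ L a) : a ∈ Fx Ω l := (S.K.memL a l h a).1 h
theorem mp (h : Bl P p) (hc : c ∈ Fx Ω p) : p ∈ P c := let ⟨a, h⟩ := h; (S.K.memP a p h c).2 hc
theorem ml (h : Bl L l) (hc : c ∈ Fx Ω l) : l ∈ L c := let ⟨a, h⟩ := h; (S.K.memL a l h c).2 hc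
theorem cjP (h : Bl P p) (g : G) : Bl P (H98.cj g p) := let ⟨a, h⟩ := h; ⟨_, S.C.equiP g a p h⟩
theorem cjL (h : Bl L l) (g : G) : Bl L (H98.cj g l) := let ⟨a, h⟩ := h; ⟨_, S.C.equiL g a l h⟩

theorem par_cj (h : Par L p p') (g : G) : Par L (H98.cj g p) (H98.cj g p') :=
  h.imp (congrArg _) fun ⟨k, l, h1, h2, h3⟩ => ⟨by
    rw [Fx_cj, Fx_cj]
    exact (Set.disjoint_image_iff (MulAction.injective g)).2 k, _, S.cjL h1 g, sub_cj h2 g,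
    sub_cj h3 g⟩

theorem leq (h : Bl P p) (h' : Bl P p') (hcd : c ≠ d) (h1 : c ∈ Fx Ω p) (h2 : d ∈ Fx Ω p)
    (h3 : c ∈ Fx Ω p') (h4 : d ∈ Fx Ω p') : p = p' :=
  (S.K.line c d hcd).unique ⟨S.mp h h1, S.mp h h2⟩ ⟨S.mp h' h3, S.mp h' h4⟩

theorem inc_iff (hp : p ∈ P a) (hl : l ∈ L a) : Inc p l ↔ Fx Ω p ⊆ Fx Ω l := by
  refine ⟨S.K.sub a p hp l hl, fun h => ?_⟩
  obtain ⟨c, hc, ne⟩ := Set.exists_ne_of_one_lt_ncard (s := Fx Ω p)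
    (by rw [S.K.cF a p hp]; exact S.K.two) a
  exact S.K.inc a p hp l hl c hc (h hc) ne

theorem sub2 (hp : Bl P p) (hl : Bl L l) (hcd : c ≠ d) (h1 : c ∈ Fx Ω p) (h2 : d ∈ Fx Ω p)
    (h3 : c ∈ Fx Ω l) (h4 : d ∈ Fx Ω l) : Fx Ω p ⊆ Fx Ω l :=
  S.K.sub c p (S.mp hp h1) l (S.ml hl h3) (S.K.inc c p (S.mp hp h1) l (S.ml hl h3) d h2 h4 hcd.symm)

/-- two blocks through a point determine a plane -/
theorem peq (hp : p ∈ P a) (hp' : p' ∈ P a) (ne : p ≠ p') (hl : Bl L l) (hl' : Bl L l')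
    (h1 : Fx Ω p ⊆ Fx Ω l) (h2 : Fx Ω p' ⊆ Fx Ω l) (h3 : Fx Ω p ⊆ Fx Ω l')
    (h4 : Fx Ω p' ⊆ Fx Ω l') : l = l' :=
  have k := S.ml hl (h1 (S.fp hp))
  have k' := S.ml hl' (h3 (S.fp hp))
  (S.C.pl a).line_eq hp hp' ne k k' ((S.inc_iff hp k).2 h1) ((S.inc_iff hp' k).2 h2)
    ((S.inc_iff hp k').2 h3) ((S.inc_iff hp' k').2 h4)

theorem plane (hp : Bl P p) (hc : c ∉ Fx Ω p) : ∃! l, Bl L l ∧ Fx Ω p ⊆ Fx Ω l ∧ c ∈ Fx Ω l := by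
  obtain ⟨a, hp⟩ := hp
  have ne : a ≠ c := fun e => hc (e ▸ S.fp hp)
  obtain ⟨r, ⟨r1, r2⟩, -⟩ := S.K.line a c ne
  have ne' : p ≠ r := fun e => hc (e ▸ S.fp r2)
  obtain ⟨l, ⟨l1, l2, l3⟩, -⟩ := (S.C.pl a).a.join p hp r r1 ne'
  have k2 := S.K.sub a p hp l l1 l2
  have k3 := S.K.sub a r r1 l l1 l3
  exact ⟨l, ⟨⟨a, l1⟩, k2, k3 (S.fp r2)⟩, fun l' h => S.peq hp r1 ne' h.1 ⟨a, l1⟩ h.2.1
    (S.sub2 ⟨a, r1⟩ h.1 ne (S.fp r1) (S.fp r2) (h.2.1 (S.fp hp)) h.2.2) k2 k3⟩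

/-- two planes through a point contain a common block through the point -/
theorem meet (hl : l ∈ L c) (hl' : l' ∈ L c) (ne : l ≠ l') :
    ∃ p ∈ P c, Fx Ω p ⊆ Fx Ω l ∧ Fx Ω p ⊆ Fx Ω l' := by
  obtain ⟨p, ⟨p1, p2, p3⟩, -⟩ := (S.C.pl c).a'.join l hl l' hl' ne
  exact ⟨p, p1, S.K.sub c p p1 l hl p2.symm, S.K.sub c p p1 l' hl' p3.symm⟩

theorem playfair (h : Bl P p) (c : Ω) : ∃! r, r ∈ P c ∧ Par L p r := by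
  haveI := S.H.t2.finite
  by_cases hc : c ∈ Fx Ω p
  · exact ⟨p, ⟨S.mp h hc, .inl rfl⟩, fun V k => (k.2.eq hc (S.fp k.1)).symm⟩
  obtain ⟨l, ⟨l1, l2, l3⟩, lu⟩ := S.plane h hc
  have lc := S.ml l1 l3
  have k := ncard_part (Fx Ω p) {r | (r ∈ P c ∧ Inc r l) ∧ ¬ Disjoint (Fx Ω p) (Fx Ω r)}
    (fun d r => d ∈ Fx Ω r) (n := 1)
    (fun d hd => by
      have ne : c ≠ d := fun e => hc (e ▸ hd)
      obtain ⟨r, k, e⟩ := S.K.line c d ne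
      exact ⟨r, ⟨⟨⟨k.1, S.K.inc c r k.1 l lc d (S.fp k.2) (l2 hd) ne.symm⟩,
        Set.not_disjoint_iff.2 ⟨d, hd, S.fp k.2⟩⟩, S.fp k.2⟩,
        fun r' k' => e r' ⟨k'.1.1.1, S.mp ⟨c, k'.1.1.1⟩ k'.2⟩⟩)
    fun r hr => by
      obtain ⟨d, h1, h2⟩ := Set.not_disjoint_iff.1 hr.2
      refine Set.ncard_eq_one.2 ⟨d, Set.eq_singleton_iff_unique_mem.2 ⟨⟨h1, h2⟩, fun e he => ?_⟩⟩
      by_contra ne
      exact hc (S.leq h ⟨c, hr.1.1⟩ ne he.1 h1 he.2 h2 ▸ S.fp hr.1.1)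
  have k2 := Set.ncard_inter_add_ncard_sdiff_eq_ncard {r | r ∈ P c ∧ Inc r l}
    {r | Disjoint (Fx Ω p) (Fx Ω r)}
  rw [(S.C.pl c).a.cI l lc] at k2
  obtain ⟨a, ha⟩ := id h
  rw [S.K.cF a p ha, mul_one] at k
  obtain ⟨r, hr⟩ := Set.ncard_eq_one.1 (show ({r | r ∈ P c ∧ Inc r l} ∩
      {r | Disjoint (Fx Ω p) (Fx Ω r)}).ncard = 1 by
    have : ({r | r ∈ P c ∧ Inc r l} \ {r | Disjoint (Fx Ω p) (Fx Ω r)}).ncard = 2 ^ m := k.symm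
    omega)
  obtain ⟨⟨h1, h2⟩, h3⟩ := Set.eq_singleton_iff_unique_mem.1 hr
  refine ⟨r, ⟨h1.1, .inr ⟨h2, l, l1, l2, S.K.sub c r h1.1 l lc h1.2⟩⟩, fun r' k' => ?_⟩
  obtain ⟨k1, l', k2, k3, k4⟩ := k'.2.resolve_left fun e => hc (e ▸ S.fp k'.1)
  obtain rfl := lu l' ⟨k2, k3, k4 (S.fp k'.1)⟩
  exact h3 r' ⟨⟨k'.1, (S.inc_iff k'.1 lc).2 k4⟩, k1⟩

theorem par_in (hp : Bl P p) (hl : Bl L l) (h1 : Fx Ω p ⊆ Fx Ω l) (h2 : Par L p r)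
    (h3 : c ∈ Fx Ω r) (h4 : c ∈ Fx Ω l) : Fx Ω r ⊆ Fx Ω l := by
  rcases h2 with rfl | ⟨k1, l', k2, k3, k4⟩
  · exact h1
  · rwa [(S.plane hp fun h => Set.disjoint_left.1 k1 h h3).unique ⟨hl, h1, h4⟩ ⟨k2, k3, k4 h3⟩]

theorem par_trans' (h1 : Bl P p) (h2 : Bl P p') (h3 : Bl P r) (a : Par L p p') (b : Par L p r) :
    Par L p' r := by
  refine or_iff_not_imp_left.2 fun ne => ?_
  have dj : Disjoint (Fx Ω p') (Fx Ω r) := Set.disjoint_left.2 fun d d1 d2 =>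
    ne ((S.playfair h1 d).unique ⟨S.mp h2 d1, a⟩ ⟨S.mp h3 d2, b⟩)
  refine ⟨dj, ?_⟩
  rcases a with rfl | ⟨a1, l₂, a2, a3, a4⟩
  · exact (b.resolve_left ne).2
  rcases id b with rfl | ⟨b1, l₃, b2, b3, b4⟩
  · exact ⟨l₂, a2, a4, a3⟩
  obtain ⟨c, hc⟩ := id h3
  have cr := S.fp hc
  have cp : c ∉ Fx Ω p := fun h => Set.disjoint_left.1 b1 h cr
  obtain ⟨l, ⟨l1, l2, l3⟩, -⟩ := S.plane h2 fun h => Set.disjoint_left.1 dj h cr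
  refine ⟨l, l1, l2, ?_⟩
  by_cases e : l = l₃
  · exact e ▸ b4
  obtain ⟨s, s1, s2, s3⟩ := S.meet (S.ml l1 l3) (S.ml b2 (b4 cr)) e
  rwa [(S.playfair h1 c).unique ⟨hc, b⟩ ⟨s1, .inr ⟨Set.disjoint_left.2 fun d d1 d2 => e ?_,
    l₃, b2, b3, s3⟩⟩]
  obtain rfl : l = l₂ := (S.plane h2 fun h => Set.disjoint_left.1 a1 d1 h).unique ⟨l1, l2, s2 d2⟩
    ⟨a2, a4, a3 d1⟩
  exact (S.plane h1 cp).unique ⟨a2, a3, l3⟩ ⟨b2, b3, b4 cr⟩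

theorem par_trans (h1 : Bl P p) (h2 : Bl P p') (h3 : Bl P r) (a : Par L p p') (b : Par L p' r) :
    Par L p r := S.par_trans' h2 h1 h3 a.symm b

/-- the dilatations -/
def TT : Subgroup G where
  carrier := {g | ∀ p, Bl P p → Par L (H98.cj g p) p}
  one_mem' := fun W _ => .inl (cj_one W)
  mul_mem' := fun {g h} hg hh W hW => by
    rw [← cj_cj]
    exact S.par_trans (S.cjP (S.cjP hW h) g) (S.cjP hW h) hW (hg _ (S.cjP hW h)) (hh W hW)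
  inv_mem' := fun {g} hg W hW => by
    have := hg _ (S.cjP hW g⁻¹)
    rw [cj_cj_inv] at this
    exact this.symm

theorem TT_normal : S.TT.Normal := ⟨fun g hg k W hW => by
  have := S.par_cj (hg _ (S.cjP hW k⁻¹)) k
  rwa [cj_cj_inv, cj_cj, cj_cj] at this⟩

theorem TT_off (hg : g ∈ S.TT) (hab : a ≠ b) (ha : g • a = a) (hb : g • b = b) (hW : Bl P p)
    (h1 : a ∈ Fx Ω p) (h2 : b ∈ Fx Ω p) (hc : c ∉ Fx Ω p) : g • c = c := by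
  have k : ∀ a V, g • a = a → V ∈ P a → V ∈ P c → g • c ∈ Fx Ω V :=
    fun a V ha h1 h2 => (hg V ⟨a, h1⟩).eq (ha ▸ smul_mem_Fx.2 (S.fp h1)) (S.fp h1) ▸
      smul_mem_Fx.2 (S.fp h2)
  obtain ⟨V₁, k1, -⟩ := S.K.line a c fun e => hc (e ▸ h1)
  obtain ⟨V₂, k2, -⟩ := S.K.line b c fun e => hc (e ▸ h2)
  by_contra ne
  obtain rfl := S.leq ⟨_, k1.1⟩ ⟨_, k2.1⟩ ne (k a _ ha k1.1 k1.2) (S.fp k1.2)
    (k b _ hb k2.1 k2.2) (S.fp k2.2)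
  exact hc (S.leq ⟨_, k1.1⟩ hW hab (S.fp k1.1) (S.fp k2.1) h1 h2 ▸ S.fp k1.2)

theorem ex_off (hl : l ∈ L a) : ∃ c, c ∉ Fx Ω l := by
  by_contra! h
  have h1 := S.K.cL a l hl
  have h2 := S.K.two
  rw [Set.eq_univ_of_forall h, Set.ncard_univ, S.K.card, Nat.add_right_inj,
    Nat.mul_left_inj (by omega)] at h1
  have : 0 < (2 ^ m) ^ 2 := by positivity
  omega

theorem TT_sharp (hg : g ∈ S.TT) (hab : a ≠ b) (ha : g • a = a) (hb : g • b = b) : g = 1 := by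
  obtain ⟨W, ⟨h1, h2⟩, -⟩ := S.K.line a b hab
  obtain ⟨l, hl, i, -⟩ := (S.C.pl a).a.axis W h1 1 (one_mem _)
  obtain ⟨e, he⟩ := S.ex_off hl
  have eW : e ∉ Fx Ω W := fun k => he (S.K.sub a W h1 l hl i k)
  have ae : a ≠ e := fun k => eW (k ▸ S.fp h1)
  obtain ⟨W', ⟨h3, h4⟩, -⟩ := S.K.line a e ae
  refine S.H.t2.faith g fun c => ?_
  by_cases hc : c ∈ Fx Ω W
  · by_cases ac : a = c
    · exact ac ▸ ha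
    · exact S.TT_off hg ae ha (S.TT_off hg hab ha hb ⟨a, h1⟩ (S.fp h1) (S.fp h2) eW) ⟨a, h3⟩
        (S.fp h3) (S.fp h4)
        fun k => eW (S.leq ⟨a, h3⟩ ⟨a, h1⟩ ac (S.fp h3) k (S.fp h1) hc ▸ S.fp h4)
  · exact S.TT_off hg hab ha hb ⟨a, h1⟩ (S.fp h1) (S.fp h2) hc

/-- a block that misses a plane is parallel to a block of the plane -/
theorem par_of_miss (hp : Bl P p) (hl : l ∈ L a) (dj : Disjoint (Fx Ω p) (Fx Ω l)) :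
    ∃ r ∈ P a, Fx Ω r ⊆ Fx Ω l ∧ Par L p r := by
  obtain ⟨l₁, ⟨k1, k2, k3⟩, -⟩ := S.plane hp fun h => Set.disjoint_left.1 dj h (S.fl hl)
  obtain ⟨c, hc⟩ := hp
  obtain ⟨r, r1, r2, r3⟩ := S.meet hl (S.ml k1 k3) fun e =>
    Set.disjoint_left.1 dj (S.fp hc) (e ▸ k2 (S.fp hc))
  exact ⟨r, r1, r2, .inr ⟨dj.mono_right r2, l₁, k1, k2, r3⟩⟩

theorem par_sub (hl : Bl L l) (hl' : l' ∈ L c) (dj : Disjoint (Fx Ω l) (Fx Ω l')) (hp : Bl P p)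
    (h1 : Fx Ω p ⊆ Fx Ω l) (hr : r ∈ P c) (h2 : Par L p r) : Fx Ω r ⊆ Fx Ω l' := by
  obtain ⟨s, s1, s2, s3⟩ := S.par_of_miss hp hl' (dj.mono_left h1)
  rwa [(S.playfair hp c).unique ⟨hr, h2⟩ ⟨s1, s3⟩]

theorem two_blocks (hl : l ∈ L a) : ∃ p ∈ P a, ∃ p' ∈ P a, p ≠ p' ∧ Fx Ω p ⊆ Fx Ω l ∧
    Fx Ω p' ⊆ Fx Ω l := by
  obtain ⟨p, p1, p2, -⟩ := (S.C.pl a).third hl ⊥ ⊥
  obtain ⟨p', q1, q2, q3, -⟩ := (S.C.pl a).third hl p p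
  exact ⟨p, p1, p', q1, q3.symm, S.K.sub a p p1 l hl p2, S.K.sub a p' q1 l hl q2⟩

theorem ex_disj (hl : l ∈ L a) : ∃ c, ∃ l' ∈ L c, Disjoint (Fx Ω l) (Fx Ω l') := by
  obtain ⟨c, hc⟩ := S.ex_off hl
  obtain ⟨p, p1, p', q1, ne, p2, q2⟩ := S.two_blocks hl
  have key : ∀ {d r r'}, r ∈ P d → r' ∈ P d → Par L p r → Par L p' r' → r ≠ r' :=
    fun h1 h2 h3 h4 e => ne ((S.par_trans ⟨_, p1⟩ ⟨_, h1⟩ ⟨_, q1⟩ h3 (e ▸ h4.symm)).eq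
      (S.fp p1) (S.fp q1))
  obtain ⟨r, ⟨r1, r2⟩, -⟩ := S.playfair ⟨a, p1⟩ c
  obtain ⟨r', ⟨r1', r2'⟩, -⟩ := S.playfair ⟨a, q1⟩ c
  obtain ⟨l', ⟨l1, l2, l3⟩, -⟩ := (S.C.pl c).a.join r r1 r' r1' (key r1 r1' r2 r2')
  refine ⟨c, l', l1, Set.disjoint_left.2 fun d d1 d2 => hc ?_⟩
  obtain ⟨s, ⟨s1, s2⟩, -⟩ := S.playfair ⟨a, p1⟩ d
  obtain ⟨s', ⟨s1', s2'⟩, -⟩ := S.playfair ⟨a, q1⟩ d
  rw [S.peq s1 s1' (key s1 s1' s2 s2') ⟨a, hl⟩ ⟨c, l1⟩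
    (S.par_in ⟨a, p1⟩ ⟨a, hl⟩ p2 s2 (S.fp s1) d1) (S.par_in ⟨a, q1⟩ ⟨a, hl⟩ q2 s2' (S.fp s1') d1)
    (S.par_in ⟨c, r1⟩ ⟨c, l1⟩ (S.K.sub c r r1 l' l1 l2)
      (S.par_trans' ⟨a, p1⟩ ⟨c, r1⟩ ⟨d, s1⟩ r2 s2) (S.fp s1) d2)
    (S.par_in ⟨c, r1'⟩ ⟨c, l1⟩ (S.K.sub c r' r1' l' l1 l3)
      (S.par_trans' ⟨a, q1⟩ ⟨c, r1'⟩ ⟨d, s1'⟩ r2' s2') (S.fp s1') d2)]
  exact S.fl l1

theorem fix_in (hl : Bl L l) (hz : z ∈ l) (hp : Bl P p) (h : Fx Ω p ⊆ Fx Ω l) : H98.cj z p = p :=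
  let ⟨a, hp⟩ := hp
  have k := S.ml hl (h (S.fp hp))
  cj_eq_self ((S.C.pl a).a.fix l k p hp ((S.inc_iff hp k).2 h) hz)

theorem par_fix (hl : l ∈ L a) (hl' : Bl L l') (dj : Disjoint (Fx Ω l) (Fx Ω l')) (hz : z ∈ l)
    (hp : Bl P p) (h : Fx Ω p ⊆ Fx Ω l') : Par L p (H98.cj z p) := by
  obtain ⟨r, r1, r2, r3⟩ := S.par_of_miss hp hl (dj.symm.mono_left h)
  have := S.par_cj r3 z
  rw [S.fix_in ⟨a, hl⟩ hz ⟨a, r1⟩ r2] at this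
  exact S.par_trans hp ⟨a, r1⟩ (S.cjP hp z) r3 this.symm

theorem le_nor (hl : l ∈ L a) (hl' : l' ∈ L c) (dj : Disjoint (Fx Ω l) (Fx Ω l')) (hz : z ∈ l) :
    H98.cj z l' = l' := by
  by_cases z1 : z = 1
  · rw [z1, cj_one]
  have cl : c ∉ Fx Ω l := fun h => Set.disjoint_left.1 dj h (S.fl hl')
  have ne : c ≠ z • c := fun e => cl (S.K.fixL a l hl z hz z1 c e.symm)
  obtain ⟨B, ⟨b1, b2⟩, bu⟩ := S.K.line c _ ne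
  have zB : H98.cj z B = B := bu _ ⟨by
    simpa only [smul_smul, (S.C.pl a).a'.sq l hl z hz, one_smul] using S.C.equiP z _ B b2,
    S.C.equiP z _ B b1⟩
  obtain ⟨r, r1, r2, r3⟩ := S.par_of_miss ⟨c, b1⟩ hl (Set.disjoint_left.2 fun d d1 d2 => cl
    (S.K.sub d B (S.mp ⟨c, b1⟩ d1) l (S.ml ⟨a, hl⟩ d2) (((S.C.pl d).nor_iff (S.ml ⟨a, hl⟩ d2) hz z1
      (S.mp ⟨c, b1⟩ d1)).1 (cj_eq_self_iff.1 zB)) (S.fp b1)))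
  have zc : z • c ∈ Fx Ω l' := S.par_sub ⟨a, hl⟩ hl' dj ⟨a, r1⟩ r2 b1 r3.symm (S.fp b2)
  obtain ⟨p, p1, p', q1, ne', p2, q2⟩ := S.two_blocks hl'
  exact S.peq (S.C.equiP z c p p1) (S.C.equiP z c p' q1) (fun e => ne' (cj_inj.1 e))
    (S.cjL ⟨c, hl'⟩ z) ⟨c, hl'⟩ (sub_cj p2 z) (sub_cj q2 z)
    (S.par_in ⟨c, p1⟩ ⟨c, hl'⟩ p2 (S.par_fix hl ⟨c, hl'⟩ dj hz ⟨c, p1⟩ p2)
      (smul_mem_Fx.2 (S.fp p1)) zc)
    (S.par_in ⟨c, q1⟩ ⟨c, hl'⟩ q2 (S.par_fix hl ⟨c, hl'⟩ dj hz ⟨c, q1⟩ q2)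
      (smul_mem_Fx.2 (S.fp q1)) zc)

theorem TT_ne : S.TT ≠ ⊥ := by
  obtain ⟨a, -⟩ := S.H.t2.big
  obtain ⟨-, -, l, hl, -⟩ := (S.C.pl a).exists_flag
  obtain ⟨c, l', hl', dj⟩ := S.ex_disj hl
  have ti : ∀ z ∈ l, z ∈ l' → z = 1 := fun z h1 h2 => by
    by_contra z1
    exact Set.disjoint_left.1 dj (S.K.fixL a l hl z h1 z1 c (S.fl hl' z h2)) (S.fl hl')
  obtain ⟨y, hy, y1⟩ : ∃ y ∈ l', y ≠ 1 := by
    have h1 := (S.C.pl c).a'.card l' hl'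
    have h2 := S.K.two
    have : Nontrivial l' := Finite.one_lt_card_iff_nontrivial.1 (by rw [h1]; nlinarith)
    obtain ⟨y, hy⟩ := exists_ne (1 : l')
    exact ⟨y, y.2, fun e => hy (Subtype.ext e)⟩
  have yl := S.le_nor hl' hl dj.symm hy
  have cm : ∀ u ∈ l, u * y = y * u := fun u hu => by
    have h1 : u * y * u⁻¹ ∈ l' := S.le_nor hl hl' dj hu ▸ conj_mem_cj hy
    have h2 : y * u⁻¹ * y⁻¹ ∈ l := yl ▸ conj_mem_cj (l.inv_mem hu)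
    have h3 := ti (u * y * u⁻¹ * y⁻¹) (by simpa only [mul_assoc] using l.mul_mem hu h2)
      (l'.mul_mem h1 (l'.inv_mem hy))
    rwa [mul_inv_eq_one, mul_inv_eq_iff_eq_mul] at h3
  obtain ⟨r, hr, nr⟩ := (S.C.pl a).exists_off hl
  obtain ⟨r₁, ⟨l1, p1⟩, -⟩ := S.playfair (S.cjP ⟨a, hr⟩ y) a
  obtain ⟨z, ⟨hz, rfl⟩, -⟩ := (S.C.pl a).a.reg l hl r hr r₁ l1 nr fun i => by
    have h1 := S.par_cj p1 y⁻¹
    have h2 := sub_cj (S.K.sub a r₁ l1 l hl i) y⁻¹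
    rw [cj_inv_cj] at h1
    rw [cj_eq_self (inv_mem (cj_eq_self_iff.1 yl))] at h2
    exact nr ((S.inc_iff hr hl).2 (S.par_in (S.cjP ⟨a, l1⟩ _) ⟨a, hl⟩ h2 h1.symm (S.fp hr)
      (S.fl hl)))
  have p2 : Par L (H98.cj (z⁻¹ * y) r) r := by
    have := S.par_cj p1 z⁻¹
    rwa [cj_cj, cj_inv_cj] at this
  refine ne_bot_iff_exists_ne_one.2 ⟨⟨z⁻¹ * y, fun W hW => ?_⟩, fun e => ?_⟩
  · obtain ⟨W₁, ⟨aW, p⟩, -⟩ := S.playfair hW a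
    refine S.par_trans (S.cjP hW _) (S.cjP ⟨a, aW⟩ _) hW (S.par_cj p _)
      (S.par_trans (S.cjP ⟨a, aW⟩ _) ⟨a, aW⟩ hW ?_ p.symm)
    by_cases i : Inc W₁ l
    · have h1 := S.K.sub a W₁ aW l hl i
      have h2 := S.par_cj (S.par_fix hl' ⟨a, hl⟩ dj.symm hy ⟨a, aW⟩ h1) z⁻¹
      rw [S.fix_in ⟨a, hl⟩ (l.inv_mem hz) ⟨a, aW⟩ h1, cj_cj] at h2
      exact h2.symm
    · obtain ⟨u, ⟨hu, rfl⟩, -⟩ := (S.C.pl a).a.reg l hl r hr W₁ aW nr i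
      rw [cj_cj, mul_assoc, ← cm u hu, ← mul_assoc,
        (S.C.pl a).symm.comm hl (l.inv_mem hz) hu, mul_assoc, ← cj_cj]
      exact S.par_cj p2 u
  · exact y1 (ti y (inv_mul_eq_one.1 (congrArg Subtype.val e) ▸ hz) hy)

end St

theorem jobAf : JobAf.{u, v} := by
  intro G Ω _ _ _ N P L x m H C K
  have S : St N P L x m := ⟨H, C, K⟩
  haveI := S.TT_normal
  haveI := H.t2.nontrivial
  haveI : IsPretransitive S.TT Ω := ⟨fun x y =>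
    let ⟨n, hn, e⟩ := H.t2.normal_trans S.TT S.TT_ne x y
    ⟨⟨n, hn⟩, e⟩⟩
  obtain ⟨P, -, h1, h2⟩ := H89.exists_frobenius_kernel (G := S.TT) (α := Ω)
    fun g a b hab ha hb => Subtype.ext (S.TT_sharp g.2 hab ha hb)
  refine ⟨P.map S.TT.subtype, ⟨?_⟩, fun x y => ?_, ?_⟩
  · rintro _ ⟨n, hn, rfl⟩ g
    refine ⟨⟨_, Normal.conj_mem ‹_› n.1 n.2 g⟩, (h1 _).2 (((h1 n).1 hn).imp (fun e => ?_)
      fun k a e => k (g⁻¹ • a) ?_), rfl⟩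
    · simp [e]
    · exact (conj_smul_eq (g := g)).1 (by rw [smul_inv_smul]; exact e)
  · obtain ⟨n, e⟩ := h2.exists_smul_eq x y
    exact ⟨_, ⟨n.1, n.2, rfl⟩, e⟩
  · rintro x _ ⟨n, hn, rfl⟩ e
    exact congrArg Subtype.val (((h1 n).1 hn).resolve_right fun k => k x e)

end H95.HP
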