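import Cfsg.Agent.H95.K0C
import Cfsg.Agent.S4545
import Cfsg.Agent.S0960
import Cfsg.Agent.H87.PrimeSylow
import Cfsg.Agent.H38.PrinDeg
import Cfsg.Agent.H3.DSQ

/-! # Four members of `p'`-degree: everything except the hard direction for `p = 2` -/

set_option autoImplicit false
set_option linter.unusedSectionVars false

namespace H95.K0

open Cfsg H28 H35 H47.K0 Finset

variable {G : Type*} [Group G] [Fintype G] {p : ℕ} {M : Ideal AlgInt} [M.IsMaximal]

theorem card_ht (hM : IsPModular p M) : Nat.card {χ : IrrCharacter G // χ ∈ principalBlock M G ∧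
    blockHeight p (principalBlock M G) (χ : G → ℂ) = 0} = (ZF p M G).card := by
  rw [← card_ZF]
  exact Nat.card_congr (Equiv.subtypeEquivRight fun χ => by
    rw [H38.blockHeight_principal_eq_zero_iff hM.1])

theorem four_dvd (hM : IsPModular 2 M) (h : 2 ^ 2 ∣ Nat.card G) : 4 ∣ (ZF 2 M G).card := by
  have h3 : ∑ χ ∈ ZF 2 M G, charDegree (χ : G → ℂ) ^ 2 ≡ ∑ _χ ∈ ZF 2 M G, 1 [MOD 4] := by
    refine Nat.ModEq.sum fun χ hχ => ?_
    have := (mem_ZF.1 hχ).2
    generalize charDegree (χ : G → ℂ) = d at this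
    rw [Nat.ModEq, Nat.pow_mod]
    rcases (show d % 4 = 1 ∨ d % 4 = 3 by omega) with e | e <;> rw [e]
  rw [sum_const, smul_eq_mul, mul_one] at h3
  exact (h3.dvd_iff dvd_rfl).1 (rel_sq hM h)

theorem four_of_index (hM : IsPModular 2 M) (P : Sylow 2 G) (h4 : (commutator P).index = 4) :
    (ZF 2 M G).card = 4 := by
  have hB := H34.isPBlock_principalBlock (M := M) (G := G)
  have hD := (H36.isDefectGroup_principalBlock_iff hM).2 ⟨P, rfl⟩
  by_cases hna : IsMulCommutative P
  · have hc : Nat.card P = 4 := by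
      rwa [(commutator_eq_bot_iff P).2 hna, Subgroup.index_bot] at h4
    have h1 := Cfsg.Agent.S4545.result M hM _ hB _ hD (by omega)
    rw [card_ht hM, h4] at h1
    exact le_antisymm h1 (Nat.le_of_dvd (card_pos.2 ⟨_, e1_mem hM.1⟩) (four_dvd hM
      (by rw [show 2 ^ 2 = Nat.card P from hc.symm]; exact Subgroup.card_subgroup_dvd_card _)))
  obtain ⟨m, a, b, hd⟩ := H3.exists_dsq_of_index_commutator' P.isPGroup' hna h4
  have h1 := hd.one_le
  rw [← card_ht hM]
  rcases hd.three_cases' with h2 | h2 | h2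
  · exact (Cfsg.Agent.S4528.result M hM _ hB _ hD (m + 2) (by omega) h2).2.2.2.1
  · exact (Cfsg.Agent.S4530.result M hM _ hB _ hD (m + 2) (by omega) h2).2.2.2.1
  · obtain ⟨k, h3, h5, -⟩ := id h2
    exact (Cfsg.Agent.S4529.result M hM _ hB _ hD _ (by omega) h5 h2).2.2.2.2.2.1

theorem wrap4925 [Fact p.Prime] (hM : IsPModular p M) (P : Sylow p G)
    (core : p = 2 → (ZF p M G).card = 4 → (commutator P).index = 4) :
    (ZF p M G).card = 4 ↔ ((commutator P).index = 4 ∨ (Nat.card P = 5 ∧
      (Subgroup.centralizer ((P : Subgroup G) : Set G)).relIndex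
        (Subgroup.normalizer ((P : Subgroup G) : Set G)) = 2)) := by
  refine ⟨fun h => ?_, ?_⟩
  · by_cases h2 : p = 2
    · exact Or.inl (core h2 h)
    have hP := card_eq hM h2 (Or.inl h) P
    have h1 := (Cfsg.Agent.S0960.result p M hM h2 P hP _ rfl).1
    obtain ⟨f, hf⟩ := H87.relIndex_dvd_prime_sub_one hP
    rw [← card_ZF_eq hM P hP, h, hf] at h1
    have hp := hM.1
    have h3 := hp.two_le
    generalize (Subgroup.centralizer ((P : Subgroup G) : Set G)).relIndex
      (Subgroup.normalizer ((P : Subgroup G) : Set G)) = e at *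
    have e0 : 0 < e := Nat.pos_of_ne_zero (by rintro rfl; omega)
    rw [Nat.mul_div_cancel_left _ e0] at h1
    have h4 : e ≤ 4 := by omega
    have h5 : p ≠ 4 := by rintro rfl; norm_num at hp
    obtain rfl : f = 4 - e := by omega
    right
    interval_cases e <;> omega
  · rintro (h | ⟨h5, he⟩)
    · obtain rfl : p = 2 := by
        obtain ⟨i, hi⟩ := P.isPGroup'.index (commutator P)
        exact ((Nat.prime_dvd_prime_iff_eq Nat.prime_two hM.1).1
          (Nat.prime_two.dvd_of_dvd_pow (n := i) (by rw [← hi, h]; norm_num))).symm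
      exact four_of_index hM P h
    · obtain rfl : p = 5 := by
        obtain ⟨n, hn⟩ := IsPGroup.iff_card.1 P.isPGroup'
        exact ((Nat.prime_dvd_prime_iff_eq Nat.prime_five hM.1).1
          (Nat.prime_five.dvd_of_dvd_pow (n := n) (by rw [← hn, h5]))).symm
      rw [card_ZF_eq hM P h5, (Cfsg.Agent.S0960.result 5 M hM (by norm_num) P h5 _ he).1]

end H95.K0
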