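import Cfsg.Agent.H63.KgvSpec

/-! Job KGV-JBR: two nested subfields with their characters. -/

set_option autoImplicit false

namespace H95.KgvBR

open Finset H63.Kgv

/-- the additive character `a ↦ ee (t * Tr a)` -/
noncomputable def ps (p : ℕ) [Fact p.Prime] (F : Type) [Field F] [Algebra (ZMod p) F] (t : ZMod p) :
    AddChar F ℂ :=
  (ZMod.stdAddChar (N := p)).compAddMonoidHom
    ((AddMonoidHom.mulLeft t).comp (Algebra.trace (ZMod p) F).toAddMonoidHom)

theorem ps_apply (p : ℕ) [Fact p.Prime] (F : Type) [Field F] [Algebra (ZMod p) F] (t : ZMod p) (a : F) :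
    ps p F t a = ee p (t * Algebra.trace (ZMod p) F a) := rfl

theorem rank (p : ℕ) [hp : Fact p.Prime] (F : Type) [Field F] [Fintype F] [Algebra (ZMod p) F] (D : ℕ)
    (h : Fintype.card F = p ^ D) : Module.finrank (ZMod p) F = D := by
  have h1 : Fintype.card F = Fintype.card (ZMod p) ^ Module.finrank (ZMod p) F :=
    Module.card_eq_pow_finrank
  rw [ZMod.card, h] at h1
  exact (Nat.pow_right_injective hp.out.two_le h1).symm

theorem core (p : ℕ) [hp : Fact p.Prime] (M : ℕ) (K : Type) [Field K] [Fintype K] [Algebra (ZMod p) K]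
    (g : Kˣ) (θ : Kˣ →* ℂˣ) (s : Su p M g θ) (D : ℕ) (hD : D ∣ M)
    (F : Type) [Field F] [Fintype F] [Algebra (ZMod p) F] (hF : Fintype.card F = p ^ D) (ι : F →+* K) :
    ∃ (χ : Kˣ → MulChar F ℂ) (γ : Fˣ), Br p M g θ D F (ps p F) χ γ ∧
      ι γ = ((g ^ ((p ^ M - 1) / (p ^ D - 1)) : Kˣ) : K) := by
  classical
  have hD0 : 0 < D := Nat.pos_of_dvd_of_pos hD s.pos
  have h1 : 1 < p ^ D := Nat.one_lt_pow hD0.ne' hp.out.one_lt
  have h2 : 1 < p ^ M := Nat.one_lt_pow s.pos.ne' hp.out.one_lt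
  have hn : 0 < p ^ D - 1 := by omega
  have hN : 0 < p ^ M - 1 := by omega
  have hdv : p ^ D - 1 ∣ p ^ M - 1 := Nat.pow_sub_one_dvd_pow_sub_one p hD
  have hcF : Fintype.card Fˣ = p ^ D - 1 := by rw [Fintype.card_units, hF]
  have hog : orderOf g = p ^ M - 1 := by
    rw [orderOf_eq_card_of_forall_mem_zpowers s.gen, Nat.card_eq_fintype_card, Fintype.card_units, s.card]
  set k := (p ^ M - 1) / (p ^ D - 1) with hk
  have hk0 : k ≠ 0 := (Nat.div_pos (Nat.le_of_dvd hN hdv) hn).ne'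
  have hok : orderOf (g ^ k) = p ^ D - 1 := by
    rw [orderOf_pow_of_dvd hk0 (by rw [hog]; exact Nat.div_dvd_of_dvd hdv), hog, hk,
      Nat.div_div_self hdv hN.ne']
  have hinj : Function.Injective (Units.map (ι : F →* K)) := Units.map_injective ι.injective
  have him : (univ : Finset Fˣ).image (Units.map (ι : F →* K)) = univ.filter fun a : Kˣ => a ^ (p ^ D - 1) = 1 := by
    apply Finset.eq_of_subset_of_card_le
    · intro a ha
      obtain ⟨b, -, rfl⟩ := Finset.mem_image.1 ha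
      refine Finset.mem_filter.2 ⟨mem_univ _, ?_⟩
      rw [← map_pow, ← hcF, pow_card_eq_one, map_one]
    · rw [Finset.card_image_of_injective _ hinj, Finset.card_univ, hcF]
      exact IsCyclic.card_pow_eq_one_le hn
  have hm : g ^ k ∈ (univ : Finset Fˣ).image (Units.map (ι : F →* K)) := by
    rw [him]
    exact Finset.mem_filter.2 ⟨mem_univ _, by rw [← hok, pow_orderOf_eq_one]⟩
  obtain ⟨γ, -, hγ⟩ := Finset.mem_image.1 hm
  have hγ' : ι γ = ((g ^ k : Kˣ) : K) := by rw [← hγ]; rfl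
  have hoγ : orderOf γ = p ^ D - 1 := by rw [← hok, ← hγ, orderOf_injective _ hinj]
  have hgen : ∀ a : Fˣ, a ∈ Subgroup.zpowers γ := by
    have : Subgroup.zpowers γ = ⊤ := by
      apply Subgroup.eq_top_of_card_eq
      rw [Nat.card_zpowers, hoγ, Nat.card_eq_fintype_card, hcF]
    intro a
    rw [this]; trivial
  have hroot : ∀ x : Kˣ, x ^ p ^ D = x → θ x ∈ rootsOfUnity (Fintype.card Fˣ) ℂ := by
    intro x hx
    rw [mem_rootsOfUnity, hcF, ← map_pow]
    have : x ^ (p ^ D - 1) = 1 := by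
      have e : x ^ (p ^ D - 1) * x = 1 * x := by
        rw [← pow_succ, Nat.sub_add_cancel h1.le, hx, one_mul]
      exact mul_right_cancel e
    rw [this, map_one]
  let χ : Kˣ → MulChar F ℂ := fun x =>
    if h : x ^ p ^ D = x then MulChar.ofRootOfUnity (hroot x h) hgen else 1
  have hval : ∀ x : Kˣ, x ^ p ^ D = x → χ x (γ : F) = θ x := by
    intro x hx
    simp only [χ, dif_pos hx]
    exact MulChar.ofRootOfUnity_spec _ _
  have htr : ∀ j : ℕ, tr p M g D j = Algebra.trace (ZMod p) F ((γ : F) ^ j) := by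
    intro j
    have e : algebraMap (ZMod p) K (Algebra.trace (ZMod p) F ((γ : F) ^ j)) =
        ∑ i ∈ range D, ((g ^ (k * j) : Kˣ) : K) ^ p ^ i := by
      have e1 : algebraMap (ZMod p) K = ι.comp (algebraMap (ZMod p) F) := RingHom.ext_zmod _ _
      rw [e1, RingHom.comp_apply, FiniteField.algebraMap_trace_eq_sum_pow, rank p F D hF, map_sum]
      refine Finset.sum_congr rfl fun i _ => ?_
      rw [map_pow, map_pow, hγ', Nat.card_zmod, pow_mul, Units.val_pow_eq_pow_val (g ^ k)]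
    unfold tr
    rw [← hk, ← e]
    exact Function.leftInverse_invFun (algebraMap (ZMod p) K).injective _
  refine ⟨χ, γ, ⟨hF, hgen, hval, ?_, ?_, ?_⟩, hγ'⟩
  · intro t ht h
    obtain ⟨a, ha⟩ := Algebra.trace_surjective (ZMod p) F t⁻¹
    have e : ps p F t a = 1 := by rw [h]; rfl
    rw [ps_apply, ha, mul_inv_cancel₀ ht] at e
    have e0 : ee p 0 = 1 := AddChar.map_zero_eq_one _
    exact one_ne_zero (ZMod.injective_stdAddChar (e.trans e0.symm))
  · intro t r
    ext a
    rw [AddChar.mulShift_apply, ps_apply, ps_apply, ← nsmul_eq_mul, map_nsmul, nsmul_eq_mul]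
    congr 1
    ring
  · intro t x hx
    unfold GG gaussSum
    congr 1
    rw [← Finset.add_sum_erase _ _ (mem_univ (0 : F)), MulChar.map_zero, zero_mul, zero_add]
    refine Finset.sum_bij (fun j _ => (γ : F) ^ j) ?_ ?_ ?_ ?_
    · intro j _
      exact Finset.mem_erase.2 ⟨pow_ne_zero _ γ.ne_zero, mem_univ _⟩
    · intro i hi j hj e
      have e' : γ ^ i = γ ^ j := Units.ext (by simpa using e)
      exact pow_injOn_Iio_orderOf (by simpa [hoγ] using hi) (by simpa [hoγ] using hj) e'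
    · intro a ha
      have ha0 : a ≠ 0 := (Finset.mem_erase.1 ha).1
      have hmem : Units.mk0 a ha0 ∈ (range (orderOf γ)).image fun i => γ ^ i := by
        rw [IsCyclic.image_range_orderOf hgen]; exact mem_univ _
      obtain ⟨j, hj, e⟩ := Finset.mem_image.1 hmem
      refine ⟨j, by rwa [← hoγ], ?_⟩
      rw [← Units.val_pow_eq_pow_val, e]; rfl
    · intro j _
      rw [map_pow, hval x hx, ps_apply, htr, mul_comm]

theorem two (p : ℕ) [hp : Fact p.Prime] (M : ℕ) (K : Type) [Field K] [Fintype K] [Algebra (ZMod p) K]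
    (g : Kˣ) (θ : Kˣ →* ℂˣ) (s : Su p M g θ) (D e : ℕ) (hD : D * e ∣ M)
    (F L : Type) [Field F] [Fintype F] [Algebra (ZMod p) F] [Field L] [Fintype L] [Algebra (ZMod p) L]
    [Algebra F L] [IsScalarTower (ZMod p) F L]
    (hF : Fintype.card F = p ^ D) (hL : Fintype.card L = p ^ (D * e)) (ι : L →+* K) :
    ∃ (ψ : ZMod p → AddChar F ℂ) (χ : Kˣ → MulChar F ℂ) (γ : Fˣ)
    (ψ' : ZMod p → AddChar L ℂ) (χ' : Kˣ → MulChar L ℂ) (γ' : Lˣ),
    Br p M g θ D F ψ χ γ ∧ Br p M g θ (D * e) L ψ' χ' γ' ∧ Module.finrank F L = e ∧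
    Algebra.norm F (γ' : L) = γ ∧ ∀ t a, ψ' t a = ψ t (Algebra.trace F L a) := by
  have hD1 : D ∣ M := (Dvd.intro e rfl).trans hD
  have hD0 : 0 < D := Nat.pos_of_dvd_of_pos hD1 s.pos
  obtain ⟨χ, γ, hb, hγ⟩ := core p M K g θ s D hD1 F hF (ι.comp (algebraMap F L))
  obtain ⟨χ', γ', hb', hγ'⟩ := core p M K g θ s (D * e) hD L hL ι
  refine ⟨ps p F, χ, γ, ps p L, χ', γ', hb, hb', ?_, ?_, ?_⟩
  · have h := Module.finrank_mul_finrank (ZMod p) F L
    rw [rank p F D hF, rank p L (D * e) hL] at h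
    exact Nat.eq_of_mul_eq_mul_left hD0 h
  · apply (ι.comp (algebraMap F L)).injective
    rw [hγ, RingHom.comp_apply, FiniteField.algebraMap_norm_eq_pow, map_pow, hγ',
      Nat.card_eq_fintype_card, Nat.card_eq_fintype_card, hF, hL, ← Units.val_pow_eq_pow_val, ← pow_mul,
      Nat.div_mul_div (Nat.pow_sub_one_dvd_pow_sub_one p hD)
        (Nat.pow_sub_one_dvd_pow_sub_one p (Dvd.intro e rfl))]
  · intro t a
    rw [ps_apply, ps_apply, Algebra.trace_trace]

theorem job : H63.Kgv.JBR := by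
  intro p hp M K _ _ _ g θ s D e hD
  have hDe : 0 < D * e := Nat.pos_of_dvd_of_pos hD s.pos
  have hD0 : 0 < D := Nat.pos_of_mul_pos_right hDe
  letI : Fintype (GaloisField p D) := Fintype.ofFinite _
  letI : Fintype (GaloisField p (D * e)) := Fintype.ofFinite _
  have hF : Fintype.card (GaloisField p D) = p ^ D := by
    rw [← Nat.card_eq_fintype_card, GaloisField.card p D hD0.ne']
  have hL : Fintype.card (GaloisField p (D * e)) = p ^ (D * e) := by
    rw [← Nat.card_eq_fintype_card, GaloisField.card p (D * e) hDe.ne']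
  obtain ⟨φ⟩ : Nonempty (GaloisField p D →ₐ[ZMod p] GaloisField p (D * e)) :=
    FiniteField.nonempty_algHom_of_finrank_dvd (by
      rw [rank p _ D hF, rank p _ (D * e) hL]; exact Dvd.intro e rfl)
  obtain ⟨ι⟩ : Nonempty (GaloisField p (D * e) →ₐ[ZMod p] K) :=
    FiniteField.nonempty_algHom_of_finrank_dvd (by
      rw [rank p _ (D * e) hL, rank p K M s.card]; exact hD)
  letI : Algebra (GaloisField p D) (GaloisField p (D * e)) := φ.toRingHom.toAlgebra
  haveI : IsScalarTower (ZMod p) (GaloisField p D) (GaloisField p (D * e)) :=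
    IsScalarTower.of_algebraMap_eq fun x => (φ.commutes x).symm
  exact ⟨GaloisField p D, GaloisField p (D * e), inferInstance, inferInstance, inferInstance, inferInstance,
    inferInstance, two p M K g θ s D e hD _ _ hF hL ι.toRingHom⟩

end H95.KgvBR
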