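import Cfsg.Agent.H47.O8CY

/-! The subgroup `S₃ × S₃ × S₃` of `C(t)` (blueprint `LOCAL3C.md`, §5.13). -/

set_option autoImplicit false
set_option maxRecDepth 100000
open Cfsg Subgroup H14 H98 H56.L3 H42.L3 H42.MC H26.MC H47.O8
open H47.MC hiding mT mR mS vy vz Loc NZ
open scoped Matrix commutatorElement

namespace H95.O8

universe u

abbrev S33 := S3 × S3 × S3

/-- the translation part of a permutation of `𝔽₃` -/
def tr (s : S3) : ZMod 3 := s 0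
/-- the sign of a permutation of `𝔽₃` -/
def sn (s : S3) : Fin 2 := if s 1 = s 0 + 1 then 0 else 1
def sg : Fin 2 → ZMod 3 := ![1, -1]
def xv (a b c : ZMod 3) : V := a • uu 0 + b • uu 1 + c • uu 2
def mE (e f g : Fin 2) : Mat := mm (mm (![1, mR 0] e) (![1, mR 1] f)) (![1, mR 2] g)

theorem tr_mul : ∀ s r : S3, tr (s * r) = tr s + sg (sn s) * tr r := by decide +kernel
theorem sn_mul : ∀ s r : S3, sn (s * r) = sn s + sn r := by decide +kernel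
theorem ex_s : ∀ (a : ZMod 3) (e : Fin 2), ∃ s, tr s = a ∧ sn s = e := by decide +kernel
theorem s_one : ∀ s : S3, tr s = 0 → sn s = 0 → s = 1 := by decide +kernel
theorem s_cube : ∀ s : S3, s ^ 3 = 1 ↔ sn s = 0 := by decide +kernel
theorem s_six : ∀ s : S3, (s * s) ^ 3 = 1 := by decide +kernel
theorem s_inv : ∀ s : S3, s * s = 1 → ∃ r, tr (r * s * r⁻¹) = 0 := by decide +kernel
theorem xv_add (a b c a' b' c' : ZMod 3) :
    xv (a + a') (b + b') (c + c') = xv a b c + xv a' b' c' := by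
  simp only [xv, add_smul]; abel
theorem xv_T : ∀ a b c, act mT (xv a b c) = xv a b c := by decide +kernel
theorem xv_zero : ∀ a b c, xv a b c = 0 → a = 0 ∧ b = 0 ∧ c = 0 := by decide +kernel
theorem xv_0 : xv 0 0 0 = 0 := by simp [xv]
theorem ex_xv : ∀ x : V, act mT x = x → ∃ a b c, xv a b c = x := by decide +kernel
theorem mE_xv : ∀ e f g a b c, act (mE e f g) (xv a b c) = xv (sg e * a) (sg f * b) (sg g * c) := by
  decide +kernel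
theorem mE_mul : ∀ e f g e' f' g', mm (mE e f g) (mE e' f' g') = mE (e + e') (f + f') (g + g') := by
  decide +kernel
theorem mE_one : ∀ e f g, mE e f g ≠ mT ∧ (mE e f g = 1 → e = 0 ∧ f = 0 ∧ g = 0) := by
  decide +kernel
theorem mE_u : ∀ e f g, (e = 0 ∧ f = 0 ∧ g = 0) ∨ ∃ k, act (mE e f g) (uu k) = -uu k := by
  decide +kernel
theorem mE_sq : ∀ e f g, mm (mE e f g) (mE e f g) = 1 := by decide +kernel

variable {G : Type u} [Group G]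

/-- a product of the reflections `τ_k` -/
def tE (d : Dat G) (e f g : Fin 2) : G := d.τ 0 ^ e.val * d.τ 1 ^ f.val * d.τ 2 ^ g.val

theorem tE_0 (d : Dat G) : tE d 0 0 0 = 1 := by simp [tE]

section
variable {d : Dat G} (h : Loc d) {g : G} {N : Subgroup G} {a : S33}
include h

theorem hat_tE (e f g : Fin 2) : Hat d (tE d e f g) (mE e f g) :=
  ((((h.hτ 0).pow _).mul ((h.hτ 1).pow _)).mul ((h.hτ 2).pow _)).cast (by
    rw [pow_fin2, pow_fin2, pow_fin2, mul_eq, mul_eq, mE])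

theorem tE_sq (e f g : Fin 2) : tE d e f g * tE d e f g = 1 :=
  h.sq (hat_tE h e f g) (by rw [mul_eq, mE_sq])

/-- the homomorphism given by `u_k`, `τ_k` -/
def β : S33 →* G := MonoidHom.mk' (fun a => d.v (xv (tr a.1) (tr a.2.1) (tr a.2.2)) *
    tE d (sn a.1) (sn a.2.1) (sn a.2.2)) fun a b => by
  rw [vmul h.co (hat_tE h _ _ _).1, mulVec_eq, mE_xv, ← xv_add]
  simp only [Prod.fst_mul, Prod.snd_mul, tr_mul, sn_mul]
  rw [h.uniq (hat_tE h _ _ _) ((hat_tE h _ _ _).mul (hat_tE h _ _ _)) (by rw [mul_eq, mE_mul])]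

theorem β_apply (a : S33) : β h a = d.v (xv (tr a.1) (tr a.2.1) (tr a.2.2)) *
    tE d (sn a.1) (sn a.2.1) (sn a.2.2) := rfl

theorem xv_D (a b c : ZMod 3) : d.v (xv a b c) ∈ d.D := h.v_D (by rw [mulVec_eq, xv_T])

theorem β_D (h3 : a ^ 3 = 1) : β h a ∈ d.D := by
  rw [β_apply, (s_cube _).1 (congrArg Prod.fst h3), (s_cube _).1 (congrArg (·.2.1) h3),
    (s_cube _).1 (congrArg (·.2.2) h3), tE_0, mul_one]
  exact xv_D h _ _ _

theorem ex_β (x : V) (hx : mT *ᵥ x = x) (e f g : Fin 2) : ∃ a, β h a = d.v x * tE d e f g ∧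
    sn a.1 = e ∧ sn a.2.1 = f ∧ sn a.2.2 = g := by
  obtain ⟨a, b, c, rfl⟩ := ex_xv x (by rwa [← mulVec_eq])
  obtain ⟨s, rfl, rfl⟩ := ex_s a e
  obtain ⟨s', rfl, rfl⟩ := ex_s b f
  obtain ⟨s'', rfl, rfl⟩ := ex_s c g
  exact ⟨(s, s', s''), rfl, rfl, rfl, rfl⟩

theorem D_β (hg : g ∈ d.D) : ∃ a, a ^ 3 = 1 ∧ β h a = g := by
  obtain ⟨x, hx, rfl⟩ := h.mem_D.1 hg
  obtain ⟨a, e, h1, h2, h3⟩ := ex_β h x hx 0 0 0
  exact ⟨a, Prod.ext ((s_cube _).2 h1) (Prod.ext ((s_cube _).2 h2) ((s_cube _).2 h3)),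
    by rw [e, tE_0, mul_one]⟩

theorem β_zt (e : β h a ∈ zpowers d.t) : a = 1 := by
  have key : ∀ k M, Hat d k M → β h a = k → M = 1 ∨ M = mT → a = 1 := fun k M hk e hM => by
    rw [← one_mul k, ← v_zero h.co] at e
    obtain ⟨h1, -, h2⟩ := h.dec (hat_tE h _ _ _) hk e
    obtain ⟨a1, a2, a3⟩ := xv_zero _ _ _ h1
    obtain ⟨b1, b2, b3⟩ := (mE_one _ _ _).2
      (h2.trans (hM.resolve_right fun e' => (mE_one _ _ _).1 (h2.trans e')))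
    exact Prod.ext (s_one _ a1 b1) (Prod.ext (s_one _ a2 b2) (s_one _ a3 b3))
  rcases h.mem_zt.1 e with e | e
  exacts [key _ _ Hat.one e (.inl rfl), key _ _ h.ht e (.inr rfl)]

theorem β_inj : Function.Injective (β h) :=
  (injective_iff_map_eq_one _).2 fun _ e => β_zt h (e ▸ one_mem _)

variable [Finite G]

theorem tE_B (e f g : Fin 2) : tE d e f g ∈ d.B :=
  mul_mem (mul_mem (pow_mem (h.τ_B 0) _) (pow_mem (h.τ_B 1) _)) (pow_mem (h.τ_B 2) _)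

theorem β_B (a : S33) : β h a ∈ d.B := mul_mem (Loc.D_B (xv_D h _ _ _)) (tE_B h _ _ _)

theorem β_Sg (ex : Ex d) (e : β h a ∈ d.Sg) : a = 1 := β_zt h (ex.inf ⟨e, (β_B h a).1⟩)

theorem range_nr : (β h).range ≤ nr d.Sg := by
  rintro _ ⟨a, rfl⟩
  exact h.B_nrSg (β_B h a)

/-- the group `Σ (S₃ × S₃ × S₃)` -/
abbrev H0 : Subgroup G := (β h).range ⊔ d.Sg

theorem β_H0 (a : S33) : β h a ∈ H0 h := mem_sup_left ⟨a, rfl⟩

theorem mem_H0 : g ∈ H0 h ↔ ∃ a, ∃ σ ∈ d.Sg, g = β h a * σ := by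
  rw [mem_sup_left_norm (range_nr h)]
  exact ⟨fun ⟨_, ⟨a, rfl⟩, e⟩ => ⟨a, e⟩, fun ⟨a, e⟩ => ⟨_, ⟨a, rfl⟩, e⟩⟩

theorem H0_nr : H0 h ≤ nr d.Sg := sup_le (range_nr h) le_normalizer

theorem exists_F (ex : Ex d) : ∃ F : H0 h →* S33, (∀ x a, (β h a)⁻¹ * x.1 ∈ d.Sg → F x = a) ∧
    (∀ x, F x = 1 ↔ x.1 ∈ d.Sg) ∧ Function.Surjective F := by
  let f := (MonoidHom.ofInjective (β_inj h)).symm
  have hf : ∀ a, f ⟨β h a, a, rfl⟩ = a := fun a => (MulEquiv.symm_apply_eq _).2 rfl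
  obtain ⟨F, hF⟩ := exists_ext (range_nr h) f.toMonoidHom (by
    rintro ⟨_, a, rfl⟩ e
    exact (hf a).trans (β_Sg h ex e))
  have h1 : ∀ x a, (β h a)⁻¹ * x.1 ∈ d.Sg → F x = a := fun x a e =>
    (hF x ⟨_, a, rfl⟩ e).trans (hf a)
  refine ⟨F, h1, fun x => ⟨fun e => ?_, fun e => h1 x 1 (by simpa using e)⟩,
    fun a => ⟨⟨_, β_H0 h a⟩, h1 _ a (by simp)⟩⟩
  obtain ⟨a, σ, hσ, e'⟩ := (mem_H0 h).1 x.2
  rw [h1 x a (by rw [e']; simpa using hσ)] at e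
  rwa [e', e, map_one, one_mul]

/-- a square root of `t` lies in `Σ` -/
theorem sq_t (ex : Ex d) (hg : g ∈ H0 h) (e : g * g = d.t) : g ∈ d.Sg := by
  obtain ⟨a, σ, hσ, rfl⟩ := (mem_H0 h).1 hg
  have h1 : a * a = 1 := β_Sg h ex (by
    convert mul_mem (mul_mem h.t_Sg (inv_mem hσ)) (inv_mem (conj_mem_of_mem_normalizer'
      (range_nr h ⟨a, rfl⟩) hσ)) using 1
    rw [map_mul, ← e]; group)
  obtain ⟨r1, e1⟩ := s_inv a.1 (congrArg Prod.fst h1)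
  obtain ⟨r2, e2⟩ := s_inv a.2.1 (congrArg (·.2.1) h1)
  obtain ⟨r3, e3⟩ := s_inv a.2.2 (congrArg (·.2.2) h1)
  set b : S33 := (r1, r2, r3) with hb
  obtain ⟨e₁, e₂, e₃, hs, h0⟩ : ∃ e₁ e₂ e₃, β h (b * a * b⁻¹) = tE d e₁ e₂ e₃ ∧
      (e₁ = 0 ∧ e₂ = 0 ∧ e₃ = 0 → a = 1) := by
    refine ⟨_, _, _, ?_, fun ⟨c1, c2, c3⟩ => conj_eq_one_iff.1 (show b * a * b⁻¹ = 1 from
      Prod.ext (s_one _ e1 c1) (Prod.ext (s_one _ e2 c2) (s_one _ e3 c3)))⟩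
    rw [β_apply]
    change d.v (xv (tr (r1 * a.1 * r1⁻¹)) (tr (r2 * a.2.1 * r2⁻¹)) (tr (r3 * a.2.2 * r3⁻¹))) * _ = _
    rw [e1, e2, e3, xv_0, v_zero h.co, one_mul]
  rcases mE_u e₁ e₂ e₃ with h2 | ⟨k, h2⟩
  · rwa [h0 h2, map_one, one_mul]
  exfalso
  have h3 : (β h (b * a) * σ * (β h (b * a))⁻¹) * tE d e₁ e₂ e₃ = β h b * (β h a * σ) * (β h b)⁻¹ := by
    rw [← hs]; simp only [map_mul, map_inv]; group
  have h4 := mem_Ce'.1 (β_B h b).2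
  obtain ⟨ρ, hρ, h5⟩ := (ex.free k _ (tE_B h e₁ e₂ e₃) (tE_sq h _ _ _) (by
    rw [(hat_tE h _ _ _).1, mulVec_eq, h2, v_neg h.co])).1 _
    (conj_mem_of_mem_normalizer (range_nr h ⟨b * a, rfl⟩) hσ) (by
      rw [h3, conj_mul, e, h4]; exact mem_zpowers _)
  have h6 : ∀ s, ρ * ((β h (b * a) * σ * (β h (b * a))⁻¹) * tE d e₁ e₂ e₃) * ρ⁻¹ = s →
      s * s = d.t := fun s e' => by
    rw [← e', conj_mul, h3, conj_mul, e, h4, mem_Ce'.1 (ex.le hρ)]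
  rcases h5 with h5 | h5
  · exact h.t_ne ((h6 _ h5).symm.trans (tE_sq h _ _ _))
  · refine h.t_ne ((h6 _ h5).symm.trans ?_)
    rw [mul_assoc, ← mul_assoc d.t, ← mem_Ce.1 (tE_B h e₁ e₂ e₃).2, mul_assoc, h.tt, mul_one, tE_sq h]

/-- centralisers of the elements of `D` -/
theorem cen_D (cu : CU d) (cy : CY d) {x : V} (hx : mT *ᵥ x = x) (h0 : x ≠ 0)
    (hg : g ∈ Ce d.t ⊓ Ce (d.v x)) : ∃ σ ∈ d.Sg, σ⁻¹ * g ∈ Nr d.J := by
  have key : ∀ x : V, act mT x = x → x = 0 ∨ (∃ k, x = uu k ∨ x = -uu k) ∨ (∃ k, x = zz k ∨ x = -zz k) ∨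
      ∃ (f : Fin 3) (e e' : Fin 2), act (![1, mQ1, mm mQ1 mQ1] f) (act (mE 0 e e') vy) = x := by
    decide +kernel
  have pm : ∀ y, x = y ∨ x = -y → g ∈ Ce (d.v y) := by
    rintro y (rfl | rfl)
    · exact hg.2
    · have := hg.2
      rwa [v_neg h.co, Ce_inv] at this
  rcases key x (by rwa [← mulVec_eq]) with e | ⟨k, e⟩ | ⟨k, e⟩ | ⟨f, e, e', h1⟩
  · exact absurd e h0
  · exact ⟨1, one_mem _, by simpa using cu k ⟨hg.1, pm _ e⟩⟩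
  · obtain ⟨r, hr, h1⟩ := h.fr.nz k g ⟨hg.1, Ce_le_nr (pm _ e)⟩
    exact ⟨r, RR_le d k hr, h1⟩
  · have hn : d.q1 ^ f.val * tE d 0 e e' ∈ d.B := mul_mem (pow_mem h.q1_B _) (tE_B h _ _ _)
    set n := d.q1 ^ f.val * tE d 0 e e' with hn'
    have h2 : n * d.v vy * n⁻¹ = d.v x := by
      rw [((h.h1.pow f.val).mul (hat_tE h 0 e e')).1, ← Matrix.mulVec_mulVec, ← h1, mulVec_eq,
        mulVec_eq]
      congr 2
      fin_cases f
      · rfl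
      · exact pow_one _
      · exact (pow_two _).trans (mul_eq _ _)
    have h4 : n ∈ Nr d.J := hn.1
    have h5 : n ∈ Ce d.t := hn.2
    obtain ⟨σ, hσ, h3⟩ := cy (n⁻¹ * g * n) ⟨(Ce d.t).mul_mem ((Ce d.t).mul_mem ((Ce d.t).inv_mem h5) hg.1) h5, by
      have := conj_mem_Ce hg.2 n⁻¹
      rw [← h2] at this
      simpa [mul_assoc] using this⟩
    refine ⟨_, conj_mem_of_mem_normalizer (h.B_nrSg hn) (sup_le (RR_le d 0) (RR_le d 1) hσ), ?_⟩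
    convert mul_mem (mul_mem h4 h3) (inv_mem h4) using 1
    group

/-! ### A normal subgroup of index three -/

section N
variable (hN : N.Normal) (h3 : N.index = 3)
include hN h3

omit h [Finite G] in
theorem mem_N (e : g ^ 4 = 1) : g ∈ N := by
  have := inv_mem (h3 ▸ N.pow_index_mem g)
  rwa [mul_eq_one_iff_inv_eq.1 ((pow_succ g 3).symm.trans e)] at this

omit h [Finite G] in
theorem mem_N' (e : g * g = 1) : g ∈ N :=
  mem_N hN h3 (by rw [show 4 = 2 * 2 from rfl, pow_mul, pow_two g, e, one_pow])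

omit [Finite G] in
theorem v_N (x : V) : d.v x ∈ N := by
  refine mem_of_sq (k := 1) (v_cube h.co x) ?_
  have := mul_mem (hN.conj_mem _ (mem_N' hN h3 h.ιι) (d.v x)) (inv_mem (mem_N' hN h3 h.ιι))
  rwa [mul_assoc, mul_assoc, ← mul_assoc d.ι, ← v_neg h.co, h.aι, Matrix.neg_mulVec,
    Matrix.one_mulVec, neg_neg] at this

omit [Finite G] in
theorem J_N : d.J ≤ N := fun g hg => by
  obtain ⟨x, rfl⟩ := (h.mem g).1 hg
  exact v_N h hN h3 x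

omit [Finite G] in
theorem q2_N : d.q2 ∈ N := by
  refine mem_of_sq (k := 1) h.q2_cube ?_
  have := mul_mem (hN.conj_mem _ (mem_N' hN h3 h.tt) d.q2) (inv_mem (mem_N' hN h3 h.tt))
  rwa [mul_assoc, mul_assoc, ← mul_assoc d.t, ← conj_inv, h.tq2, inv_inv] at this

theorem q1_N : d.q1 ∉ N := fun e => by
  refine h.syl.not_dvd_relIndex ?_
  rw [relIndex_top_right, ← h3]
  refine index_dvd_of_le fun g hg => ?_
  obtain ⟨α, β, x, rfl⟩ := h.mem_S.1 hg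
  exact mul_mem (mul_mem (pow_mem e _) (pow_mem (q2_N h hN h3) _)) (v_N h hN h3 x)

theorem q1_pow {n : ℕ} (e : d.q1 ^ n ∈ N) : d.q1 ^ n = 1 := by
  rw [pow_eq_pow_mod n h.q1_cube] at e ⊢
  rcases (by omega : n % 3 = 0 ∨ n % 3 = 1 ∨ n % 3 = 2) with e' | e' | e' <;> rw [e'] at e ⊢
  · exact pow_zero _
  · exact absurd (by simpa using e) (q1_N h hN h3)
  · exact absurd (mem_of_sq (k := 1) h.q1_cube (by rwa [← pow_two])) (q1_N h hN h3)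

omit [Finite G] in
theorem β_N (a : S33) : β h a ∈ N := mul_mem (v_N h hN h3 _) (mem_N' hN h3 (tE_sq h _ _ _))

theorem Sg_N : d.Sg ≤ N := Sg_le fun _ _ hr => mem_N hN h3 (h.RR_four hr)

theorem H0_le : H0 h ≤ Ce d.t ⊓ N :=
  sup_le (by rintro _ ⟨a, rfl⟩; exact ⟨(β_B h a).2, β_N h hN h3 a⟩) (le_inf h.Sg_t (Sg_N h hN h3))

theorem D_le : d.D ≤ Ce d.t ⊓ N := fun _ hg => ⟨hg.2, J_N h hN h3 hg.1⟩

variable (h1 : One d)
include h1

theorem BN (hg : g ∈ d.B) (hg' : g ∈ N) : ∃ a, ∃ e : ℕ, g = β h a * d.t ^ e := by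
  obtain ⟨x, k, M, hx, hk, -, h2, rfl⟩ := h.mem_B hg
  obtain ⟨e₀, e₁, e₂, e₃, f, -, rfl⟩ := h.rot_T hk (h1 _ _ hk.1) h2
  obtain ⟨a, e, -⟩ := ex_β h x hx e₁ e₂ e₃
  have h4 : d.v x * (d.t ^ e₀.val * d.τ 0 ^ e₁.val * d.τ 1 ^ e₂.val * d.τ 2 ^ e₃.val *
      d.q1 ^ f.val) = β h a * d.t ^ e₀.val * d.q1 ^ f.val := by
    rw [e, mul_assoc (d.v x), ((show Commute _ _ from mem_Ce.1 (tE_B h e₁ e₂ e₃).2).pow_right _).eq, tE]
    simp only [mul_assoc]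
  rw [h4] at hg' ⊢
  rw [q1_pow h hN h3 ((Subgroup.mul_mem_cancel_left _ (mul_mem (β_N h hN h3 a)
    (pow_mem (mem_N' hN h3 h.tt) _))).1 hg'), mul_one]
  exact ⟨a, _, rfl⟩

theorem BN_H0 (hg : g ∈ d.B) (hg' : g ∈ N) : g ∈ H0 h := by
  obtain ⟨a, e, rfl⟩ := BN h hN h3 h1 hg hg'
  exact (mem_H0 h).2 ⟨a, _, pow_mem h.t_Sg _, rfl⟩

theorem H0_of (hg : g ∈ Ce d.t ⊓ N) (e : ∃ σ ∈ d.Sg, σ⁻¹ * g ∈ Nr d.J) : g ∈ H0 h := by
  obtain ⟨σ, hσ, e⟩ := e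
  have h2 := mul_mem (inv_mem (H0_le h hN h3 (mem_sup_right hσ))) hg
  exact (Subgroup.mul_mem_cancel_left _ (inv_mem (mem_sup_right hσ))).1 (BN_H0 h hN h3 h1 ⟨e, h2.1⟩ h2.2)

theorem syl_D : IsSyl 3 d.D (Ce d.t ⊓ N) := h.isSyl_D (D_le h hN h3) fun g hg ⟨k, hk⟩ => by
  obtain ⟨a, e, rfl⟩ := BN h hN h3 h1 ⟨hg.2, hg.1.1⟩ hg.1.2
  refine mem_of_sq hk ?_
  have c : Commute (β h a) (d.t ^ e) := (show Commute _ _ from mem_Ce.1 (β_B h a).2).pow_right _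
  rw [← pow_two, c.mul_pow, ← pow_mul, mul_comm e, pow_mul, pow_two d.t, h.tt, one_pow, mul_one,
    pow_two, ← map_mul]
  exact β_D h (Prod.ext (s_six _) (Prod.ext (s_six _) (s_six _)))

end N

end

end H95.O8
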