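import Cfsg.Agent.H95.P4T4a
import Cfsg.Agent.H54.P4Ab
import Cfsg.Agent.H34.P4Sg1
import Cfsg.Agent.H34.BS
import Cfsg.Agent.H42.OddOrder
import Cfsg.Agent.H2.MinNormal

/-! Blueprint `LOCAL3C.md` 3.13: the case `C(L)/⟨t⟩ ≅ PSL₂(q)` does not occur. -/

set_option autoImplicit false
open Cfsg H56.L3 H47.P4C Subgroup H3.P4T H59.P4 H98
open scoped commutatorElement

namespace H95.T4

universe u v

variable {G : Type u} [Group G] {F : Type v} [Field F] {h : F → F → F → G} {ι : SL2 F →* G}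

theorem mC {x g : G} : g ∈ Ce x ↔ g * x = x * g := mem_centralizer_singleton_iff

theorem mK {g : G} : g ∈ Cn ι.range ↔ ∀ A, ι A * g = g * ι A :=
  ⟨fun e A => e _ ⟨A, rfl⟩, fun e _ ⟨A, hA⟩ => hA ▸ e A⟩

theorem ιt (A : SL2 F) : ι A * ι (-1) = ι (-1) * ι A := by rw [← map_mul, ← map_mul]; simp

theorem tK : ι (-1) ∈ Cn ι.range := mK.2 ιt

theorem tt : ι (-1) * ι (-1) = 1 := by rw [← map_mul]; simp

theorem zp {t g : G} (ht : t * t = 1) (hg : g ∈ zpowers t) : g = 1 ∨ g = t := by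
  obtain ⟨k, rfl⟩ := hg
  have e : t ^ (2 : ℤ) = 1 := by rw [zpow_two, ht]
  rcases Int.even_or_odd' k with ⟨m, rfl | rfl⟩
  · left; show t ^ (2 * m) = 1; rw [zpow_mul, e, one_zpow]
  · right; show t ^ (2 * m + 1) = t; rw [zpow_add, zpow_mul, e, one_zpow, one_mul, zpow_one]

theorem zK (κ : Cen h ι) (c : F) : h 0 0 c ∈ Cn ι.range := mK.2 fun A => by
  rw [κ.comm]; simp

theorem uu (r s : F) : ι (uM r) * ι (uM s) = ι (uM s) * ι (uM r) := by
  rw [← map_mul, ← map_mul, uM_mul, uM_mul, add_comm]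

/-- an odd power which is a `2`-element -/
theorem odd_pow [Finite G] (g : G) : ∃ m k : ℕ, (g ^ (2 * m + 1)) ^ 2 ^ k = 1 := by
  obtain ⟨k, n, ⟨m, rfl⟩, e⟩ := Nat.exists_eq_two_pow_mul_odd (orderOf_pos g).ne'
  exact ⟨m, k, by rw [← pow_mul, mul_comm, ← e, pow_orderOf_eq_one]⟩

theorem inv_odd {a u : G} (e : a * u * a⁻¹ = u⁻¹) (m : ℕ) :
    a ^ (2 * m + 1) * u * (a ^ (2 * m + 1))⁻¹ = u⁻¹ := by
  induction m with
  | zero => simpa using e
  | succ m ih =>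
    have e' : a * u⁻¹ * a⁻¹ = u := by
      calc a * u⁻¹ * a⁻¹ = (a * u * a⁻¹)⁻¹ := by group
        _ = u := by rw [e, inv_inv]
    calc a ^ (2 * (m + 1) + 1) * u * (a ^ (2 * (m + 1) + 1))⁻¹
        = a * (a * (a ^ (2 * m + 1) * u * (a ^ (2 * m + 1))⁻¹) * a⁻¹) * a⁻¹ := by group
      _ = u⁻¹ := by rw [ih, e', e]

/-- `KB` with `Z` mapped onto the unitriangular group -/
structure NB (κ : Cen h ι) (π : Cn ι.range →* PSL2 F) : Prop where
  sur : Function.Surjective π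
  ker : ∀ g, π g = 1 ↔ (g : G) ∈ zpowers (ι (-1))
  cx : ∀ g ∈ Ce (ι (-1)) ⊓ Ce (ι (uM 1)), ∃ s, ∃ k ∈ Cn ι.range, g = ι (uM s) * k
  zu : ∀ c, ∃ s, π ⟨h 0 0 c, zK κ c⟩ = pr F (uM s)
  uz : ∀ s, ∃ c, π ⟨h 0 0 c, zK κ c⟩ = pr F (uM s)

theorem z_t (κ : Cen h ι) (h2 : (2 : F) ≠ 0) {c : F} (e : h 0 0 c ∈ zpowers (ι (-1))) : c = 0 := by
  rcases zp tt e with e | e
  · exact (κ.inj 0 0 c 1 (by rw [map_one, mul_one, e])).2.2.1
  · exact absurd (κ.inj 0 0 c (-1) (by rw [e, tt])).2.2.2.symm (one_ne_neg h2)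

variable [Fintype F]

theorem exists_nb (κ : Cen h ι) (hF : Fld F) (kb : KB ι) : ∃ π, NB κ π := by
  obtain ⟨π, hs, hk⟩ := kb.psl
  have h3 := hF.three
  have : CharP F 3 := (CharP.charP_iff_prime_eq_zero Nat.prime_three).2 (by exact_mod_cast h3)
  have hp : IsPGroup 3 ((κ.Z.subgroupOf (Cn ι.range)).map π) :=
    (isPGroup_subgroupOf (isPGroup_iff_forall.2 (by
      rintro _ ⟨c, rfl⟩
      refine ⟨1, ?_⟩
      rw [pow_one, pow_succ, pow_two, κ.mul, κ.mul, ← κ.one]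
      congr 1
      · simp
      · simp
      · linear_combination c * h3)) _).map π
  obtain ⟨g, -, hg⟩ := (syl_U (F := F) 3).exists_cj_le hp le_top
  have zu : ∀ c, ∃ s, g * π ⟨h 0 0 c, zK κ c⟩ * g⁻¹ = pr F (uM s) := fun c => by
    obtain ⟨_, ⟨s, rfl⟩, e⟩ := hg (conj_mem_cj (mem_map_of_mem π
      (show (⟨h 0 0 c, zK κ c⟩ : Cn ι.range) ∈ κ.Z.subgroupOf _ from ⟨c, rfl⟩)))
    exact ⟨s.toAdd, e.symm⟩
  refine ⟨(MulAut.conj g).toMonoidHom.comp π, (MulAut.conj g).surjective.comp hs, fun x => ?_,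
    kb.cx, zu, ?_⟩
  · rw [← hk]; exact (MulAut.conj g).map_eq_one_iff
  · choose φ hφ using zu
    have hi : Function.Injective φ := fun c c' e => by
      have e1 : π ⟨h 0 0 c, zK κ c⟩ = π ⟨h 0 0 c', zK κ c'⟩ :=
        (MulAut.conj g).injective ((hφ c).trans (e ▸ (hφ c').symm))
      have e2 := (hk _).1 (show π (⟨h 0 0 c, zK κ c⟩ * ⟨h 0 0 c', zK κ c'⟩⁻¹) = 1 by
        rw [map_mul, map_inv, e1, mul_inv_cancel])
      change h 0 0 c * (h 0 0 c')⁻¹ ∈ _ at e2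
      rw [κ.inv, κ.mul] at e2
      simp only [neg_zero, add_zero, mul_zero, sub_zero] at e2
      exact sub_eq_zero.1 (by rw [sub_eq_add_neg]; exact z_t κ (two_ne h3) e2)
    intro s
    obtain ⟨c, rfl⟩ := Finite.surjective_of_injective hi s
    exact ⟨c, hφ c⟩

variable {κ : Cen h ι} {π : Cn ι.range →* PSL2 F}

theorem cx_u (hF : Fld F) (b : NB κ π) {s : F} (hs : s ≠ 0) {g : G} (h1 : g ∈ Ce (ι (-1)))
    (h2 : g ∈ Ce (ι (uM s))) : ∃ r, ∃ k ∈ Cn ι.range, g = ι (uM r) * k := by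
  obtain ⟨l, hl⟩ := H54.P4Ab.sq_or hF hs
  have e : ∀ r, ι (dM l) * ι (uM r) * (ι (dM l))⁻¹ = ι (uM (l ^ 2 * r)) := fun r => by
    rw [← map_inv, ← map_mul, ← map_mul, H54.P4Ab.dM_uM]
  have h3 : g ∈ Ce (ι (uM (l ^ 2 * 1))) := by
    rw [mul_one]
    rcases hl with rfl | rfl
    · exact h2
    · rw [← uM_inv, map_inv, mC] at h2
      exact mC.2 (Commute.inv_right_iff.1 h2)
  have hd : ι (dM l) ∈ Ce (ι (-1)) := mC.2 (ιt _)
  obtain ⟨r, k, hk, e'⟩ := b.cx ((ι (dM l))⁻¹ * g * ι (dM l))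
    <| mem_inf.2 ⟨mul_mem (mul_mem (inv_mem hd) h1) hd, mC.2 (by
      rw [← e, mC] at h3
      calc _ = (ι (dM l))⁻¹ * (g * (ι (dM l) * ι (uM 1) * (ι (dM l))⁻¹)) * ι (dM l) := by group
        _ = _ := by rw [h3]; group)⟩
  refine ⟨l ^ 2 * r, k, hk, ?_⟩
  calc g = ι (dM l) * ((ι (dM l))⁻¹ * g * ι (dM l)) * (ι (dM l))⁻¹ := by group
    _ = ι (dM l) * ι (uM r) * (ι (dM l))⁻¹ * (ι (dM l) * k) * (ι (dM l))⁻¹ := by rw [e']; group
    _ = _ := by rw [e, mK.1 hk]; group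

omit [Fintype F] in
theorem rk_cube (h3 : (3 : F) = 0) (r : F) {k : G} (hk : k ∈ Cn ι.range) :
    (ι (uM r) * k) ^ 3 = k ^ 3 := by
  rw [Commute.mul_pow (mK.1 hk _), ← map_pow, u_cube h3, map_one, one_mul]

omit [Fintype F] in
theorem rk_cen (r s : F) {k : G} (hk : k ∈ Cn ι.range) :
    ι (uM r) * k * ι (uM s) = ι (uM s) * (ι (uM r) * k) := by
  rw [mul_assoc, ← mK.1 hk, ← mul_assoc, uu, mul_assoc]

/-- involutions of `C(t, x)` lie in `K` -/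
theorem inv_K (hF : Fld F) (b : NB κ π) {g : G} (h1 : g ∈ Ce (ι (-1))) (h2 : g ∈ Ce (ι (uM 1)))
    (e : g * g = 1) : g ∈ Cn ι.range := by
  obtain ⟨r, k, hk, e'⟩ := b.cx g ⟨h1, h2⟩
  have : g = k ^ 3 := by rw [← rk_cube hF.three r hk, ← e', pow_succ, pow_two, e, one_mul]
  exact this ▸ pow_mem hk 3

variable [Finite G]

/-- Frattini argument -/
theorem frat (hF : Fld F) (tc : TC κ) (b : NB κ π) {g : G} (h1 : g ∈ Ce (ι (-1)))
    (h2 : g ∈ Nr (Uψ ι)) : ∃ a ∈ Ce (ι (-1)) ⊓ Nr κ.D, ∃ r, ∃ k ∈ Cn ι.range,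
      g = a * (ι (uM r) * k) := by
  have h3 := hF.three
  have hD : IsSyl 3 κ.D (Ce (ι (-1)) ⊓ Ce (ι (uM 1))) := by
    have hp : IsPGroup 3 κ.D := isPGroup_iff_forall.2 (by
      rintro _ ⟨c, s, rfl⟩
      refine ⟨1, ?_⟩
      rw [pow_one, ← mK.1 (zK κ c), rk_cube h3 s (zK κ c), pow_succ, pow_two, κ.mul, κ.mul, ← κ.one]
      congr 1
      · simp
      · simp
      · linear_combination c * h3)
    refine ⟨?_, hp, fun Q hQ a1 a2 => tc.sylD Q hQ a1 (a2.trans inf_le_left)⟩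
    rintro _ ⟨c, s, rfl⟩
    exact ⟨mul_mem (mC.2 (mK.1 (zK κ c) _).symm) (mC.2 (ιt _)),
      mul_mem (mC.2 (mK.1 (zK κ c) _).symm) (mC.2 (uu _ _))⟩
  have hn : g ∈ Nr (Ce (ι (-1)) ⊓ Ce (ι (uM 1))) := mem_normalizer_of_cj_le (by
    rintro _ ⟨y, hy, rfl⟩
    refine mem_inf.2 ⟨mul_mem (mul_mem h1 hy.1) (inv_mem h1), mC.2 ?_⟩
    obtain ⟨s, hs⟩ := conj_mem_of_mem_normalizer' h2 (show ι (uM 1) ∈ Uψ ι from ⟨1, rfl⟩)
    obtain ⟨r, k, hk, rfl⟩ := b.cx y hy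
    change g * _ * g⁻¹ * _ = _ * (g * _ * g⁻¹)
    calc _ = g * (ι (uM r) * k * (g⁻¹ * ι (uM 1) * g)) * g⁻¹ := by group
      _ = _ := by rw [hs, rk_cen r s hk, ← hs]; group)
  obtain ⟨a, ha, n, hn', rfl⟩ := hD.frattini_mem hn
  obtain ⟨r, k, hk, rfl⟩ := b.cx n hn'
  exact ⟨a, ⟨(Subgroup.mul_mem_cancel_right _ hn'.1).1 h1, ha⟩, r, k, hk, rfl⟩

omit [Finite G] [Fintype F] in
theorem rk_nL (r : F) {k : G} (hk : k ∈ Cn ι.range) : ι (uM r) * k ∈ Nr ι.range :=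
  mul_mem (le_normalizer ⟨_, rfl⟩) (centralizer_le_normalizer _ hk)

theorem nL (hF : Fld F) (l3 : Loc3 κ) (tc : TC κ) (b : NB κ π) {g : G} (h1 : g ∈ Ce (ι (-1)))
    (h2 : g ∈ Nr (Uψ ι)) : g ∈ Nr ι.range := by
  obtain ⟨a, ha, r, k, hk, rfl⟩ := frat hF tc b h1 h2
  exact mul_mem (l3.nL ⟨(tc.nD ha).1, ha.1⟩) (rk_nL r hk)

theorem exists_ind {K Q : Type*} [Group K] [Group Q] (π : K →* Q) (hs : Function.Surjective π)
    (f : K →* K) (e : ∀ x, π x = 1 ↔ π (f x) = 1) :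
    ∃ σ : Q →* Q, Function.Injective σ ∧ ∀ x, σ (π x) = π (f x) := by
  have hσ : ∀ x, π.liftOfSurjective hs ⟨π.comp f, fun x hx => (e x).1 hx⟩ (π x) = π (f x) :=
    fun x => π.liftOfRightInverse_comp_apply _ _ _ x
  refine ⟨_, (injective_iff_map_eq_one _).2 fun y hy => ?_, hσ⟩
  obtain ⟨x, rfl⟩ := hs y
  exact (e x).2 (hσ x ▸ hy)

/-- no element centralising the four-group inverts an element of `R` -/
theorem noinv (hF : Fld F) (l : Loc κ 3) (l3 : Loc3 κ) (tc : TC κ) (b : NB κ π)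
    {y1 y2 : Cn ι.range} {P : SL2 F} (e1 : π y1 = pr F (P * wM * P⁻¹))
    (e2 : π y2 = pr F (P * jM hF.three * P⁻¹)) {g : G} (h1 : g ∈ Ce (ι (-1)))
    (h2 : g ∈ Nr (Uψ ι)) (c1 : g * y1 = y1 * g) (c2 : g * y2 = y2 * g) {s : F}
    (e : g * ι (uM s) * g⁻¹ = (ι (uM s))⁻¹) : s = 0 := by
  by_contra hs
  have h3 := hF.three
  have h4 : Fintype.card F % 4 = 3 := by have := hF.mod; omega
  have : CharP F 3 := (CharP.charP_iff_prime_eq_zero Nat.prime_three).2 (by exact_mod_cast h3)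
  obtain ⟨a0, ha0, r0, k0, hk0, rfl⟩ := frat hF tc b h1 h2
  have i0 : a0 * ι (uM s) * a0⁻¹ = (ι (uM s))⁻¹ := by
    rw [← e, mul_assoc a0 (ι (uM r0) * k0), rk_cen r0 s hk0]; group
  generalize a0 * (ι (uM r0) * k0) = g at *
  obtain ⟨m, n, hm⟩ := odd_pow a0
  have i1 := inv_odd i0 m
  have aZ : a0 ^ (2 * m + 1) ∈ Nr κ.Z := pow_mem (tc.nD ha0).1 _
  have at' : a0 ^ (2 * m + 1) ∈ Ce (ι (-1)) := pow_mem ha0.1 _
  generalize a0 ^ (2 * m + 1) = a at *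
  have aC : a ∉ κ.C := fun hC => by
    obtain ⟨c, A, rfl⟩ := l.ct a ⟨hC, at'⟩
    refine no_inv h4 hs (B := A) (mul_inv_eq_one.1 (H34.P4.ι_inj κ ?_))
    rw [mul_inv_eq_iff_eq_mul, ← mK.1 (zK κ c), mul_assoc, ← mK.1 (zK κ c), ← mul_assoc,
      ← mul_assoc, mul_left_inj] at i1
    rw [map_mul, map_inv, map_mul, map_mul, i1, ← uM_inv, map_inv, mul_inv_cancel]
  have iZ := (tc.two a aZ n hm).2 aC
  have aK : a ∈ Nr (Cn ι.range) := normalizer_le_normalizer_centralizer _ (l3.nL ⟨aZ, at'⟩)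
  let f : Cn ι.range →* Cn ι.range :=
    ((Cn ι.range).normalizerMonoidHom ⟨a, aK⟩ : MulAut _).toMonoidHom
  have hf : ∀ x, (f x : G) = a * x * a⁻¹ := fun x => rfl
  obtain ⟨σ, si, hσ⟩ := exists_ind π b.sur f fun x => by
    rw [b.ker, b.ker, hf]
    have q : a * ι (-1) * a⁻¹ = ι (-1) := by rw [mC.1 at', mul_inv_cancel_right]
    constructor
    · intro hx
      rcases zp tt hx with q1 | q1 <;> rw [q1]
      · simp
      · rw [q]; exact mem_zpowers _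
    · intro hx
      rcases zp tt hx with q1 | q1
      · rw [show (x : G) = 1 by simpa using q1]; exact one_mem _
      · rw [show (x : G) = ι (-1) from (MulAut.conj a).injective (q1.trans q.symm)]
        exact mem_zpowers _
  obtain ⟨s0, hs0⟩ := inn_core 3 (dlb.comp σ)
    ((Function.LeftInverse.injective dlb_dlb).comp si) fun s => by
      obtain ⟨c, hc⟩ := b.uz s
      change dlb (σ (pr F (uM s))) = pr F (uM s)
      rw [← hc, hσ, show f ⟨h 0 0 c, zK κ c⟩ = ⟨h 0 0 c, zK κ c⟩⁻¹ from Subtype.ext (iZ c),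
        map_inv, hc, ← map_inv, dlb_pr, uM_inv, dl_u, neg_neg]
  obtain ⟨r, k, hk, ek⟩ := cx_u hF b hs (mul_mem h1 (inv_mem at')) (g := g * a⁻¹) (mC.2 (by
    calc g * a⁻¹ * ι (uM s) = g * (a⁻¹ * (a * ι (uM s) * a⁻¹)⁻¹ * a) * a⁻¹ := by rw [i1]; group
      _ = (g * ι (uM s) * g⁻¹)⁻¹ * (g * a⁻¹) := by group
      _ = _ := by rw [e, inv_inv]))
  obtain ⟨A, hA⟩ := pr_surj (π ⟨k, hk⟩)
  have key : ∀ (y : Cn ι.range) (W : SL2 F), π y = pr F (P * W * P⁻¹) → g * y = y * g →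
      pr F (P⁻¹ * A * dl (uM s0 * P) * dl W) = pr F (W * (P⁻¹ * A * dl (uM s0 * P))) := by
    intro y W ey cy
    have q1 : y = ⟨k, hk⟩ * f y * ⟨k, hk⟩⁻¹ := Subtype.ext (by
      have q := mK.1 (mul_mem (mul_mem hk (f y).2) (inv_mem hk)) (uM r)
      change (y : G) = k * f y * k⁻¹
      calc (y : G) = g * a⁻¹ * (a * y * a⁻¹) * (g * a⁻¹)⁻¹ := by
            rw [← mul_left_inj g, ← cy]; group
        _ = ι (uM r) * (k * f y * k⁻¹) * (ι (uM r))⁻¹ := by rw [ek, hf]; group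
        _ = _ := by rw [q, mul_inv_cancel_right])
    have q2 := congrArg π q1
    have q3 : σ (π y) = dlb (pr F (uM s0) * π y * (pr F (uM s0))⁻¹) := by
      rw [← dlb_dlb (σ _)]; exact congrArg dlb (hs0 _)
    rw [map_mul, map_mul, map_inv, ← hσ, q3, ey, ← hA, ← map_inv, ← map_mul, ← map_mul,
      dlb_pr] at q2
    simp only [map_mul, map_inv] at q2 ⊢
    calc _ = (pr F P)⁻¹ * (pr F A * (pr F (dl (uM s0)) * (pr F (dl P) * pr F (dl W) *
          (pr F (dl P))⁻¹) * (pr F (dl (uM s0)))⁻¹) * (pr F A)⁻¹) *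
          (pr F A * (pr F (dl (uM s0)) * pr F (dl P))) := by group
      _ = _ := by rw [← q2]; group
  exact no_comm h3 (fun x hx => FiniteField.isSquare_neg_one_iff.1 ⟨x, by rw [← hx, sq]⟩ h4)
    (key y1 _ e1 c1) (key y2 _ e2 c2)

omit [Fintype F] [Finite G] in
theorem solv_of {S T : Subgroup G} (h1 : ⁅S, S⁆ ≤ T) (h2 : ∀ a ∈ T, ∀ b ∈ T, a * b = b * a) :
    Group.IsSolvable S := by
  refine ⟨⟨2, map_injective S.subtype_injective ?_⟩⟩
  rw [derivedSeries_succ, derivedSeries_succ, derivedSeries_zero, map_commutator, map_commutator,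
    ← MonoidHom.range_eq_map, range_subtype, Subgroup.map_bot, eq_bot_iff]
  exact (commutator_mono h1 h1).trans (commutator_le.2 fun a ha b hb =>
    mem_bot.2 (commutatorElement_eq_one_iff_mul_comm.2 (h2 a ha b hb)))

omit [Fintype F] [Finite G] in
theorem comm_of_sq {a b : G} (ha : a * a = 1) (hb : b * b = 1) (e : a * b * (a * b) = 1) :
    a * b = b * a := by
  calc a * b = a * (a * b * (a * b)) * b * (b * b) := by
        rw [hb, mul_one, ← mul_assoc a, ← mul_assoc a a, ha, one_mul, mul_assoc, mul_assoc a b b, hb,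
          mul_one, ← mul_left_inj (a * b), e, mul_assoc, ← mul_assoc a a, ha, one_mul, hb]
    _ = b * a := by
      rw [hb, mul_one, ← mul_assoc a, ← mul_assoc a a, ha, one_mul, mul_assoc, mul_assoc a b b, hb,
        mul_one]

omit [Finite G] in
/-- an involution of `K` outside `⟨t⟩` lies in an elementary abelian group of order eight -/
theorem four (hF : Fld F) (b : NB κ π) {y1 : Cn ι.range} (s1 : y1 * y1 = 1) (n1 : π y1 ≠ 1) :
    ∃ (y2 : Cn ι.range) (P : SL2 F), y2 * y2 = 1 ∧ y1 * y2 = y2 * y1 ∧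
      π y1 = pr F (P * wM * P⁻¹) ∧ π y2 = pr F (P * jM hF.three * P⁻¹) := by
  have h3 := hF.three
  have h4 : Fintype.card F % 4 = 3 := by have := hF.mod; omega
  obtain ⟨A, hA⟩ := pr_surj (π y1)
  have a2 : A * A = -1 := (pr_one.1 (by rw [map_mul, hA, ← map_mul, s1, map_one])).resolve_left
    fun e => n1 (hA ▸ pr_one.2 (pm_of_sq (two_ne h3) e))
  obtain ⟨P, rfl⟩ := conj_w h4 a2
  have key : ∀ W : SL2 F, W * W = -1 → ∃ y : Cn ι.range, y * y = 1 ∧ π y = pr F (P * W * P⁻¹) := by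
    intro W hW
    obtain ⟨Q, rfl⟩ := conj_w h4 hW
    obtain ⟨k, hk⟩ := b.sur (pr F (P * Q * P⁻¹))
    refine ⟨k * y1 * k⁻¹, ?_, ?_⟩
    · calc _ = k * (y1 * y1) * k⁻¹ := by group
        _ = 1 := by rw [s1, mul_one, mul_inv_cancel]
    · rw [map_mul, map_mul, map_inv, hk, ← hA, ← map_inv, ← map_mul, ← map_mul]; congr 1; group
  obtain ⟨y2, s2, e2⟩ := key _ (j_facts h3).1
  obtain ⟨y3, s3, e3⟩ := key _ (wj_sq h3)
  refine ⟨y2, P, s2, comm_of_sq s1 s2 ?_, hA.symm, e2⟩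
  have q := (b.ker (y1 * y2 * y3⁻¹)).1 (by
    rw [map_mul, map_mul, map_inv, ← hA, e2, e3, ← map_mul, mul_inv_eq_one]; congr 1; group)
  rcases zp tt q with q | q
  · rw [mul_inv_eq_one.1 (show y1 * y2 * y3⁻¹ = 1 from Subtype.ext q), s3]
  · have q' : y1 * y2 = ⟨_, tK⟩ * y3 := mul_inv_eq_iff_eq_mul.1 (Subtype.ext q)
    rw [q']
    refine Subtype.ext ?_
    change ι (-1) * y3 * (ι (-1) * y3) = 1
    rw [mul_assoc, ← mul_assoc (y3 : G), ← mK.1 y3.2, ← mul_assoc, ← mul_assoc, tt, one_mul]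
    exact congrArg Subtype.val s3

/-- Step 1: `t` is isolated in `C(x)` -/
theorem iso (abh : JobAbH.{u, v}) (hF : Fld F) (l : Loc κ 3) (l3 : Loc3 κ) (tc : TC κ)
    (b : NB κ π) {g : G} (hg : g ∈ Ce (ι (uM 1)))
    (c : ι (-1) * (g * ι (-1) * g⁻¹) = g * ι (-1) * g⁻¹ * ι (-1)) :
    g * ι (-1) * g⁻¹ = ι (-1) := by
  by_contra ne
  have h3 := hF.three
  have hι : Function.Injective ι := (injective_iff_map_eq_one ι).2 fun A => H34.P4.ι_inj κ
  have tx : ι (-1) ∈ Ce (ι (uM 1)) := mC.2 (ιt _).symm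
  have cs : ∀ {a y : G}, y * y = 1 → a * y * a⁻¹ * (a * y * a⁻¹) = 1 := fun {a y} e => by
    calc _ = a * (y * y) * a⁻¹ := by group
      _ = 1 := by rw [e, mul_one, mul_inv_cancel]
  have aK : g⁻¹ * ι (-1) * g⁻¹⁻¹ ∈ Cn ι.range := inv_K hF b (mC.2 (by
    calc _ = g⁻¹ * (ι (-1) * (g * ι (-1) * g⁻¹)) * g := by group
      _ = _ := by rw [c]; group)) (mul_mem (mul_mem (inv_mem hg) tx) (inv_mem (inv_mem hg))) (cs tt)
  have an : g⁻¹ * ι (-1) * g⁻¹⁻¹ ∉ zpowers (ι (-1)) := fun e => by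
    rcases zp tt e with e | e
    · exact one_ne_neg (two_ne h3) (hι (by rw [map_one]; exact conj_eq_one_iff.1 e)).symm
    · exact ne (by nth_rw 1 [← e]; group)
  obtain ⟨y2, P, s2, c2, e1, e2⟩ := four hF b (y1 := ⟨_, aK⟩) (Subtype.ext (cs tt))
    fun e => an ((b.ker _).1 e)
  generalize hy : (⟨_, aK⟩ : Cn ι.range) = y1 at c2 e1
  have hy' : (y1 : G) = g⁻¹ * ι (-1) * g⁻¹⁻¹ := by rw [← hy]
  have sq : ∀ k : Cn ι.range, k * y1 = y1 * k → k * y2 = y2 * k → π k * π k = 1 := by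
    intro k q1 q2
    obtain ⟨A, hA⟩ := pr_surj (π k)
    have key : ∀ (y : Cn ι.range) (W : SL2 F), π y = pr F (P * W * P⁻¹) → k * y = y * k →
        pr F (P⁻¹ * A * P * W) = pr F (W * (P⁻¹ * A * P)) := fun y W ey q => by
      have q' := congrArg π q
      rw [map_mul, map_mul, ey, ← hA] at q'
      simp only [map_mul, map_inv] at q' ⊢
      calc _ = (pr F P)⁻¹ * (pr F A * (pr F P * pr F W * (pr F P)⁻¹)) * pr F P := by group
        _ = _ := by rw [q']; group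
    have := sq_of_comm h3 (key y1 _ e1 q1) (key y2 _ e2 q2)
    simp only [map_mul, map_inv, hA] at this
    calc _ = pr F P * ((pr F P)⁻¹ * π k * pr F P * ((pr F P)⁻¹ * π k * pr F P)) * (pr F P)⁻¹ := by
          group
      _ = 1 := by rw [this, mul_one, mul_inv_cancel]
  have hX := abh G F ι (Ce (ι (-1)) ⊓ Ce y1 ⊓ Ce y2) (Nr ι.range) hF hι
    (by rintro _ ⟨A, rfl⟩; exact ⟨⟨mC.2 (ιt A), mC.2 (mK.1 y1.2 A)⟩, mC.2 (mK.1 y2.2 A)⟩)
    le_normalizer ?_ (fun a ha => nL hF l3 tc b ha.1.1.1 ha.2) ?_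
  · let ψ : SL2 F →* G := (MulAut.conj g⁻¹).toMonoidHom.comp ι
    have hψ : ∀ A, ψ A = g⁻¹ * ι A * g⁻¹⁻¹ := fun A => rfl
    have cm : ∀ A y, g * y * g⁻¹ ∈ Cn ι.range → ψ A ∈ Ce y := fun A y hy => mC.2 (by
      calc ψ A * y = g⁻¹ * (ι A * (g * y * g⁻¹)) * g := by rw [hψ]; group
        _ = _ := by rw [mK.1 hy, hψ]; group)
    have hN : ∀ A, ψ A ∈ Nr ι.range := fun A => hX ⟨⟨cm A _ (inv_K hF b (mC.2 c.symm)
      (mul_mem (mul_mem hg tx) (inv_mem hg)) (cs tt)), cm A _ (by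
        rw [hy', show g * (g⁻¹ * ι (-1) * g⁻¹⁻¹) * g⁻¹ = ι (-1) by group]; exact tK)⟩,
      cm A _ (inv_K hF b (mC.2 (by
        have q : (y1 : G) * y2 = y2 * y1 := congrArg Subtype.val c2
        rw [hy'] at q
        calc _ = g * (y2 * (g⁻¹ * ι (-1) * g⁻¹⁻¹)) * g⁻¹ := by group
          _ = _ := by rw [← q]; group))
        (mul_mem (mul_mem hg (mC.2 (mK.1 y2.2 _).symm)) (inv_mem hg))
        (cs (congrArg Subtype.val s2)))⟩
    have : (ι.range.comap ψ).Normal := ⟨fun n hn A => by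
      rw [mem_comap, map_mul, map_mul, map_inv]
      exact conj_mem_of_mem_normalizer (hN A) hn⟩
    have top := H54.P4Ab.normal_top hF (ι.range.comap ψ) ⟨uM 1, by
      rw [hψ, mC.1 (inv_mem hg), mul_inv_cancel_right]⟩
    obtain ⟨A, hA⟩ : ψ (-1) ∈ ι.range := top.ge (mem_top (-1))
    refine an ?_
    rw [← hψ, ← hA]
    rcases pm_of_sq (two_ne h3) (A := A) (hι (by rw [map_mul, hA, map_one]; exact cs tt))
      with rfl | rfl
    · rw [map_one]; exact one_mem _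
    · exact mem_zpowers _
  · rintro _ ⟨s, rfl⟩ hu
    have hs : s ≠ 0 := fun e => hu (by rw [e, uM_zero, map_one])
    have dec : ∀ y ∈ Ce (ι (-1)) ⊓ Ce y1 ⊓ Ce y2 ⊓ Ce (ι (uM s)), ∃ r, ∃ k : Cn ι.range,
        y = ι (uM r) * k ∧ k * y1 = y1 * k ∧ k * y2 = y2 * k := fun y hy => by
      obtain ⟨r, k, hk, rfl⟩ := cx_u hF b hs hy.1.1.1 hy.2
      have key : ∀ y : Cn ι.range, ι (uM r) * k ∈ Ce (y : G) → ⟨k, hk⟩ * y = y * ⟨k, hk⟩ :=
        fun y hy => Subtype.ext (by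
          rw [mC, ← mul_assoc, ← mK.1 y.2, mul_assoc, mul_assoc, mul_right_inj] at hy
          exact hy)
      exact ⟨r, ⟨k, hk⟩, rfl, key _ hy.1.1.2, key _ hy.1.2⟩
    refine ⟨fun y hy => ?_, solv_of (T := zpowers (ι (-1))) (commutator_le.2 ?_) ?_, ?_⟩
    · obtain ⟨r, k, rfl, -⟩ := dec y hy
      exact rk_nL r k.2
    · intro y hy y' hy'
      obtain ⟨r, k, rfl, q1, q2⟩ := dec y hy
      obtain ⟨r', k', rfl, q1', q2'⟩ := dec y' hy'
      have q := comm_of_sq (sq k q1 q2) (sq k' q1' q2') (by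
        rw [← map_mul]; exact sq _ (Commute.mul_left q1 q1') (Commute.mul_left q2 q2'))
      have q3 := (b.ker ⁅k, k'⁆).1 (by
        rw [map_commutatorElement, commutatorElement_eq_one_iff_mul_comm, q])
      have a1 := rk_cen r r' k.2
      have a2 := mK.1 (mul_mem (mul_mem k.2 k'.2) (inv_mem k.2)) (uM r)
      have a3 := mK.1 (⁅k, k'⁆ : Cn ι.range).2 (uM r')
      convert q3 using 1
      change _ = (k : G) * k' * (k : G)⁻¹ * (k' : G)⁻¹
      change _ * ((k : G) * k' * (k : G)⁻¹ * (k' : G)⁻¹) =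
        (k : G) * k' * (k : G)⁻¹ * (k' : G)⁻¹ * _ at a3
      calc _ = ι (uM r) * k * ι (uM r') * k' * (ι (uM r) * k)⁻¹ * (ι (uM r') * k')⁻¹ := by
            rw [commutatorElement_def]; group
        _ = ι (uM r') * (ι (uM r) * (k * k' * (k : G)⁻¹) * (ι (uM r))⁻¹) * (ι (uM r') * k')⁻¹ := by
            rw [a1]; group
        _ = ι (uM r') * (k * k' * (k : G)⁻¹ * (k' : G)⁻¹) * (ι (uM r'))⁻¹ := by rw [a2]; group
        _ = _ := by rw [a3]; group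
    · rintro _ ⟨i, rfl⟩ _ ⟨j, rfl⟩
      exact zpow_mul_comm _ i j
    · intro y hy n hn
      obtain ⟨r, k, rfl, q1, q2⟩ := dec y hy
      have k4 : (k : G) ^ 4 = 1 := by
        have q := zp tt ((b.ker (k * k)).1 (by rw [map_mul, sq k q1 q2]))
        change (k : G) * k = 1 ∨ (k : G) * k = _ at q
        rw [show (k : G) ^ 4 = k * k * (k * k) by simp only [pow_succ, pow_zero, one_mul, mul_assoc]]
        rcases q with q | q <;> rw [q]
        · exact one_mul 1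
        · exact tt
      have k3 : (k : G) ^ 3 ^ (n + 1) = 1 := by
        rw [pow_succ', pow_mul, ← rk_cube h3 r k.2, ← pow_mul, mul_comm, pow_mul, hn, one_pow]
      have := pow_gcd_eq_one.2 ⟨k4, k3⟩
      rw [Nat.Coprime.gcd_eq_one (Nat.Coprime.pow_right _ (by norm_num)), pow_one] at this
      exact ⟨r, by rw [this, mul_one]⟩
  · rintro a ha _ ⟨s, rfl⟩ e
    rw [noinv hF l l3 tc b e1 e2 ha.1.1.1 ha.2 (mC.1 ha.1.1.2) (mC.1 ha.1.2) e, uM_zero, map_one]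

/-- **T4** -/
theorem jobT4 : JobT4.{u, v} := by
  intro abh G _ _ F _ _ h ι κ hF l l3 tc kb
  obtain ⟨π, b⟩ := exists_nb κ hF kb
  have h3 := hF.three
  have h2 := two_ne h3
  have tx : ι (-1) ∈ Ce (ι (uM 1)) := mC.2 (ιt _).symm
  have MΓ : κ.M ≤ Ce (ι (uM 1)) := fun m hm =>
    mC.2 (l.commM m hm _ ⟨0, 0, 1, by rw [κ.one, one_mul]⟩)
  have hi : IsIsolatedInvolution (⟨ι (-1), tx⟩ : Ce (ι (uM 1))) :=
    ⟨orderOf_eq_prime (Subtype.ext (by rw [pow_two]; exact tt))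
      (fun e => one_ne_neg h2 (H34.P4.ι_inj κ (congrArg Subtype.val e)).symm),
      fun g hg => Subtype.ext (iso abh hF l l3 tc b g.2 (congrArg Subtype.val hg.eq))⟩
  obtain ⟨O, hO', hO, ho, hB⟩ : ∃ O : Subgroup G, O ≤ Ce (ι (uM 1)) ∧ Ce (ι (uM 1)) ≤ Nr O ∧
      Odd (Nat.card O) ∧ ∀ a, h a 0 0 ∈ O := by
    refine ⟨(oddCore (Ce (ι (uM 1)))).map (Ce (ι (uM 1))).subtype, map_subtype_le _,
      le_normalizer_map_subtype _,
      by rw [card_map_of_injective (subtype_injective _)]; exact H2.odd_card_oddCore _, fun a => ?_⟩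
    refine ⟨_, H34.zstar hi ⟨h a 0 0, MΓ (H34.P4.hM κ a 0)⟩, ?_⟩
    change ι (-1) * h a 0 0 * (ι (-1))⁻¹ * (h a 0 0)⁻¹ = _
    rw [H34.P4.tconj κ, κ.inv, κ.mul]
    congr 1
    · linear_combination -a * h3
    · simp
    · simp
  have := H42.odd_order ho
  have h0 : pPrimeCore 3 O = ⊥ := by
    rw [← map_subtype_inj, Subgroup.map_bot]
    refine l3.sigM _ (H2.coprime_card_map_pPrimeCore_subtype O) fun j hj k hk => ?_
    exact conj_mem_of_mem_normalizer (normalizer_le_normalizer_map_subtype _ (hO (MΓ hj))) hk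
  have hA : Ce (ι (uM 1)) ≤ Nr ((pCore 3 O).map O.subtype) :=
    hO.trans (normalizer_le_normalizer_map_subtype _)
  have hM : IsSyl 3 κ.M (Ce (ι (uM 1))) := ⟨MΓ, l.pP.to_le (H34.P4.M_le_P κ), tc.sylM⟩
  have AM : (pCore 3 O).map O.subtype ≤ κ.M := hM.le_of_le_normalizer
    ((H2.pCore_isPGroup 3 O).map _) ((map_subtype_le _).trans hO') (MΓ.trans hA)
  have BA : ∀ a, h a 0 0 ∈ (pCore 3 O).map O.subtype := fun a =>
    ⟨⟨_, hB a⟩, H2.centralizer_pCore_le h0 fun y hy => Subtype.ext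
      (l.commM _ (AM ⟨y, hy, rfl⟩) _ (H34.P4.hM κ a 0)), rfl⟩
  obtain ⟨k, hk⟩ := b.sur (pr F wM)
  obtain ⟨s, hs⟩ := b.zu 1
  have zz : ∀ a c c', h 0 0 c' * h a 0 c = h a 0 c * h 0 0 c' := fun a c c' => by
    rw [κ.mul, κ.mul]; congr 1 <;> ring
  have c1 : Commute (k * h 0 0 1 * (k : G)⁻¹) (h 1 0 0) := by
    have q := AM (conj_mem_of_mem_normalizer' (hA (mC.2 (mK.1 k.2 _).symm)) (BA 1))
    obtain ⟨a, ha⟩ := (l.Bt _ q).1 (by
      have q1 := mK.1 k.2 (-1)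
      have q2 := mK.1 (inv_mem k.2) (-1)
      calc _ = ι (-1) * (k : G)⁻¹ * h 1 0 0 * (ι (-1) * (k : G)⁻¹)⁻¹ := by group
        _ = (k : G)⁻¹ * (ι (-1) * h 1 0 0 * (ι (-1))⁻¹) * k := by rw [q2]; group
        _ = _ := by rw [H34.P4.tconj κ, mul_inv_rev, mul_inv_rev, κ.inv, inv_inv, mul_assoc]; simp)
    calc _ = k * (h 0 0 1 * ((k : G)⁻¹ * h 1 0 0 * k)) * (k : G)⁻¹ := by group
      _ = _ := by rw [ha, zz, ← ha]; group
  have c2 : Commute (k * h 0 0 1 * (k : G)⁻¹) (ι wM) :=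
    (mK.1 (mul_mem (mul_mem k.2 (zK κ 1)) (inv_mem k.2)) _).symm
  have c3 := (c2.mul_right c1).mul_right c2.inv_right
  have c4 := ((c1.mul_right c3).mul_right c1.inv_right).mul_right c3.inv_right
  rw [κ.act, κ.inv, κ.inv, κ.mul, κ.mul, κ.mul] at c4
  simp only [w_ap] at c4
  obtain ⟨a', b', c', A, e⟩ := (κ.cen (-2) (neg_ne_zero.2 h2) _).1 (mC.2 (by
    convert c4.eq using 3 <;> ring))
  have c5 : k * ⟨_, zK κ 1⟩ * k⁻¹ * ⟨_, zK κ 1⟩ = ⟨_, zK κ 1⟩ * (k * ⟨_, zK κ 1⟩ * k⁻¹) :=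
    Subtype.ext (mC.1 ((κ.cen 1 one_ne_zero _).2 ⟨a', b', c', A, e⟩))
  have c6 := congrArg π c5
  simp only [map_mul, map_inv, hk, hs] at c6
  have s0 := wu_comm (s := s) (by simp only [map_mul, map_inv]; exact c6) h2
  rw [s0, uM_zero, map_one, b.ker] at hs
  exact one_ne_zero (z_t κ h2 hs)

end H95.T4
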