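import Cfsg.Agent.H95.WS2
import Cfsg.Agent.H81.W2O

/-! S1778, the wreath endgame for `Sp₄(2^n)`: the endgame from `W1` and `NU`. -/

set_option autoImplicit false
set_option linter.unusedSectionVars false

namespace H95.WS

open H64.SG (O2 Syl Cz Cs Ns cjs Is2 Inv2 UF IsO2 fx mem_Cs mem_Cz mem_fx is2_of_sq)
open H67.SA (St cI cm mem_cjs conj_mem_cjs cm_eq_one)
open H86.SAWE (exists_step nor_of)
open H59.SO Subgroup Function H98 H86.WR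

universe u

theorem st_ZU {X : Type} [Group X] [Finite X] {U : Subgroup X} : St U ≤ St (ZU U) := fun β hβ =>
  H67.SA.mem_St_of_finite fun a ha => ⟨(hβ a).1 ha.1, fun b hb => by
    have := congrArg β (ha.2 (β.symm b) ((hβ _).2 (by simpa using hb)))
    simpa using this⟩

theorem we {X : Type} [Group X] [Finite X] {U A B : Subgroup X} {q : ℕ} (f : WF U A B q)
    {G : Type u} [Group G] [Finite G] {e e₁ e₂ : X →* G} {t : G} (b : CE e t) (c : CW e t e₁ e₂)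
    (hN : ∀ W : Subgroup G, IsPGroup 2 W → W ≤ Ns (G12 e₁ e₂) → two e₁ e₂ U ≤ W →
      Ns W ≤ Ns (G12 e₁ e₂)) : Ns (G12 e₁ e₂) = ⊤ := by
  have g := wu f b c
  by_contra hM
  have hU := H64.SG.syl_iff.1 (c.syl_two f.syl)
  obtain ⟨S, hS, hUS⟩ := exists_isSyl_le hU.isPGroup (hU.le.trans le_normalizer)
  have SU : S ≤ Ns (two e₁ e₂ U) := by
    rw [← hU.eq_of_le (hS.isPGroup.to_inf_left (K := G12 e₁ e₂)) (le_inf hUS hU.le) inf_le_right]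
    exact le_normalizer_inf le_normalizer hS.le
  obtain ⟨W, a, b', WS, aS, ta, tb, aW, bW, bM, ⟨k, ko, kW⟩, WT, -, hi, -⟩ :=
    H9.UF.jobK4 g.uf hM S (H64.SG.syl_iff.2 hS)
  have WM := WS.trans hS.le
  have hW := hS.isPGroup.to_le WS
  have hi' : ∀ i ∈ Ns W, i ∉ W → i * i ∈ W → ∃ w ∈ W, IsConj t (i * w) := fun i i1 i2 i3 => by
    obtain ⟨w, w1, m, -, w2⟩ := hi i i1 i2 i3
    exact ⟨w, w1, w2 ▸ ta.trans (H9.UF.conj_cj m a)⟩
  have nsw : ∀ s ∈ Ns (G12 e₁ e₂), IsConj t s → s ∉ Ns e₁.range := fun s s1 s2 s3 =>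
    g.ne (cj_eq_self_iff.1 (c.cjs_range.trans ((g.sw s s1 s2).symm.trans (cj_eq_self_iff.2 s3))))
  have hUW : ¬ two e₁ e₂ U ≤ W := fun h => bM (hN W hW WM h bW)
  by_cases hW1 : W ≤ Ns e₁.range
  · obtain ⟨i, i1, i2, i3, i4⟩ := exists_step hS.isPGroup WS hUS (WS.trans SU) hUW
    obtain ⟨w, w1, w2⟩ := hi' i i3 i2 i4
    exact nsw _ (hS.le (mul_mem (hUS i1) (WS w1))) w2 (mul_mem (c.G12_le_Ns (hU.le i1)) (hW1 w1))
  obtain ⟨w₀, w1, w2⟩ := SetLike.not_le_iff_exists.1 hW1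
  have sw0 := (g.pm w₀ (WM w1)).resolve_left fun h => w2 h.1
  have sw : ∀ w ∈ W, w ∉ Ns e₁.range → w * w₀⁻¹ ∈ Ns e₁.range := fun w h1 h2 => by
    have h3 := (g.pm w (WM h1)).resolve_left fun h => h2 h.1
    refine cj_eq_self_iff.1 ?_
    rw [← cj_cj]
    have : H98.cj w₀⁻¹ e₁.range = e₂.range := by
      rw [← show H98.cj w₀ e₂.range = e₁.range from sw0.2, cj_cj, inv_mul_cancel, cj_one]
    rw [this]; exact h3.2
  have U1 : U.map e₁ ≤ S := le_sup_left.trans hUS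
  have beta : ∀ B ≤ U, St U ≤ St B → ¬ B.map e₁ ≤ W →
      ∃ y ∈ B, e₁ y ∉ W ∧ e₁ y ∈ Ns W ∧ e₁ y * e₁ y ∈ W := fun B hB hSt hBW => by
    have h1 : W ⊓ Ns e₁.range ≤ Ns (B.map e₁) := fun m hm => by
      obtain ⟨β, hβ⟩ := exists_ind c.inj hm.2
      refine hβ.mem_Ns_map (hSt (hβ.st c.inj (mem_normalizer_of_cj_le ?_)))
      rintro _ ⟨x, hx, rfl⟩
      exact inf_left f.ns c (conj_mem_of_mem_normalizer (SU (WS hm.1)) (mem_sup_left hx))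
        (conj_mem_of_mem_normalizer hm.2 (map_le_range _ _ hx))
    obtain ⟨_, ⟨y, y1, rfl⟩, y2, y3, y4⟩ := exists_step hS.isPGroup (inf_le_left.trans WS)
      ((map_mono hB).trans U1) h1 fun h => hBW (h.trans inf_le_left)
    have y5 : e₁ y ∈ Ns e₁.range := le_normalizer ⟨y, rfl⟩
    have y6 : w₀ * (e₁ y)⁻¹ * w₀⁻¹ ∈ e₂.range := by
      rw [← sw0.1]; exact conj_mem_cjs.2 (inv_mem ⟨y, rfl⟩)
    refine ⟨y, y1, fun h => y2 ⟨h, y5⟩, nor_of (t := t) inf_le_left w1 ⟨mul_mem w1 w1, ?_⟩ ?_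
      (fun w h => ?_) y3 y4 (c.le_Cs y6 _ ⟨y, rfl⟩) WT hi' fun w h h' => ?_, y4.1⟩
    · refine cj_eq_self_iff.1 ?_
      rw [← cj_cj]; exact (congrArg (cjs w₀) sw0.1).trans sw0.2
    · refine mem_normalizer_of_cj_le ?_
      rintro _ ⟨w, h, rfl⟩
      refine ⟨conj_mem_of_mem_normalizer (le_normalizer w1) h.1, ?_⟩
      have h2 := ((g.pm w (WM h.1)).resolve_right fun k => g.ne (cj_eq_self_iff.1
        (c.cjs_range.trans (k.1.symm.trans (cj_eq_self_iff.2 h.2))))).2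
      rw [← sw0.2, ← H64.SG.cj_Ns]
      exact conj_mem_cjs.2 h2
    · by_cases k : w ∈ Ns e₁.range
      exacts [Or.inl ⟨h, k⟩, Or.inr (mem_inf.2 ⟨mul_mem h (inv_mem w1), sw w h k⟩)]
    · have h2 : cm (e₁ y) w₀ ∈ G12 e₁ e₂ := by
        rw [show cm (e₁ y) w₀ = e₁ y * (w₀ * (e₁ y)⁻¹ * w₀⁻¹) by unfold cm; group]
        exact mul_mem (mem_sup_left ⟨y, rfl⟩) (mem_sup_right y6)
      exact nsw _ (mul_mem (le_normalizer h2) (WM h.1)) h' (mul_mem (c.G12_le_Ns h2) h.2)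
  have fin : ∀ y ∈ U, e₁ y ∉ W → e₁ y ∈ Ns W → e₁ y * e₁ y ∈ W →
      (y * y = 1 ∨ 2 < Nat.card ↥(W ⊓ e₁.range)) →
      (∀ s e', s ∈ Ns W → (e₁ y)⁻¹ * s ∈ W → CE e' s → CW e' s e₁ (cje s e₁) →
        GW A B e' s e₁ (cje s e₁) → Cs W ≤ Ns (G12 e₁ (cje s e₁))) → False := by
    intro y y1 y2 y3 y4 y5 hC
    obtain ⟨w, h1, m, m1, h2⟩ := hi _ y3 y2 y4
    have sM : e₁ y * w ∈ Ns (G12 e₁ e₂) := hS.le (mul_mem (U1 ⟨y, y1, rfl⟩) (WS h1))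
    have mM := (H9.UF.jobK1 g.uf ta (hS.le aS)).1 m (h2 ▸ sM)
    have ts : IsConj t (e₁ y * w) := h2 ▸ ta.trans (H9.UF.conj_cj m a)
    have h3 := g.sw _ sM ts
    obtain ⟨e', c1, c2⟩ := g.chg _ ts h3
    have g' := wu f c1 c2
    have hG : G12 e₁ (cje (e₁ y * w) e₁) = G12 e₁ e₂ := by rw [G12, range_cje, h3]
    have sW : e₁ y * w ∈ Ns W := mul_mem y3 (le_normalizer h1)
    have sW' : (e₁ y)⁻¹ * (e₁ y * w) ∈ W := by rwa [inv_mul_cancel_left]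
    have kW' : (e₁ y * w * (m * b' * m⁻¹)) ^ k ∈ W := by
      rw [h2, conj_mul, conj_pow]; exact conj_mem_of_mem_normalizer m1 kW
    have h4 := H81.W2.jobW2O G e₁.range e₂.range W (e₁ y * w) (m * b' * m⁻¹) (e₁ y) k c.le_Cs' g.odd
      c1.inv.1 h3 (nsw _ sM ts) hW (fun m hm => g.pm m (WM hm)) sW
      (mul_mem (mul_mem m1 bW) (inv_mem m1))
      (H9.UF.inv2_conj g.uf.inv (tb.trans (H9.UF.conj_cj m b'))).1 ko kW' ⟨y, rfl⟩ y4 y2 sW'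
      (y5.imp_left fun h => by rw [← map_mul, h, map_one])
    obtain ⟨i, j, e1, e2, e3⟩ := H64.SG.exists_two_odd (e₁ y * w * (m * b' * m⁻¹))
    have h5 := hG ▸ hC _ e' sW sW' c1 c2 g' (h4 _ (pow_mem (mem_zpowers _) j) e3)
    obtain ⟨r, hr⟩ := e2.exists_pow ko
    have h6 : (e₁ y * w * (m * b' * m⁻¹)) ^ i ∈ W := by
      rw [← hr, ← pow_mul _ i k, mul_comm i k, pow_mul]; exact pow_mem (pow_mem kW' i) r
    have h7 := mul_mem (WM h6) h5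
    rw [← e1] at h7
    have h8 := mul_mem (mul_mem (inv_mem mM) (mul_mem (inv_mem sM) h7)) mM
    exact bM (by simpa [mul_assoc] using h8)
  by_cases ca : (ZU U).map e₁ ≤ W
  swap
  · obtain ⟨y, y1, y2, y3, y4⟩ := beta _ inf_le_left st_ZU ca
    have yy := f.sqZ y1
    refine fin y y1.1 y2 y3 y4 (Or.inl yy) fun s e' _ s2 c1 c2 g' m hm => ?_
    refine partA f c1 c2 g' y1
      (fun h => y2 (by rw [h, map_one]; exact one_mem _)) (mem_Cz.2 (hm _ ?_))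
    rwa [← map_inv, inv_eq_of_mul_eq_one_right yy] at s2
  have big : 2 < Nat.card ↥(W ⊓ e₁.range) :=
    (f.big.trans_eq (card_map_e c.inj).symm).trans_le (card_le_of_le (le_inf ca (map_le_range _ _)))
  have cc : ¬ U.map e₁ ≤ W := fun h => hUW (sup_le h (by
    rintro _ ⟨u, hu, rfl⟩
    have h1 : w₀⁻¹ * e₂ u * w₀ ∈ W := h (inf_left f.ns c
      (conj_mem_of_mem_normalizer' (SU (WS w1)) (mem_sup_right ⟨u, hu, rfl⟩))
      (mem_cjs.1 (sw0.1 ▸ ⟨u, rfl⟩)))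
    simpa [mul_assoc] using mul_mem (mul_mem w1 h1) (inv_mem w1)))
  obtain ⟨y, y1, y2, y3, y4⟩ := beta _ le_rfl le_rfl cc
  refine fin y y1 y2 y3 y4 (Or.inr big) fun s e' s1 s2 c1 c2 g' =>
    le_trans (centralizer_le ?_) (partB f c1 c2 g' y1)
  refine sup_le (sup_le ca ?_) (zpowers_le.2 s2)
  rintro _ ⟨u, hu, rfl⟩
  exact conj_mem_of_mem_normalizer s1 (ca ⟨u, hu, rfl⟩)

end H95.WS
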